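import Cfsg.Prelude.Def_RootSubgroups

/-!
Quadratic pairs: quadratic endomorphisms `a` with `1 + k a ⊆ G`, those of minimal rank, and the
space of those having the image and kernel of a given one.
-/

set_option autoImplicit false

namespace Cfsg.Agent.Quad

open Cfsg Module

variable {k : Type*} [Field k] {M : Type*} [AddCommGroup M] [Module k M]
variable {G : Subgroup (LinearMap.GeneralLinearGroup k M)}

/-- `1 + a` as an invertible map. -/
def oneAdd (a : End k M) (h : a * a = 0) : LinearMap.GeneralLinearGroup k M :=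
  ⟨1 + a, 1 - a, by linear_combination (norm := noncomm_ring) -h,
    by linear_combination (norm := noncomm_ring) -h⟩

@[simp] theorem oneAdd_val (a : End k M) (h : a * a = 0) : (oneAdd a h : End k M) = 1 + a := rfl

theorem oneAdd_inv_val (a : End k M) (h : a * a = 0) :
    (((oneAdd a h)⁻¹ : LinearMap.GeneralLinearGroup k M) : End k M) = 1 - a := rfl

theorem smul_mul_smul_zero {a b : End k M} (h : a * b = 0) (s t : k) : s • a * t • b = 0 := by
  rw [smul_mul_assoc, mul_smul_comm, h, smul_zero, smul_zero]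

theorem inv_val_of_val {g : LinearMap.GeneralLinearGroup k M} {a : End k M} (h : a * a = 0)
    (hg : (g : End k M) = 1 + a) : ((g⁻¹ : LinearMap.GeneralLinearGroup k M) : End k M) = 1 - a := by
  rw [show g = oneAdd a h from Units.ext hg, oneAdd_inv_val]

/-- `a² = 0` and `1 + k a ⊆ G`. -/
def Qe (G : Subgroup (LinearMap.GeneralLinearGroup k M)) (a : End k M) : Prop :=
  a * a = 0 ∧ ∀ s : k, ∃ g ∈ G, (g : End k M) = 1 + s • a

theorem Qe.zero : Qe G (0 : End k M) :=
  ⟨mul_zero 0, fun s => ⟨1, G.one_mem, by simp⟩⟩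

theorem Qe.smul {a : End k M} (h : Qe G a) (c : k) : Qe G (c • a) :=
  ⟨smul_mul_smul_zero h.1 c c, fun s => by rw [smul_smul]; exact h.2 _⟩

theorem Qe.neg {a : End k M} (h : Qe G a) : Qe G (-a) := by simpa using h.smul (-1)

theorem Qe.add {x y : End k M} (hx : Qe G x) (hy : Qe G y) (h1 : x * y = 0) (h2 : y * x = 0) :
    Qe G (x + y) := by
  refine ⟨by linear_combination (norm := noncomm_ring) hx.1 + hy.1 + h1 + h2, fun s => ?_⟩
  obtain ⟨g, hg, hg'⟩ := hx.2 s
  obtain ⟨h, hh, hh'⟩ := hy.2 s
  refine ⟨g * h, G.mul_mem hg hh, ?_⟩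
  rw [Units.val_mul, hg', hh', add_mul, one_mul, mul_add, mul_one, smul_mul_smul_zero h1, smul_add]
  abel

theorem Qe.conj {a : End k M} (h : Qe G a) {g : LinearMap.GeneralLinearGroup k M} (hg : g ∈ G) :
    Qe G ((g : End k M) * a * ((g⁻¹ : LinearMap.GeneralLinearGroup k M) : End k M)) := by
  refine ⟨?_, fun s => ?_⟩
  · calc _ = (g : End k M) * (a * (((g⁻¹ : LinearMap.GeneralLinearGroup k M) : End k M) * g) * a) *
          ((g⁻¹ : LinearMap.GeneralLinearGroup k M) : End k M) := by simp only [mul_assoc]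
      _ = 0 := by rw [Units.inv_mul, mul_one, h.1, mul_zero, zero_mul]
  · obtain ⟨u, hu, hu'⟩ := h.2 s
    refine ⟨g * u * g⁻¹, G.mul_mem (G.mul_mem hg hu) (G.inv_mem hg), ?_⟩
    rw [Units.val_mul, Units.val_mul, hu', mul_add, add_mul, mul_one, Units.mul_inv,
      mul_smul_comm, smul_mul_assoc]

/-- Conjugation of `x` by `1 + t b`. -/
theorem Qe.conjOne {x b : End k M} (hx : Qe G x) (hb : Qe G b) (t : k) :
    Qe G ((1 + t • b) * x * (1 - t • b)) := by
  obtain ⟨g, hg, hg'⟩ := hb.2 t
  have := hx.conj hg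
  rwa [inv_val_of_val (smul_mul_smul_zero hb.1 t t) hg', hg'] at this

theorem finrank_range_conj (g : LinearMap.GeneralLinearGroup k M) (x : End k M) :
    finrank k (LinearMap.range ((g : End k M) * x *
      ((g⁻¹ : LinearMap.GeneralLinearGroup k M) : End k M))) = finrank k (LinearMap.range x) := by
  have hsurj : LinearMap.range ((g⁻¹ : LinearMap.GeneralLinearGroup k M) : End k M) = ⊤ :=
    LinearMap.range_eq_top.2 fun m => ⟨(g : End k M) m, LinearMap.congr_fun (Units.inv_mul g) m⟩
  have hinj : Function.Injective (g : End k M) :=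
    Function.LeftInverse.injective (g := ((g⁻¹ : LinearMap.GeneralLinearGroup k M) : End k M))
      (LinearMap.congr_fun (Units.inv_mul g))
  rw [mul_assoc, Module.End.mul_eq_comp (g : End k M), LinearMap.range_comp,
    Module.End.mul_eq_comp x, LinearMap.range_comp, hsurj, Submodule.map_top]
  exact (Submodule.equivMapOfInjective _ hinj _).finrank_eq.symm

/-- `a` is quadratic with `1 + k a ⊆ G`, of least rank among such. -/
structure IsMinQ (G : Subgroup (LinearMap.GeneralLinearGroup k M)) (a : End k M) : Prop where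
  qe : Qe G a
  ne_zero : a ≠ 0
  le : ∀ x, Qe G x → x ≠ 0 → finrank k (LinearMap.range a) ≤ finrank k (LinearMap.range x)

theorem IsMinQ.sq {a : End k M} (h : IsMinQ G a) : a * a = 0 := h.qe.1

theorem IsMinQ.range_le_ker {a : End k M} (h : IsMinQ G a) : LinearMap.range a ≤ LinearMap.ker a := by
  rintro _ ⟨m, rfl⟩
  exact LinearMap.congr_fun h.sq m

theorem IsMinQ.rank_eq {a b : End k M} (ha : IsMinQ G a) (hb : IsMinQ G b) :
    finrank k (LinearMap.range a) = finrank k (LinearMap.range b) :=
  le_antisymm (ha.le b hb.qe hb.ne_zero) (hb.le a ha.qe ha.ne_zero)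

theorem IsMinQ.of_le {a : End k M} (ha : IsMinQ G a) {x : End k M} (hx : Qe G x) (hx0 : x ≠ 0)
    (hle : finrank k (LinearMap.range x) ≤ finrank k (LinearMap.range a)) : IsMinQ G x :=
  ⟨hx, hx0, fun y hy hy0 => hle.trans (ha.le y hy hy0)⟩

theorem IsMinQ.conj {a : End k M} (h : IsMinQ G a) {g : LinearMap.GeneralLinearGroup k M} (hg : g ∈ G) :
    IsMinQ G ((g : End k M) * a * ((g⁻¹ : LinearMap.GeneralLinearGroup k M) : End k M)) := by
  refine h.of_le (h.qe.conj hg) (fun e => h.ne_zero ?_) (finrank_range_conj g a).le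
  have := congrArg (fun z => ((g⁻¹ : LinearMap.GeneralLinearGroup k M) : End k M) * z * (g : End k M)) e
  simpa [mul_assoc] using this

theorem IsMinQ.smul {a : End k M} (h : IsMinQ G a) {c : k} (hc : c ≠ 0) : IsMinQ G (c • a) :=
  h.of_le (h.qe.smul c) (smul_ne_zero hc h.ne_zero) (by rw [LinearMap.range_smul a c hc])

theorem IsMinQ.conjOne {x b : End k M} (hx : IsMinQ G x) (hb : Qe G b) (t : k) :
    IsMinQ G ((1 + t • b) * x * (1 - t • b)) := by
  obtain ⟨g, hg, hg'⟩ := hb.2 t
  have := hx.conj hg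
  rwa [inv_val_of_val (smul_mul_smul_zero hb.1 t t) hg', hg'] at this

theorem isMinQ_of_mem {σ : LinearMap.GeneralLinearGroup k M} (hσ : σ ∈ minimalQuadraticElements G) :
    IsMinQ G ((σ : End k M) - 1) := by
  refine ⟨⟨hσ.1.2.1.1, fun s => ?_⟩, hσ.1.2.1.2, fun x hx hx0 => ?_⟩
  · exact ⟨oneAdd _ (smul_mul_smul_zero hσ.1.2.1.1 s s), hσ.1.2.2 ⟨s, rfl⟩, rfl⟩
  · obtain ⟨g, hg, hg'⟩ := hx.2 1
    rw [one_smul] at hg'
    have e : (g : End k M) - 1 = x := by rw [hg', add_sub_cancel_left]
    have hq : g ∈ quadraticElements G := by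
      refine ⟨hg, ⟨?_, ?_⟩, ?_⟩
      · show ((g : End k M) - 1) * ((g : End k M) - 1) = 0
        rw [e]; exact hx.1
      · show (g : End k M) - 1 ≠ 0
        rwa [e]
      · rintro τ ⟨c, hc⟩
        obtain ⟨u, hu, hu'⟩ := hx.2 c
        have : τ = u := Units.ext (by rw [hc, hu']; congr 2)
        rw [this]; exact hu
    have := hσ.2 g hq
    unfold commutatorRank at this
    rw [← e]
    exact this

theorem mem_minimal_of_isMinQ {τ : LinearMap.GeneralLinearGroup k M}
    (h : IsMinQ G ((τ : End k M) - 1)) : τ ∈ minimalQuadraticElements G := by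
  have key : scalarFamily τ ⊆ (G : Set _) := by
    rintro ρ ⟨c, hc⟩
    obtain ⟨u, hu, hu'⟩ := h.qe.2 c
    have : ρ = u := Units.ext (hc.trans hu'.symm)
    rw [this]; exact hu
  refine ⟨⟨key ⟨1, by rw [one_smul]; exact (add_sub_cancel _ _).symm⟩, ⟨h.sq, h.ne_zero⟩, key⟩,
    fun ρ hρ => ?_⟩
  have hq : Qe G ((ρ : End k M) - 1) :=
    ⟨hρ.2.1.1, fun s => ⟨oneAdd _ (smul_mul_smul_zero hρ.2.1.1 s s), hρ.2.2 ⟨s, rfl⟩, rfl⟩⟩
  exact h.le _ hq hρ.2.1.2

/-- The quadratic endomorphisms with scalar family in `G` acting like `a`. -/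
def amod {a : End k M} (ha : IsMinQ G a) : Submodule k (End k M) where
  carrier := {x | Qe G x ∧ LinearMap.range x ≤ LinearMap.range a ∧ LinearMap.ker a ≤ LinearMap.ker x}
  zero_mem' := ⟨Qe.zero, by simp, by simp⟩
  smul_mem' := fun c x hx => ⟨hx.1.smul c,
    (by rintro _ ⟨m, rfl⟩; exact Submodule.smul_mem _ c (hx.2.1 (LinearMap.mem_range_self x m))),
    fun m hm => by
      rw [LinearMap.mem_ker, LinearMap.smul_apply, LinearMap.mem_ker.1 (hx.2.2 hm), smul_zero]⟩
  add_mem' := fun {x y} hx hy => by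
    have h : ∀ {u v : End k M}, LinearMap.ker a ≤ LinearMap.ker u →
        LinearMap.range v ≤ LinearMap.range a → u * v = 0 := fun {u v} hu hv =>
      LinearMap.ext fun m => hu (ha.range_le_ker (hv (LinearMap.mem_range_self v m)))
    refine ⟨hx.1.add hy.1 (h hx.2.2 hy.2.1) (h hy.2.2 hx.2.1), ?_, fun m hm => ?_⟩
    · rintro _ ⟨m, rfl⟩
      exact add_mem (hx.2.1 (LinearMap.mem_range_self x m)) (hy.2.1 (LinearMap.mem_range_self y m))
    · rw [LinearMap.mem_ker, LinearMap.add_apply, LinearMap.mem_ker.1 (hx.2.2 hm),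
        LinearMap.mem_ker.1 (hy.2.2 hm), add_zero]

theorem mem_amod {a x : End k M} {ha : IsMinQ G a} :
    x ∈ amod ha ↔ Qe G x ∧ LinearMap.range x ≤ LinearMap.range a ∧ LinearMap.ker a ≤ LinearMap.ker x :=
  Iff.rfl

theorem self_mem_amod {a : End k M} (ha : IsMinQ G a) : a ∈ amod ha := ⟨ha.qe, le_rfl, le_rfl⟩

theorem mul_eq_zero_of_amod {a x y : End k M} {ha : IsMinQ G a} (hx : x ∈ amod ha) (hy : y ∈ amod ha) :
    x * y = 0 :=
  LinearMap.ext fun m => hx.2.2 (ha.range_le_ker (hy.2.1 (LinearMap.mem_range_self y m)))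

variable [FiniteDimensional k M]

theorem isMinQ_of_amod {a x : End k M} {ha : IsMinQ G a} (hx : x ∈ amod ha) (h0 : x ≠ 0) :
    IsMinQ G x := ha.of_le hx.1 h0 (Submodule.finrank_mono hx.2.1)

theorem range_eq_of_amod {a x : End k M} {ha : IsMinQ G a} (hx : x ∈ amod ha) (h0 : x ≠ 0) :
    LinearMap.range x = LinearMap.range a :=
  Submodule.eq_of_le_of_finrank_le hx.2.1 (ha.le x hx.1 h0)

theorem ker_eq_of_amod {a x : End k M} {ha : IsMinQ G a} (hx : x ∈ amod ha) (h0 : x ≠ 0) :
    LinearMap.ker x = LinearMap.ker a := by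
  refine (Submodule.eq_of_le_of_finrank_le hx.2.2 ?_).symm
  have h1 := LinearMap.finrank_range_add_finrank_ker x
  have h2 := LinearMap.finrank_range_add_finrank_ker a
  rw [range_eq_of_amod hx h0] at h1
  omega

theorem amod_eq {a x : End k M} {ha : IsMinQ G a} (hx : x ∈ amod ha) (h0 : x ≠ 0)
    (hX : IsMinQ G x) : amod hX = amod ha := by
  ext z
  rw [mem_amod, mem_amod, range_eq_of_amod hx h0, ker_eq_of_amod hx h0]

/-- `E(σ)` in terms of `amod`. -/
theorem mem_sameAction_iff {σ τ : LinearMap.GeneralLinearGroup k M}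
    (hσ : σ ∈ minimalQuadraticElements G) :
    τ ∈ sameActionSubgroup G σ ↔ (τ : End k M) - 1 ∈ amod (isMinQ_of_mem hσ) := by
  set hA := isMinQ_of_mem hσ with hAdef
  constructor
  · intro h
    induction h using Subgroup.closure_induction with
    | mem x hx => exact ⟨(isMinQ_of_mem hx.1).qe, hx.2.2.le, hx.2.1.ge⟩
    | one => simp
    | mul x y _ _ hx hy =>
      have e : ((x * y : LinearMap.GeneralLinearGroup k M) : End k M) - 1 =
          ((x : End k M) - 1) + ((y : End k M) - 1) := by
        rw [Units.val_mul]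
        linear_combination (norm := noncomm_ring) mul_eq_zero_of_amod hx hy
      rw [e]
      exact add_mem hx hy
    | inv x _ hx =>
      have e : ((x⁻¹ : LinearMap.GeneralLinearGroup k M) : End k M) - 1 = -((x : End k M) - 1) := by
        rw [inv_val_of_val hx.1.1 (add_sub_cancel _ _).symm]
        abel
      rw [e]
      exact neg_mem hx
  · intro h
    by_cases h0 : (τ : End k M) - 1 = 0
    · rw [show τ = 1 from Units.ext (sub_eq_zero.1 h0)]
      exact one_mem _
    · exact Subgroup.subset_closure ⟨mem_minimal_of_isMinQ (isMinQ_of_amod h h0),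
        ker_eq_of_amod h h0, range_eq_of_amod h h0⟩

theorem two_ne_zero_of_ringChar (hk : ringChar k ≠ 2) : (2 : k) ≠ 0 := Ring.two_ne_zero hk

/-- If two minimal quadratic maps commute then the second commutes with everything acting like the
first. -/
theorem comm_amod (hk : (2 : k) ≠ 0) {a b : End k M} (ha : IsMinQ G a) (hb : IsMinQ G b)
    (hab : a * b = b * a) {x : End k M} (hx : x ∈ amod ha) : b * x = x * b := by
  have hbR : ∀ v ∈ LinearMap.range a, b v ∈ LinearMap.range a := by
    rintro _ ⟨m, rfl⟩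
    exact ⟨b m, LinearMap.congr_fun hab m⟩
  have hbK : ∀ v ∈ LinearMap.ker a, b v ∈ LinearMap.ker a := fun v hv => by
    rw [LinearMap.mem_ker] at hv ⊢
    rw [← Module.End.mul_apply, hab, Module.End.mul_apply, hv, map_zero]
  have hc : ∀ t : k, (1 + t • b) * x * (1 - t • b) ∈ amod ha := fun t =>
    ⟨hx.1.conjOne hb.qe t, by
      rintro _ ⟨m, rfl⟩
      simp only [Module.End.mul_apply, LinearMap.add_apply, Module.End.one_apply, LinearMap.smul_apply]
      have h1 := hx.2.1 (LinearMap.mem_range_self x ((1 - t • b) m))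
      exact add_mem h1 (Submodule.smul_mem _ t (hbR _ h1)), fun m hm => by
      simp only [LinearMap.mem_ker, Module.End.mul_apply, LinearMap.sub_apply, Module.End.one_apply,
        LinearMap.smul_apply]
      have h1 : m - t • b m ∈ LinearMap.ker x :=
        hx.2.2 (sub_mem hm (Submodule.smul_mem _ t (hbK m hm)))
      rw [LinearMap.mem_ker.1 h1, map_zero]⟩
  have e : ∀ t : k, (1 + t • b) * x * (1 - t • b) = x + t • (b * x - x * b) - (t * t) • (b * x * b) := by
    intro t
    simp only [add_mul, mul_sub, one_mul, mul_one, smul_mul_assoc, mul_smul_comm, smul_sub, smul_add, smul_smul]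
    abel
  have hz : b * x - x * b ∈ amod ha ∧ b * x * b ∈ amod ha := by
    have h1 := hc 1
    have h2 := hc (-1)
    rw [e] at h1 h2
    simp only [mul_one, one_smul, neg_mul_neg, neg_smul] at h1 h2
    refine ⟨?_, ?_⟩
    · have := Submodule.smul_mem _ (2⁻¹ : k) (sub_mem h1 h2)
      convert this using 1
      rw [eq_inv_smul_iff₀ hk, two_smul]
      abel
    · have := Submodule.smul_mem _ (2⁻¹ : k) (sub_mem (add_mem hx hx) (add_mem h1 h2))
      convert this using 1
      rw [eq_inv_smul_iff₀ hk, two_smul]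
      abel
  have hy0 : b * x * b = 0 := by
    by_contra hy
    have h1 : LinearMap.range a = LinearMap.range b := by
      refine Submodule.eq_of_le_of_finrank_le ?_ (hb.rank_eq ha).le
      rw [← range_eq_of_amod hz.2 hy, mul_assoc]
      exact LinearMap.range_comp_le_range _ _
    refine hy (LinearMap.ext fun m => ?_)
    rw [mul_assoc, Module.End.mul_apply, Module.End.mul_apply,
      LinearMap.mem_ker.1 (hx.2.2 (ha.range_le_ker (h1 ▸ LinearMap.mem_range_self b m))), map_zero,
      LinearMap.zero_apply]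
  by_contra hne
  have hz0 : b * x - x * b ≠ 0 := sub_ne_zero.2 hne
  have hbz : b * (b * x - x * b) = 0 := by
    linear_combination (norm := noncomm_ring) hb.sq * x - hy0
  have hzb : (b * x - x * b) * b = 0 := by
    linear_combination (norm := noncomm_ring) hy0 - x * hb.sq
  refine hz0 (sub_eq_zero.2 ?_)
  have h1 : b * x = 0 := by
    refine LinearMap.ext fun m => ?_
    have h : x m ∈ LinearMap.range (b * x - x * b) := by
      rw [range_eq_of_amod hz.1 hz0]; exact hx.2.1 (LinearMap.mem_range_self x m)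
    obtain ⟨n, hn⟩ := h
    rw [Module.End.mul_apply, ← hn, ← Module.End.mul_apply, hbz]
    rfl
  have h2 : x * b = 0 := by
    refine LinearMap.ext fun m => hx.2.2 ?_
    rw [← ker_eq_of_amod hz.1 hz0]
    exact LinearMap.congr_fun hzb m
  rw [h1, h2]

/-- Commuting minimal quadratic maps give elementwise commuting spaces. -/
theorem comm_amod_amod (hk : (2 : k) ≠ 0) {a b : End k M} (ha : IsMinQ G a) (hb : IsMinQ G b)
    (hab : a * b = b * a) {x y : End k M} (hx : x ∈ amod ha) (hy : y ∈ amod hb) : x * y = y * x := by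
  by_cases h0 : x = 0
  · simp [h0]
  exact comm_amod hk hb (isMinQ_of_amod hx h0) (comm_amod hk ha hb hab hx) hy

/-- If `1 + a` normalises the space of `b` then `a` and `b` commute. -/
theorem exists_comm_of_normalizes (hk : (2 : k) ≠ 0) {a b : End k M} (ha : IsMinQ G a) (hb : IsMinQ G b)
    (hn : (1 + a) * b * (1 - a) ∈ amod hb) : a * b = b * a := by
  have hne : (1 + a) * b * (1 - a) ≠ 0 := by
    have := (hb.conjOne ha.qe 1).ne_zero
    simpa using this
  have hR : LinearMap.range b = LinearMap.range ((1 + a) * b) := by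
    refine ((range_eq_of_amod hn hne).symm).trans ?_
    rw [Module.End.mul_eq_comp _ (1 - a), LinearMap.range_comp]
    have : LinearMap.range (1 - a) = ⊤ := LinearMap.range_eq_top.2 fun m => ⟨(1 + a) m, by
      rw [← Module.End.mul_apply]
      have : (1 - a) * (1 + a) = 1 := by linear_combination (norm := noncomm_ring) -ha.sq
      rw [this]; rfl⟩
    rw [this, Submodule.map_top]
  have haR : ∀ v ∈ LinearMap.range b, a v ∈ LinearMap.range b := by
    rintro _ ⟨m, rfl⟩
    have h1 : ((1 + a) * b) m ∈ LinearMap.range b := hR ▸ LinearMap.mem_range_self _ m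
    have := sub_mem h1 (LinearMap.mem_range_self b m)
    simpa using this
  have haK : ∀ v ∈ LinearMap.ker b, a v ∈ LinearMap.ker b := by
    intro v hv
    have h1 : ((1 + a) * b * (1 - a)) v = 0 := hn.2.2 hv
    rw [LinearMap.mem_ker] at hv ⊢
    have h2 : (b * (1 - a)) v = 0 := by
      have h3 : ((1 - a) * ((1 + a) * b * (1 - a))) v = 0 := by
        rw [Module.End.mul_apply, h1, map_zero]
      have e : (1 - a) * ((1 + a) * b * (1 - a)) = b * (1 - a) := by
        linear_combination (norm := noncomm_ring) -ha.sq * (b * (1 - a))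
      rwa [e] at h3
    simpa [hv] using h2
  have hc : ∀ t : k, ∀ y ∈ amod hb, (1 + t • a) * y * (1 - t • a) ∈ amod hb := fun t y hy =>
    ⟨hy.1.conjOne ha.qe t, by
      rintro _ ⟨m, rfl⟩
      simp only [Module.End.mul_apply, LinearMap.add_apply, Module.End.one_apply, LinearMap.smul_apply]
      have h1 := hy.2.1 (LinearMap.mem_range_self y ((1 - t • a) m))
      exact add_mem h1 (Submodule.smul_mem _ t (haR _ h1)), fun m hm => by
      simp only [LinearMap.mem_ker, Module.End.mul_apply, LinearMap.sub_apply, Module.End.one_apply,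
        LinearMap.smul_apply]
      have h1 : m - t • a m ∈ LinearMap.ker y :=
        hy.2.2 (sub_mem hm (Submodule.smul_mem _ t (haK m hm)))
      rw [LinearMap.mem_ker.1 h1, map_zero]⟩
  have key : ∀ y ∈ amod hb, a * y - y * a ∈ amod hb ∧ a * y * a ∈ amod hb := by
    intro y hy
    have e : ∀ t : k, (1 + t • a) * y * (1 - t • a) = y + t • (a * y - y * a) - (t * t) • (a * y * a) := by
      intro t
      simp only [add_mul, mul_sub, one_mul, mul_one, smul_mul_assoc, mul_smul_comm, smul_sub, smul_add, smul_smul]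
      abel
    have h1 := hc 1 y hy
    have h2 := hc (-1) y hy
    rw [e] at h1 h2
    simp only [mul_one, one_smul, neg_mul_neg, neg_smul] at h1 h2
    refine ⟨?_, ?_⟩
    · have := Submodule.smul_mem _ (2⁻¹ : k) (sub_mem h1 h2)
      convert this using 1
      rw [eq_inv_smul_iff₀ hk, two_smul]
      abel
    · have := Submodule.smul_mem _ (2⁻¹ : k) (sub_mem (add_mem hy hy) (add_mem h1 h2))
      convert this using 1
      rw [eq_inv_smul_iff₀ hk, two_smul]
      abel
  obtain ⟨hz, hw⟩ := key b (self_mem_amod hb)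
  have done : ∀ y ∈ amod hb, y ≠ 0 → a * y = y * a → a * b = b * a := fun y hy h0 he =>
    comm_amod_amod hk ha (isMinQ_of_amod hy h0) he (self_mem_amod ha)
      (by rw [amod_eq hy h0]; exact self_mem_amod hb)
  by_cases h1 : a * b * a = 0
  · by_cases h2 : a * b - b * a = 0
    · exact sub_eq_zero.1 h2
    refine done _ hz h2 ?_
    linear_combination (norm := noncomm_ring) ha.sq * b + b * ha.sq - 2 • h1
  · refine done _ hw h1 ?_
    linear_combination (norm := noncomm_ring) ha.sq * (b * a) - (a * b) * ha.sq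

end Cfsg.Agent.Quad
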