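import Cfsg.Agent.Lib.Quad.Components

/-!
A quadratic pair is a central product of quasisimple groups generated by quadratic elements.
-/

set_option autoImplicit false

namespace Cfsg.Agent.Quad

open Cfsg Module Relation
open scoped commutatorElement

variable {k : Type*} [Field k] {M : Type*} [AddCommGroup M] [Module k M] [FiniteDimensional k M]
variable {G G' : Subgroup (LinearMap.GeneralLinearGroup k M)} {a x : End k M}

/-- Three roots kill a quadratic polynomial with coefficients in a vector space. -/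
theorem eq_zero_of_three {V : Type*} [AddCommGroup V] [Module k V] {A B C : V} {t1 t2 t3 : k} (h12 : t1 ≠ t2)
    (h13 : t1 ≠ t3) (h23 : t2 ≠ t3) (e1 : A + t1 • B + (t1 * t1) • C = 0)
    (e2 : A + t2 • B + (t2 * t2) • C = 0) (e3 : A + t3 • B + (t3 * t3) • C = 0) : A = 0 := by
  have key : ∀ s t : k, s ≠ t → A + s • B + (s * s) • C = 0 → A + t • B + (t * t) • C = 0 →
      B + (s + t) • C = 0 := by
    intro s t hst h1 h2
    have h : (s - t) • (B + (s + t) • C) = 0 := by
      rw [smul_add, smul_smul, show (s - t) * (s + t) = s * s - t * t by ring, sub_smul, sub_smul]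
      linear_combination (norm := abel) h1 - h2
    exact (smul_eq_zero.1 h).resolve_left (sub_ne_zero.2 hst)
  have k12 := key t1 t2 h12 e1 e2
  have k13 := key t1 t3 h13 e1 e3
  have hC : C = 0 := by
    have h : (t2 - t3) • C = 0 := by
      simp only [sub_smul, add_smul] at k12 k13 ⊢
      linear_combination (norm := abel) k12 - k13
    exact (smul_eq_zero.1 h).resolve_left (sub_ne_zero.2 h23)
  rw [hC, smul_zero, add_zero] at k12
  rw [hC, k12, smul_zero, smul_zero, add_zero, add_zero] at e1
  exact e1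

theorem mem_sameAction_of_amod (ha : IsMinQ G a) :
    ∃ σ ∈ minimalQuadraticElements G, (σ : End k M) - 1 = a :=
  ⟨oneAdd a ha.sq, mem_minimal_of_isMinQ (by rw [oneAdd_val, add_sub_cancel_left]; exact ha),
    by rw [oneAdd_val, add_sub_cancel_left]⟩

variable (hk2 : ringChar k ≠ 2) (hk3 : Nat.card k ≠ 3)
include hk2 hk3

omit hk2 [FiniteDimensional k M] in
theorem exists_avoiding (hk2 : ringChar k ≠ 2) (t : k) : ∃ c : k, c ≠ 0 ∧ c ≠ t ∧ c ≠ -t ∧ c ≠ -(t + t) := by
  classical
  by_contra hcon
  push Not at hcon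
  let f : Fin 4 → k := ![0, t, -t, -(t + t)]
  have hs : Function.Surjective f := fun c => by
    by_cases h0 : c = 0
    · exact ⟨0, h0.symm⟩
    by_cases h1 : c = t
    · exact ⟨1, h1.symm⟩
    by_cases h2 : c = -t
    · exact ⟨2, h2.symm⟩
    exact ⟨3, (hcon c h0 h1 h2).symm⟩
  have := Finite.of_surjective f hs
  have h5 := five_le_card hk2 hk3
  have h4 := Nat.card_le_card_of_surjective f hs
  rw [Nat.card_fin] at h4
  omega

variable (hN : NoUnip G)
include hN

/-- A quadratic element fixes every component. -/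
theorem comp_conj_quad (hx : Qe G x) {A : Subgroup (LinearMap.GeneralLinearGroup k M)}
    (hA : A ∈ quadraticRootSubgroups G) {t : k} {u : LinearMap.GeneralLinearGroup k M}
    (hu : (u : End k M) = 1 + t • x) :
    ReflTransGen (FAdj (quadraticRootSubgroups G)) A (conjBy A u) := by
  have hk := Ring.two_ne_zero hk2
  set U : k → LinearMap.GeneralLinearGroup k M := fun t => oneAdd (t • x) (smul_mul_smul_zero hx.1 t t) with hU
  have hUG : ∀ t, U t ∈ G := fun t => mem_qe_of_eq hx rfl
  have hUu : u = U t := Units.ext hu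
  have hadd : ∀ s t, U (s + t) = U s * U t := fun s t => Units.ext (by
    simp only [hU, Units.val_mul, oneAdd_val, mul_add, add_mul, one_mul, mul_one,
      smul_mul_smul_zero hx.1, add_zero, add_smul]
    abel)
  set R := ReflTransGen (FAdj (quadraticRootSubgroups G))
  let S : AddSubgroup k :=
    { carrier := {t | R A (conjBy A (U t))}
      zero_mem' := by
        have : U 0 = 1 := Units.ext (by simp [hU])
        show R A (conjBy A (U 0))
        rw [this, RootLib.conjBy_one]
      add_mem' := fun {p q} hp hq => by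
        show R A (conjBy A (U (p + q)))
        rw [hadd, ← RootLib.conjBy_conjBy]
        exact hp.trans (conj_reach hk2 hk3 hN (hUG p) hq)
      neg_mem' := fun {p} hp => by
        show R A (conjBy A (U (-p)))
        have h := conj_reach hk2 hk3 hN (hUG (-p)) hp
        rw [RootLib.conjBy_conjBy, ← hadd, neg_add_cancel] at h
        have h0 : U 0 = 1 := Units.ext (by simp [hU])
        rw [h0, RootLib.conjBy_one] at h
        exact RootLib.reach_symm h }
  by_contra hcon
  have htS : t ∉ S := fun h => hcon (by rw [hUu]; exact h)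
  obtain ⟨F, hF, hAF⟩ := exists_rankOne hk2 hk3 hN hA
  obtain ⟨σ, hσ, rfl⟩ := hA
  obtain ⟨τ, hτ, rfl⟩ := hF
  set a := (σ : End k M) - 1 with ha'
  set b := (τ : End k M) - 1 with hb'
  have hab := not_nilpotent_of_rankOne hk2 hk3 hN hσ hτ hAF
  have hout : ∀ s, s ∉ S → (a * b - b * a) + s • ((x * a - a * x) * b - b * (x * a - a * x)) +
      (s * s) • (b * (x * a * x) - (x * a * x) * b) = 0 := by
    intro s hs
    rcases commute_or_reach hk2 hk3 hN (⟨_, conj_mem_minimal hσ (hUG s), conjBy_sameAction hσ (hUG s)⟩ :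
      conjBy (sameActionSubgroup G σ) (U s) ∈ quadraticRootSubgroups G) ⟨τ, hτ, rfl⟩ with h | h
    · have h' := RootLib.bracket_eq_bot_iff.1 h _ (RootLib.conjBy_mem_conjBy (self_mem_sameAction hσ)) τ
        (self_mem_sameAction hτ)
      have hv := congrArg Units.val h'
      rw [Units.val_mul _ τ, Units.val_mul τ] at hv
      have hw : ((U s * σ * (U s)⁻¹ : LinearMap.GeneralLinearGroup k M) : End k M) - 1 =
          (1 + s • x) * a * (1 - s • x) := by
        rw [conj_sub_one]
        simp only [hU, oneAdd_val, oneAdd_inv_val, ha']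
      have hh : ((1 + s • x) * a * (1 - s • x)) * b - b * ((1 + s • x) * a * (1 - s • x)) = 0 := by
        rw [← hw, hb']; linear_combination (norm := noncomm_ring) hv
      rw [conjOne_eq] at hh
      simp only [add_mul, sub_mul, mul_add, mul_sub, smul_mul_assoc, mul_smul_comm, smul_sub] at hh ⊢
      linear_combination (norm := abel) hh
    · exact absurd ((ReflTransGen.single (r := FAdj (quadraticRootSubgroups G))
        ⟨⟨σ, hσ, rfl⟩, ⟨τ, hτ, rfl⟩, hAF⟩).trans (RootLib.reach_symm h)) hs
  obtain ⟨c, hc0, hct, hct', hc2⟩ := exists_avoiding hk3 hk2 t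
  have htne : t ≠ -t := fun e => htS (by
    have h2 : (2 : k) * t = 0 := by linear_combination e
    rw [(mul_eq_zero.1 h2).resolve_left hk]
    exact S.zero_mem)
  have hnt : -t ∉ S := fun h => htS (by simpa using S.neg_mem h)
  obtain ⟨t3, h3, h13, h23⟩ : ∃ t3, t3 ∉ S ∧ t ≠ t3 ∧ -t ≠ t3 := by
    by_cases hcS : c ∈ S
    · refine ⟨c + t, fun h => htS (by simpa using S.sub_mem h hcS), fun e => hc0 ?_, fun e => hc2 ?_⟩
      · linear_combination -e
      · linear_combination -e
    · exact ⟨c, hcS, Ne.symm hct, Ne.symm hct'⟩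
  exact hab (nilpotent_of_comm (isMinQ_of_mem hσ).sq
    (sub_eq_zero.1 (eq_zero_of_three htne h13 h23 (hout t htS) (hout _ hnt) (hout t3 h3))))

theorem conjBy_compGroup_quad (hx : Qe G x) {A : Subgroup (LinearMap.GeneralLinearGroup k M)}
    {t : k} {u : LinearMap.GeneralLinearGroup k M} (hu : (u : End k M) = 1 + t • x) :
    conjBy (compGroup G A) u = compGroup G A := by
  have hu' : ((u⁻¹ : LinearMap.GeneralLinearGroup k M) : End k M) = 1 + (-t) • x := by
    rw [inv_val_of_val (smul_mul_smul_zero hx.1 t t) hu, neg_smul, sub_eq_add_neg]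
  have hle : ∀ (v : LinearMap.GeneralLinearGroup k M) (r : k), (v : End k M) = 1 + r • x →
      conjBy (compGroup G A) v ≤ compGroup G A := fun v r hv => by
    simp only [compGroup, conjBy, Subgroup.map_iSup]
    exact iSup₂_le fun C hC => le_iSup₂_of_le (conjBy C v)
      ⟨quadraticRoot_conj hC.1 (mem_qe_of_eq hx hv), hC.2.trans (comp_conj_quad hk2 hk3 hN hx hC.1 hv)⟩ le_rfl
  refine le_antisymm (hle u t hu) fun y hy => ?_
  exact ⟨u⁻¹ * y * u⁻¹⁻¹, hle _ _ hu' ⟨y, hy, rfl⟩, by simp [mul_assoc]⟩

omit hk2 hk3 hN in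
/-- The ambient situation of the induction. -/
theorem noUnip_of_cocentral (hirr : IsIrreducibleFor G) (hle : G' ≤ G)
    (hco : G' ⊔ (G ⊓ Subgroup.centralizer (G' : Set (LinearMap.GeneralLinearGroup k M))) = G) : NoUnip G' := by
  intro U hUG hn hu
  refine noUnip_of_irreducible hirr U (hUG.trans hle) (fun g hg => ?_) hu
  rw [RootLib.conjBy_eq_iff_mem_normalizer]
  rw [← hco] at hg
  have p1 : G' ≤ Subgroup.normalizer (U : Set (LinearMap.GeneralLinearGroup k M)) := fun g hg =>
    RootLib.conjBy_eq_iff_mem_normalizer.1 (hn g hg)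
  have p2 : G ⊓ Subgroup.centralizer (G' : Set (LinearMap.GeneralLinearGroup k M)) ≤
      Subgroup.normalizer (U : Set (LinearMap.GeneralLinearGroup k M)) := fun g hg =>
    RootLib.conjBy_eq_iff_mem_normalizer.1 (RootLib.conjBy_eq_of_commute fun u hu' =>
      (Subgroup.mem_centralizer_iff.1 hg.2 u (hUG hu')).symm)
  exact sup_le p1 p2 hg

omit hN in
/-- An element commuting with a component and killed by one of its members is zero. -/
theorem eq_zero_of_annihilated (hirr : IsIrreducibleFor G) (hle : G' ≤ G)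
    (hco : G' ⊔ (G ⊓ Subgroup.centralizer (G' : Set (LinearMap.GeneralLinearGroup k M))) = G)
    (hgen : G' = Subgroup.closure {g : LinearMap.GeneralLinearGroup k M | ∃ (x : End k M) (t : k), Qe G' x ∧ (g : End k M) = 1 + t • x})
    (ha : IsMinQ G' a) {σ : LinearMap.GeneralLinearGroup k M} (hσ : σ ∈ minimalQuadraticElements G')
    (hσa : (σ : End k M) - 1 = a) {z : End k M} (haz : a * z = 0)
    (hcomm : ∀ g ∈ compGroup G' (sameActionSubgroup G' σ), (g : End k M) * z = z * (g : End k M)) : z = 0 := by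
  have hN' := noUnip_of_cocentral hirr hle hco
  set A := sameActionSubgroup G' σ with hA
  have hAS : A ∈ quadraticRootSubgroups G' := ⟨σ, hσ, rfl⟩
  set H := compGroup G' A with hH
  have hAz : ∀ g ∈ A, ((g : End k M) - 1) * z = 0 := fun g hg => by
    have hy := (mem_sameAction_iff hσ).1 hg
    rw [amod_congr hσa (isMinQ_of_mem hσ) ha] at hy
    exact LinearMap.ext fun m => hy.2.2 (LinearMap.congr_fun haz m)
  obtain ⟨-, -, hconj⟩ := (component_structure hk2 hk3 hN' hAS).2
  have hallz : ∀ g ∈ H, ((g : End k M) - 1) * z = 0 := by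
    intro g hg
    rw [hH, compGroup] at hg
    have hg' : g ∈ Subgroup.closure (⋃ B ∈ comp G' A, (B : Set (LinearMap.GeneralLinearGroup k M))) := by
      simpa only [Subgroup.closure_iUnion, Subgroup.closure_eq] using hg
    clear hg
    induction hg' using Subgroup.closure_induction with
    | mem g hg =>
      simp only [Set.mem_iUnion, SetLike.mem_coe] at hg
      obtain ⟨B, hB, hgB⟩ := hg
      obtain ⟨h, hh⟩ := hconj (A.subgroupOf H) ⟨A, self_mem_comp hAS, rfl⟩ (B.subgroupOf H) ⟨B, hB, rfl⟩
      have hB' := congrArg (Subgroup.map H.subtype) hh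
      rw [RootLib.map_conjBy, Subgroup.map_subgroupOf_eq_of_le (le_compGroup (self_mem_comp hAS)),
        Subgroup.map_subgroupOf_eq_of_le (le_compGroup hB)] at hB'
      rw [hB'] at hgB
      obtain ⟨w, hw, rfl⟩ := hgB
      show (((h.1 * w * h.1⁻¹ : LinearMap.GeneralLinearGroup k M) : End k M) - 1) * z = 0
      rw [conj_sub_one, mul_assoc, hcomm _ (inv_mem h.2), ← mul_assoc, mul_assoc (h.1 : End k M), hAz w hw,
        mul_zero, zero_mul]
    | one => simp
    | mul u v _ _ hu hv =>
      rw [Units.val_mul]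
      linear_combination (norm := noncomm_ring) (u : End k M) * hv + hu
    | inv u _ hu =>
      have e2 : ((u⁻¹ : LinearMap.GeneralLinearGroup k M) : End k M) - 1 =
          -(((u⁻¹ : LinearMap.GeneralLinearGroup k M) : End k M) * ((u : End k M) - 1)) := by
        rw [mul_sub, Units.inv_mul, mul_one, neg_sub]
      rw [e2, neg_mul, mul_assoc, hu, mul_zero, neg_zero]
  -- the fixed space is invariant
  by_contra hz
  obtain ⟨m, hm⟩ : ∃ m, z m ≠ 0 := by
    by_contra hcon
    push Not at hcon
    exact hz (LinearMap.ext hcon)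
  have hmem : ∀ {v : M}, v ∈ fixedSubmodule H ↔ ∀ g ∈ H, ((g : End k M) - 1) v = 0 := fun {v} => by
    simp only [fixedSubmodule, Submodule.mem_iInf, LinearMap.mem_ker]
  have hnorm : G ≤ Subgroup.normalizer (H : Set (LinearMap.GeneralLinearGroup k M)) := by
    have p1 : G' ≤ Subgroup.normalizer (H : Set (LinearMap.GeneralLinearGroup k M)) := by
      rw [hgen]
      refine (Subgroup.closure_le _).2 ?_
      rintro g ⟨x, t, hx, hg⟩
      exact RootLib.conjBy_eq_iff_mem_normalizer.1 (conjBy_compGroup_quad hk2 hk3 hN' hx hg)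
    conv_lhs => rw [← hco]
    refine sup_le p1 fun g hg => RootLib.conjBy_eq_iff_mem_normalizer.1 (RootLib.conjBy_eq_of_commute fun u hu =>
      (Subgroup.mem_centralizer_iff.1 hg.2 u ((compGroup_le_rootGroup.trans rootGroup_le) hu)).symm)
  have hinv : ∀ g ∈ G, ∀ v ∈ fixedSubmodule H, (g : End k M) v ∈ fixedSubmodule H := fun g hg v hv =>
    hmem.2 fun u hu => by
      have h1 := hmem.1 hv _ ((Subgroup.mem_normalizer_iff''.1 (hnorm hg) u).1 hu)
      rw [LinearMap.sub_apply, Module.End.one_apply, sub_eq_zero, Units.val_mul, Units.val_mul,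
        Module.End.mul_apply, Module.End.mul_apply] at h1
      have h2 := congrArg (g : End k M) h1
      rw [← Module.End.mul_apply, Units.mul_inv, Module.End.one_apply] at h2
      rw [LinearMap.sub_apply, Module.End.one_apply]
      exact sub_eq_zero.2 h2
  rcases hirr.2 (fixedSubmodule H) hinv with h | h
  · refine hm ?_
    have h1 : z m ∈ fixedSubmodule H := hmem.2 fun g hg => LinearMap.congr_fun (hallz g hg) m
    rwa [h, Submodule.mem_bot] at h1
  · refine ha.ne_zero (LinearMap.ext fun v => ?_)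
    have h1 : v ∈ fixedSubmodule H := h ▸ Submodule.mem_top
    have := hmem.1 h1 σ (le_compGroup (self_mem_comp hAS) (self_mem_sameAction hσ))
    rwa [hσa] at this

omit hN in
/-- The dichotomy: a quadratic element commutes with all minimal ones or lies in one component. -/
theorem dichotomy (hirr : IsIrreducibleFor G) (hle : G' ≤ G)
    (hco : G' ⊔ (G ⊓ Subgroup.centralizer (G' : Set (LinearMap.GeneralLinearGroup k M))) = G)
    (hgen : G' = Subgroup.closure {g : LinearMap.GeneralLinearGroup k M |
      ∃ (x : End k M) (t : k), Qe G' x ∧ (g : End k M) = 1 + t • x}) :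
    ∀ (n : ℕ) (x : End k M), finrank k (LinearMap.range x) = n → Qe G' x →
      (∀ a, IsMinQ G' a → x * a = a * x) ∨
        ∃ A ∈ quadraticRootSubgroups G', ∀ (t : k) (g : LinearMap.GeneralLinearGroup k M),
          (g : End k M) = 1 + t • x → g ∈ compGroup G' A := by
  have hN' := noUnip_of_cocentral hirr hle hco
  intro n
  induction n using Nat.strong_induction_on with
  | _ n ih =>
    intro x hn hx
    by_cases hc : ∀ a, IsMinQ G' a → x * a = a * x
    · exact Or.inl hc
    refine Or.inr ?_
    obtain ⟨a, ha, hax⟩ : ∃ a, IsMinQ G' a ∧ a * x * a * x * a ≠ 0 := by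
      by_contra hcon
      push Not at hcon
      exact hc fun a ha => comm_of_all_nilpotent hk2 hk3 hN' hx hcon ha
    obtain ⟨σ, hσ, hσa⟩ := mem_sameAction_of_amod ha
    set A := sameActionSubgroup G' σ with hA
    have hAS : A ∈ quadraticRootSubgroups G' := ⟨σ, hσ, rfl⟩
    obtain ⟨X, hX, -, hXx, hxX, hlt, haz, -, hmem⟩ := exists_piece hk2 hk3 ha hx hax (compGroup G' A)
      (fun g hg => le_compGroup (self_mem_comp hAS) ((mem_sameAction_iff hσ).2 (by
        rw [amod_congr hσa (isMinQ_of_mem hσ) ha]; exact hg)))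
      (compGroup_le_rootGroup.trans rootGroup_le)
      (fun t u hu g hg => by
        have h := conjBy_compGroup_quad hk2 hk3 hN' (A := A) hx hu
        rw [← h]
        exact ⟨g, hg, rfl⟩)
    refine ⟨A, hAS, fun t g hg => ?_⟩
    have hz : Qe G' (x - X) := by
      rw [sub_eq_add_neg]
      exact hx.add hX.neg (by rw [mul_neg, hxX, neg_zero]) (by rw [neg_mul, hXx, neg_zero])
    obtain ⟨g1, hg1, hg1'⟩ := hmem t
    obtain ⟨g2, hg2, hg2'⟩ := hz.2 t
    have hg2H : g2 ∈ compGroup G' A := by
      rcases ih _ (hn ▸ hlt) (x - X) rfl hz with h | ⟨B, hB, h⟩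
      · have h0 : x - X = 0 := eq_zero_of_annihilated hk2 hk3 hirr hle hco hgen ha hσ hσa haz fun u hu => by
          obtain ⟨u1, hu1, hu1'⟩ := hz.2 1
          have hcen := centralizes_rootGroup h hu1'
          have e := congrArg Units.val (Subgroup.mem_centralizer_iff.1 hcen u (compGroup_le_rootGroup hu))
          rw [Units.val_mul, Units.val_mul, hu1', one_smul] at e
          linear_combination (norm := noncomm_ring) e
        rw [h0, smul_zero, add_zero] at hg2'
        rw [show g2 = 1 from Units.ext hg2']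
        exact one_mem _
      · by_cases hBA : B ∈ comp G' A
        · have : compGroup G' B = compGroup G' A := by
            simp only [compGroup, comp, RootLib.componentOf_eq hBA.2]
          exact this ▸ h t g2 hg2'
        · have h0 : x - X = 0 := eq_zero_of_annihilated hk2 hk3 hirr hle hco hgen ha hσ hσa haz fun u hu => by
            obtain ⟨u1, hu1, hu1'⟩ := hz.2 1
            have hu1B := h 1 u1 hu1'
            have hle' : compGroup G' B ≤ Subgroup.centralizer (compGroup G' A : Set (LinearMap.GeneralLinearGroup k M)) :=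
              iSup₂_le fun C hC => compGroup_commute hk2 hk3 hN' hAS hC.1 fun hCA =>
                hBA ⟨hB, hCA.2.trans (RootLib.reach_symm hC.2)⟩
            have e := congrArg Units.val (Subgroup.mem_centralizer_iff.1 (hle' hu1B) u hu)
            rw [Units.val_mul, Units.val_mul, hu1', one_smul] at e
            linear_combination (norm := noncomm_ring) e
          rw [h0, smul_zero, add_zero] at hg2'
          rw [show g2 = 1 from Units.ext hg2']
          exact one_mem _
    have e : g = g1 * g2 := Units.ext (by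
      simp only [Units.val_mul, hg1', hg2', hg, mul_add, add_mul, one_mul, mul_one, smul_mul_assoc,
        mul_smul_comm, mul_sub, hXx, hX.1, sub_self, smul_zero, add_zero, smul_sub]
      abel)
    rw [e]
    exact mul_mem hg1 hg2H

omit [FiniteDimensional k M] hk2 hk3 hN in
theorem families_le {H : Subgroup (LinearMap.GeneralLinearGroup k M)} {S : Set (LinearMap.GeneralLinearGroup k M)}
    (h : ∀ g ∈ S, g ∈ H) : Subgroup.closure S ≤ H :=
  (Subgroup.closure_le H).2 h

omit hN in
/-- The central decomposition, by induction on the span of the quadratic maps. -/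
theorem central_product (hirr : IsIrreducibleFor G) : ∀ (n : ℕ) (G' : Subgroup (LinearMap.GeneralLinearGroup k M)),
    finrank k (Submodule.span k {x : End k M | Qe G' x}) = n → G' ≤ G →
    G' ⊔ (G ⊓ Subgroup.centralizer (G' : Set (LinearMap.GeneralLinearGroup k M))) = G →
    G' = Subgroup.closure {g : LinearMap.GeneralLinearGroup k M |
      ∃ (x : End k M) (t : k), Qe G' x ∧ (g : End k M) = 1 + t • x} →
    ∃ 𝒢 : Set (Subgroup (LinearMap.GeneralLinearGroup k M)), 𝒢.Finite ∧ (⨆ K ∈ 𝒢, K) = G' ∧
      (∀ K ∈ 𝒢, G' ≤ Subgroup.normalizer (K : Set (LinearMap.GeneralLinearGroup k M))) ∧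
      (∀ K ∈ 𝒢, ∀ K' ∈ 𝒢, K ≠ K' → ⁅K, K'⁆ = ⊥) ∧
      (∀ K ∈ 𝒢, IsQuasisimple K ∧ K ≤ Subgroup.closure (quadraticElements G ∩ (K : Set (LinearMap.GeneralLinearGroup k M)))) ∧
      ∀ x, Qe G' x → x ≠ 0 → ∃ K ∈ 𝒢, ∀ (t : k) (g : LinearMap.GeneralLinearGroup k M),
        (g : End k M) = 1 + t • x → g ∈ K := by
  classical
  intro n
  induction n using Nat.strong_induction_on with
  | _ n ih =>
    intro G' hn hle hco hgen
    by_cases hq : ∃ x, Qe G' x ∧ x ≠ 0
    swap
    · push Not at hq
      refine ⟨∅, Set.finite_empty, ?_, by simp, by simp, by simp, fun x hx hx0 => absurd (hq x hx) hx0⟩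
      simp only [Set.mem_empty_iff_false, iSup_false, iSup_bot]
      refine (le_bot_iff.1 (hgen.le.trans (families_le ?_))).symm
      rintro g ⟨x, t, hx, hg⟩
      rw [hq x hx, smul_zero, add_zero] at hg
      exact Subgroup.mem_bot.2 (Units.ext hg)
    have hN' := noUnip_of_cocentral hirr hle hco
    -- a minimal map
    have hex : ∃ r, ∃ x, Qe G' x ∧ x ≠ 0 ∧ finrank k (LinearMap.range x) = r := by
      obtain ⟨x, hx, hx0⟩ := hq; exact ⟨_, x, hx, hx0, rfl⟩
    obtain ⟨a, haq, ha0, har⟩ := Nat.find_spec hex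
    have ha : IsMinQ G' a := ⟨haq, ha0, fun y hy hy0 => by rw [har]; exact Nat.find_min' hex ⟨y, hy, hy0, rfl⟩⟩
    obtain ⟨σ, hσ, hσa⟩ := mem_sameAction_of_amod ha
    obtain ⟨b, hb, hab, -⟩ := exists_partner (Ring.two_ne_zero hk2) hN' ha
    -- the part centralising the root group
    set G'' := Subgroup.closure {g : LinearMap.GeneralLinearGroup k M |
      ∃ (x : End k M) (t : k), (Qe G' x ∧ ∀ a, IsMinQ G' a → x * a = a * x) ∧ (g : End k M) = 1 + t • x} with hG''
    have hG''le : G'' ≤ G' := families_le (fun g ⟨x, t, hx, hg⟩ => mem_qe_of_eq hx.1 hg)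
    have hcen : G'' ≤ Subgroup.centralizer (rootGroup G' : Set (LinearMap.GeneralLinearGroup k M)) :=
      families_le (fun g ⟨x, t, hx, hg⟩ => centralizes_rootGroup hx.2 hg)
    have hqe : ∀ x, Qe G' x → (∀ a, IsMinQ G' a → x * a = a * x) → Qe G'' x := fun x hx hc => ⟨hx.1, fun s =>
      ⟨oneAdd (s • x) (smul_mul_smul_zero hx.1 s s), Subgroup.subset_closure ⟨x, s, ⟨hx, hc⟩, rfl⟩, rfl⟩⟩
    have hqe' : ∀ x, Qe G'' x → Qe G' x ∧ ∀ a, IsMinQ G' a → x * a = a * x := fun x hx => by
      refine ⟨⟨hx.1, fun s => ?_⟩, fun a ha => ?_⟩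
      · obtain ⟨g, hg, hg'⟩ := hx.2 s
        exact ⟨g, hG''le hg, hg'⟩
      · obtain ⟨g, hg, hg'⟩ := hx.2 1
        obtain ⟨u, hu, hu'⟩ := mem_sameAction_of_amod ha
        have hur : u ∈ rootGroup G' := le_rootGroup ⟨u, hu, rfl⟩ (self_mem_sameAction hu)
        have e := congrArg Units.val (Subgroup.mem_centralizer_iff.1 (hcen hg) u hur)
        rw [Units.val_mul, Units.val_mul, hg', one_smul] at e
        rw [← hu']
        linear_combination (norm := noncomm_ring) -e
    have hG''gen : G'' = Subgroup.closure {g : LinearMap.GeneralLinearGroup k M |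
        ∃ (x : End k M) (t : k), Qe G'' x ∧ (g : End k M) = 1 + t • x} :=
      le_antisymm (families_le fun g ⟨x, t, hx, hg⟩ => Subgroup.subset_closure ⟨x, t, hqe x hx.1 hx.2, hg⟩)
        (families_le fun g ⟨x, t, hx, hg⟩ => mem_qe_of_eq hx hg)
    have hdich := fun x hx => dichotomy hk2 hk3 hirr hle hco hgen _ x rfl hx
    have hG'eq : G' ≤ rootGroup G' ⊔ G'' := by
      conv_lhs => rw [hgen]
      refine families_le ?_
      rintro g ⟨x, t, hx, hg⟩
      rcases hdich x hx with h | ⟨A, -, h⟩
      · exact Subgroup.mem_sup_right (Subgroup.subset_closure ⟨x, t, ⟨hx, h⟩, hg⟩)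
      · exact Subgroup.mem_sup_left (compGroup_le_rootGroup (h t g hg))
    have hco'' : G'' ⊔ (G ⊓ Subgroup.centralizer (G'' : Set (LinearMap.GeneralLinearGroup k M))) = G := by
      refine le_antisymm (sup_le (hG''le.trans hle) inf_le_left) ?_
      conv_lhs => rw [← hco]
      refine sup_le (hG'eq.trans (sup_le ?_ le_sup_left)) ?_
      · refine le_trans (le_inf (rootGroup_le.trans hle) ?_) le_sup_right
        intro u hu
        rw [Subgroup.mem_centralizer_iff]
        exact fun v hv => (Subgroup.mem_centralizer_iff.1 (hcen hv) u hu).symm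
      · exact le_trans (inf_le_inf_left G (Subgroup.centralizer_le hG''le)) le_sup_right
    have hlt : finrank k (Submodule.span k {x : End k M | Qe G'' x}) < n := by
      rw [← hn]
      refine Submodule.finrank_lt_finrank_of_lt (lt_of_le_of_ne
        (Submodule.span_mono fun x hx => (hqe' x hx).1) fun e => ?_)
      have hbm : b ∈ Submodule.span k {x : End k M | Qe G'' x} := e ▸ Submodule.subset_span hb.qe
      have hc : Submodule.span k {x : End k M | Qe G'' x} ≤
          LinearMap.ker ((LinearMap.mulRight k a) - (LinearMap.mulLeft k a)) := Submodule.span_le.2 fun x hx => by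
        simp [sub_eq_zero, (hqe' x hx).2 a ha]
      have hba := hc hbm
      simp only [LinearMap.mem_ker, LinearMap.sub_apply, LinearMap.mulRight_apply, LinearMap.mulLeft_apply,
        sub_eq_zero] at hba
      exact hab (nilpotent_of_comm ha.sq hba.symm)
    obtain ⟨𝒢, hfin, hsup, hnorm, hcomm, hqs, hcover⟩ := ih _ hlt G'' rfl (hG''le.trans hle) hco'' hG''gen
    set 𝒟 := (fun A => compGroup G' A) '' quadraticRootSubgroups G' with h𝒟
    have hDfin : 𝒟.Finite := by
      have h : 𝒟 = (fun C : Set (Subgroup (LinearMap.GeneralLinearGroup k M)) => ⨆ B ∈ C, B) ''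
          (comp G' '' quadraticRootSubgroups G') := by
        rw [Set.image_image]; rfl
      rw [h]
      exact (comp_finite hk2 hk3 hN').image _
    have hKle : ∀ K ∈ 𝒢, K ≤ G'' := fun K hK =>
      (le_iSup₂_of_le (f := fun K (_ : K ∈ 𝒢) => K) K hK le_rfl).trans hsup.le
    have hcross : ∀ K ∈ 𝒢, ∀ A, ⁅compGroup G' A, K⁆ = ⊥ := fun K hK A => by
      rw [Subgroup.commutator_eq_bot_iff_le_centralizer]
      intro u hu
      rw [Subgroup.mem_centralizer_iff]
      exact fun v hv => (Subgroup.mem_centralizer_iff.1 (hcen (hKle K hK hv)) u (compGroup_le_rootGroup hu)).symm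
    refine ⟨𝒟 ∪ 𝒢, hDfin.union hfin, ?_, ?_, ?_, ?_, ?_⟩
    · refine le_antisymm (iSup₂_le ?_) (hG'eq.trans (sup_le (iSup₂_le fun A hA => ?_) ?_))
      · rintro K (⟨A, -, rfl⟩ | hK)
        · exact compGroup_le_rootGroup.trans rootGroup_le
        · exact (hKle K hK).trans hG''le
      · exact (le_compGroup (self_mem_comp hA)).trans
          (le_iSup₂_of_le (f := fun K (_ : K ∈ 𝒟 ∪ 𝒢) => K) _ (Or.inl ⟨A, hA, rfl⟩) le_rfl)
      · rw [← hsup]
        exact iSup₂_le fun K hK => le_iSup₂_of_le (f := fun K (_ : K ∈ 𝒟 ∪ 𝒢) => K) K (Or.inr hK) le_rfl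
    · rintro K (⟨A, -, rfl⟩ | hK)
      · conv_lhs => rw [hgen]
        refine families_le ?_
        rintro g ⟨x, t, hx, hg⟩
        exact RootLib.conjBy_eq_iff_mem_normalizer.1 (conjBy_compGroup_quad hk2 hk3 hN' hx hg)
      · refine hG'eq.trans (sup_le (fun u hu => ?_) (hnorm K hK))
        refine RootLib.conjBy_eq_iff_mem_normalizer.1 (RootLib.conjBy_eq_of_commute fun v hv => ?_)
        exact Subgroup.mem_centralizer_iff.1 (hcen (hKle K hK hv)) u hu
    · rintro K (⟨A, hA, rfl⟩ | hK) K' (⟨B, hB, rfl⟩ | hK') hne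
      · rw [Subgroup.commutator_eq_bot_iff_le_centralizer]
        refine iSup₂_le fun C hC => compGroup_commute hk2 hk3 hN' hB hC.1 fun h => hne ?_
        simp only [compGroup, comp, RootLib.componentOf_eq (hC.2.trans (RootLib.reach_symm h.2))]
      · exact hcross K' hK' A
      · exact RootLib.bracket_eq_bot_symm (hcross K hK B)
      · exact hcomm K hK K' hK' hne
    · rintro K (⟨A, hA, rfl⟩ | hK)
      · refine ⟨(component_structure hk2 hk3 hN' hA).1, iSup₂_le fun C hC => ?_⟩
        obtain ⟨τ, hτ, rfl⟩ := hC.1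
        refine families_le fun g hg => Subgroup.subset_closure ⟨⟨hle hg.1.1.1, hg.1.1.2.1, ?_⟩,
          le_compGroup hC (Subgroup.subset_closure hg)⟩
        exact fun u hu => hle (hg.1.1.2.2 hu)
      · exact hqs K hK
    · intro x hx hx0
      rcases hdich x hx with h | ⟨A, hA, h⟩
      · obtain ⟨K, hK, hK'⟩ := hcover x (hqe x hx h) hx0
        exact ⟨K, Or.inr hK, hK'⟩
      · exact ⟨_, Or.inl ⟨A, hA, rfl⟩, h⟩

end Cfsg.Agent.Quad
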