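import Cfsg.Agent.Lib.Quad.RootSet
import Cfsg.Agent.Lib.Root.Simple

/-!
Generic facts about components of a set of root subgroups: transfer to and from subgroups, and what
a normal subgroup does to the classes of members with the same commuting members.
-/

set_option autoImplicit false

namespace Cfsg.Agent.Quad

open Cfsg
open scoped commutatorElement

variable {X : Type*} [Group X]

section Subgroups

variable {H A B : Subgroup X}

theorem isRankOnePair_of_subgroupOf (hA : A ≤ H) (hB : B ≤ H)
    (h : IsRankOnePair (A.subgroupOf H) (B.subgroupOf H)) : IsRankOnePair A B := by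
  have cond : ∀ {A B : Subgroup X}, A ≤ H → B ≤ H → RankOneCondition (A.subgroupOf H) (B.subgroupOf H) →
      RankOneCondition A B := by
    intro A B hA hB hc a ha ha1
    obtain ⟨b, hb, hb1, he⟩ := hc ⟨a, hA ha⟩ ha (fun e => ha1 (congrArg Subtype.val e))
    refine ⟨b.1, hb, fun e => hb1 (Subtype.ext e), ?_⟩
    have h2 := congrArg (Subgroup.map H.subtype) he
    rw [RootLib.map_conjBy, RootLib.map_conjBy, Subgroup.map_subgroupOf_eq_of_le hA,
      Subgroup.map_subgroupOf_eq_of_le hB] at h2
    exact h2
  refine ⟨fun e => h.ne (by rw [e]), ?_, ?_, cond hA hB h.cond_left, cond hB hA h.cond_right⟩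
  · have := h.nilpotent_left
    exact Group.nilpotent_of_mulEquiv (Subgroup.subgroupOfEquivOfLe hA)
  · have := h.nilpotent_right
    exact Group.nilpotent_of_mulEquiv (Subgroup.subgroupOfEquivOfLe hB)

theorem isSpecialRankOnePair_subgroupOf (hA : A ≤ H) (hB : B ≤ H) (h : IsSpecialRankOnePair A B) :
    IsSpecialRankOnePair (A.subgroupOf H) (B.subgroupOf H) := by
  refine ⟨isRankOnePair_subgroupOf hA hB h.1, fun a ha ha1 b hb hb1 he => Subtype.ext ?_⟩
  have h2 := congrArg (Subgroup.map H.subtype) he
  rw [RootLib.map_conjBy, RootLib.map_conjBy, Subgroup.map_subgroupOf_eq_of_le hA,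
    Subgroup.map_subgroupOf_eq_of_le hB] at h2
  exact h.2 a.1 ha (fun e => ha1 (Subtype.ext e)) b.1 hb (fun e => hb1 (Subtype.ext e)) h2

theorem card_subgroupOf (hA : A ≤ H) : ENat.card (A.subgroupOf H) = ENat.card A :=
  ENat.card_congr (Subgroup.subgroupOfEquivOfLe hA).toEquiv

end Subgroups

section Classes

variable {S : Set (Subgroup X)}

theorem le_centralizer_iff_bracket {E P : Subgroup X} :
    E ≤ Subgroup.centralizer (P : Set X) ↔ ⁅E, P⁆ = ⊥ := by
  rw [RootLib.bracket_eq_bot_iff]
  exact ⟨fun h x hx y hy => (Subgroup.mem_centralizer_iff.1 (h hx) y hy).symm,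
    fun h x hx => Subgroup.mem_centralizer_iff.2 fun y hy => (h x hx y hy).symm⟩

theorem mem_centralizingMembers_conj (hS : IsRootSubgroupSet S) {E P : Subgroup X} (g : X) :
    E ∈ centralizingMembers S (conjBy P g) ↔ conjBy E g⁻¹ ∈ centralizingMembers S P := by
  simp only [centralizingMembers, Set.mem_setOf_eq, le_centralizer_iff_bracket]
  constructor
  · rintro ⟨hE, h⟩
    refine ⟨hS.conj_mem E hE g⁻¹, ?_⟩
    have := congrArg (Subgroup.map (MulAut.conj g⁻¹).toMonoidHom) h
    rw [Subgroup.map_commutator, Subgroup.map_bot] at this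
    rwa [show (conjBy P g).map (MulAut.conj g⁻¹).toMonoidHom = P from RootLib.conjBy_inv_cancel P g] at this
  · rintro ⟨hE, h⟩
    refine ⟨by simpa [RootLib.conjBy_cancel_inv] using hS.conj_mem _ hE g, ?_⟩
    have := congrArg (Subgroup.map (MulAut.conj g).toMonoidHom) h
    rw [Subgroup.map_commutator, Subgroup.map_bot] at this
    rwa [show (conjBy E g⁻¹).map (MulAut.conj g).toMonoidHom = E from RootLib.conjBy_cancel_inv E g] at this

theorem centralizing_conj_congr (hS : IsRootSubgroupSet S) {P Q : Subgroup X}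
    (h : centralizingMembers S P = centralizingMembers S Q) (g : X) :
    centralizingMembers S (conjBy P g) = centralizingMembers S (conjBy Q g) := by
  ext E
  rw [mem_centralizingMembers_conj hS, mem_centralizingMembers_conj hS, h]

theorem commute_of_same (hS : IsRootSubgroupSet S) {P Q : Subgroup X} (hQ : Q ∈ S)
    (h : centralizingMembers S P = centralizingMembers S Q) : ⁅Q, P⁆ = ⊥ := by
  have hmem : Q ∈ centralizingMembers S Q := ⟨hQ, le_centralizer_iff_bracket.2
    (RootLib.bracket_eq_bot_iff.2 (RootLib.members_comm hS hQ))⟩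
  rw [← h] at hmem
  exact le_centralizer_iff_bracket.1 hmem.2

/-- A proper normal subgroup preserves the classes of members with the same commuting members. -/
theorem centralizing_eq_of_normal (hS : IsRootSubgroupSet S) (hconj : IsConjClassOfSubgroups S)
    (h3 : IsDegenerateRootSet S → ∀ A ∈ S, 3 < ENat.card A)
    (h4 : ∀ A ∈ S, ∀ B ∈ rankOnePartners S A, IsSpecialRankOnePair A B)
    (N : Subgroup X) [hN : N.Normal] (hNtop : N ≠ ⊤) {n : X} (hn : n ∈ N) {A : Subgroup X} (hA : A ∈ S) :
    centralizingMembers S (conjBy A n) = centralizingMembers S A := by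
  set π := QuotientGroup.mk' N with hπ
  have hker : ∀ {E : Subgroup X}, E ∈ S → E.map π = ⊥ → N = ⊤ := fun hE e => by
    rw [Subgroup.map_eq_bot_iff, QuotientGroup.ker_mk'] at e
    exact RootLib.eq_top_of_member hS hconj hE e
  have collapse : ∀ {E F : Subgroup X}, E ∈ S → F ∈ S → IsRankOnePair E F → E.map π = F.map π →
      N = ⊤ := by
    intro E F hE hF hEF he
    by_cases hdeg : IsDegenerateRootSet S
    · have hsp := RootLib.specialPair_of (h4 E hE F ⟨hF, hEF⟩) (RootLib.members_comm hS hE)
        (RootLib.members_comm hS hF)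
      exact hker hE (RootLib.map_eq_bot_of_collapse π (hsp.perfect (h3 hdeg E hE)) (RootLib.members_comm hS hE) he)
    · simp only [IsDegenerateRootSet] at hdeg
      push Not at hdeg
      obtain ⟨Q, hQ, hEQ⟩ := RootLib.exists_line_case hS hconj hdeg hE
      obtain ⟨P, hP, hPF⟩ := RootLib.exists_proj hS hE hQ hF hEQ hEF
      refine hker hPF.1 ?_
      rw [Subgroup.map_commutator P F π, ← he, ← Subgroup.map_commutator P E π,
        RootLib.bracket_eq_bot_symm hP.1.2.2, Subgroup.map_bot]
  set C := conjBy A n with hC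
  have hCS : C ∈ S := hS.conj_mem A hA n
  have hAC : C.map π = A.map π := by
    rw [hC, RootLib.map_conjBy, hπ, QuotientGroup.mk'_apply, (QuotientGroup.eq_one_iff n).2 hn,
      RootLib.conjBy_one]
  -- if one of two members with the same image commutes with `E` then so does the other
  have main : ∀ P Q : Subgroup X, P ∈ S → Q ∈ S → P.map π = Q.map π →
      ∀ E ∈ S, ⁅E, P⁆ = ⊥ → ⁅E, Q⁆ = ⊥ := by
    intro P Q hP hQ he E hE hEP
    have h0 : ⁅E.map π, Q.map π⁆ = ⊥ := by
      rw [← he, ← Subgroup.map_commutator E P π, hEP, Subgroup.map_bot]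
    rcases hS.pair E hE Q hQ with h | h | h
    · exact h
    · exact absurd (collapse hE hQ h (RootLib.map_eq_of_commute π h fun x hx y hy =>
        RootLib.bracket_eq_bot_iff.1 h0 _ (Subgroup.mem_map_of_mem π hx) _ (Subgroup.mem_map_of_mem π hy))) hNtop
    · exact absurd (hker h.1 (by rw [Subgroup.map_commutator E Q π, h0])) hNtop
  ext E
  simp only [centralizingMembers, Set.mem_setOf_eq, le_centralizer_iff_bracket]
  exact and_congr_right fun hE => ⟨main C A hCS hA hAC E hE, main A C hA hCS hAC.symm E hE⟩

end Classes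

end Cfsg.Agent.Quad
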