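import Cfsg.Agent.Lib.Quad.Decompose

/-!
`G = G₀ C_G(G₀)`.
-/

set_option autoImplicit false

namespace Cfsg.Agent.Quad

open Cfsg Module

variable {k : Type*} [Field k] {M : Type*} [AddCommGroup M] [Module k M] [FiniteDimensional k M]
variable {G : Subgroup (LinearMap.GeneralLinearGroup k M)} {a x : End k M}

/-- The subgroup generated by `Σ`. -/
def rootGroup (G : Subgroup (LinearMap.GeneralLinearGroup k M)) : Subgroup (LinearMap.GeneralLinearGroup k M) :=
  ⨆ A ∈ quadraticRootSubgroups G, A

theorem mem_rootGroup_of_amod (ha : IsMinQ G a) {g : LinearMap.GeneralLinearGroup k M}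
    (hg : (g : End k M) - 1 ∈ amod ha) : g ∈ rootGroup G := by
  have hσ : oneAdd a ha.sq ∈ minimalQuadraticElements G :=
    mem_minimal_of_isMinQ (by rw [oneAdd_val, add_sub_cancel_left]; exact ha)
  have h : g ∈ sameActionSubgroup G (oneAdd a ha.sq) := (mem_sameAction_iff hσ).2 (by
    rw [amod_congr (show ((oneAdd a ha.sq : LinearMap.GeneralLinearGroup k M) : End k M) - 1 = a by
      rw [oneAdd_val, add_sub_cancel_left]) (isMinQ_of_mem hσ) ha]
    exact hg)
  exact (le_iSup₂_of_le (f := fun A (_ : A ∈ quadraticRootSubgroups G) => A) _ ⟨_, hσ, rfl⟩ le_rfl) h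

theorem conj_mem_rootGroup {u g : LinearMap.GeneralLinearGroup k M} (hu : u ∈ G) (hg : g ∈ rootGroup G) :
    u * g * u⁻¹ ∈ rootGroup G := by
  have h : conjBy (rootGroup G) u ≤ rootGroup G := by
    simp only [rootGroup, conjBy, Subgroup.map_iSup]
    exact iSup₂_le fun A hA => le_iSup₂_of_le (conjBy A u) (quadraticRoot_conj hA hu) le_rfl
  exact h ⟨g, hg, rfl⟩

omit [FiniteDimensional k M] in
theorem mem_qe_of_eq (hx : Qe G x) {g : LinearMap.GeneralLinearGroup k M} {t : k}
    (hg : (g : End k M) = 1 + t • x) : g ∈ G := by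
  obtain ⟨u, hu, hu'⟩ := hx.2 t
  rw [show g = u from Units.ext (hg.trans hu'.symm)]
  exact hu

/-- A map commuting with all minimal ones gives elements centralising `Σ`. -/
theorem centralizes_rootGroup (hc : ∀ a, IsMinQ G a → x * a = a * x) {g : LinearMap.GeneralLinearGroup k M}
    {t : k} (hg : (g : End k M) = 1 + t • x) :
    g ∈ Subgroup.centralizer (rootGroup G : Set (LinearMap.GeneralLinearGroup k M)) := by
  rw [Subgroup.mem_centralizer_iff]
  suffices h : rootGroup G ≤ Subgroup.centralizer {g} from fun u hu =>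
    Subgroup.mem_centralizer_singleton_iff.1 (h hu)
  refine iSup₂_le fun A hA => ?_
  obtain ⟨σ, hσ, rfl⟩ := hA
  intro u hu
  rw [Subgroup.mem_centralizer_singleton_iff]
  have hy := (mem_sameAction_iff hσ).1 hu
  have he : (u : End k M) * x = x * (u : End k M) := by
    by_cases h0 : (u : End k M) - 1 = 0
    · rw [sub_eq_zero.1 h0, one_mul, mul_one]
    · have := hc _ (isMinQ_of_amod hy h0)
      linear_combination (norm := noncomm_ring) -this
  refine Units.ext ?_
  rw [Units.val_mul, Units.val_mul, hg, mul_add, add_mul, mul_smul_comm, smul_mul_assoc, he, one_mul, mul_one]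

variable (hk2 : ringChar k ≠ 2) (hk3 : Nat.card k ≠ 3) (hN : NoUnip G)
include hk2 hk3 hN

theorem mem_cocentral : ∀ (n : ℕ) (x : End k M), finrank k (LinearMap.range x) = n → Qe G x →
    ∀ (t : k) (g : LinearMap.GeneralLinearGroup k M), (g : End k M) = 1 + t • x →
      g ∈ rootGroup G ⊔ (G ⊓ Subgroup.centralizer (rootGroup G : Set (LinearMap.GeneralLinearGroup k M))) := by
  intro n
  induction n using Nat.strong_induction_on with
  | _ n ih =>
    intro x hn hx t g hg
    by_cases hc : ∀ a, IsMinQ G a → x * a = a * x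
    · exact Subgroup.mem_sup_right ⟨mem_qe_of_eq hx hg, centralizes_rootGroup hc hg⟩
    · obtain ⟨a, ha, hax⟩ : ∃ a, IsMinQ G a ∧ a * x * a * x * a ≠ 0 := by
        by_contra hcon
        push Not at hcon
        exact hc fun a ha => comm_of_all_nilpotent hk2 hk3 hN hx hcon ha
      obtain ⟨X, hX, -, hXx, hxX, hlt, -, -, hmem⟩ := exists_piece hk2 hk3 ha hx hax (rootGroup G)
        (fun g hg => mem_rootGroup_of_amod ha hg) rootGroup_le
        (fun s u hu g hg => conj_mem_rootGroup (mem_qe_of_eq hx hu) hg)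
      have hz : Qe G (x - X) := by
        rw [sub_eq_add_neg]
        exact hx.add hX.neg (by rw [mul_neg, hxX, neg_zero]) (by rw [neg_mul, hXx, neg_zero])
      obtain ⟨g1, hg1, hg1'⟩ := hmem t
      obtain ⟨g2, -, hg2'⟩ := hz.2 t
      have h2 := ih _ (hn ▸ hlt) (x - X) rfl hz t g2 hg2'
      have e : g = g1 * g2 := Units.ext (by
        simp only [Units.val_mul, hg1', hg2', hg, mul_add, add_mul, one_mul, mul_one, smul_mul_assoc,
          mul_smul_comm, mul_sub, hXx, hX.1, sub_self, smul_zero, add_zero, smul_sub]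
        abel)
      rw [e]
      exact mul_mem (Subgroup.mem_sup_left hg1) h2

theorem cocentral (hgen : Subgroup.closure (quadraticElements G) = G) :
    rootGroup G ⊔ (G ⊓ Subgroup.centralizer (rootGroup G : Set (LinearMap.GeneralLinearGroup k M))) = G := by
  refine le_antisymm (sup_le rootGroup_le inf_le_left) ?_
  conv_lhs => rw [← hgen]
  refine (Subgroup.closure_le _).2 fun σ hσ => ?_
  refine mem_cocentral hk2 hk3 hN _ ((σ : End k M) - 1) rfl ⟨hσ.2.1.1, fun s =>
    ⟨oneAdd _ (smul_mul_smul_zero hσ.2.1.1 s s), hσ.2.2 ⟨s, rfl⟩, rfl⟩⟩ 1 σ ?_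
  rw [one_smul, add_sub_cancel]

end Cfsg.Agent.Quad
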