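import Cfsg.Agent.Lib.Quad.Weyl

/-!
For a unipotent non-commuting pair `a`, `b` the map `y ↦ a y - y a` is a bijection from the space
of `b` onto the space of `a b - b a`.
-/

set_option autoImplicit false

namespace Cfsg.Agent.Quad

open Cfsg Module

variable {k : Type*} [Field k] {M : Type*} [AddCommGroup M] [Module k M] [FiniteDimensional k M]
variable {G : Subgroup (LinearMap.GeneralLinearGroup k M)} {a b : End k M}

omit [FiniteDimensional k M] in
/-- The key identity: a partner `c` of `z = a b - b a` unipotent with `a` and `b` cannot have both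
`b`, `[c, a]` and its mate unipotent. -/
theorem false_of_config {a b c z : End k M} (hz : z = a * b - b * a) (hz0 : z ≠ 0) (hbb : b * b = 0)
    (hcc : c * c = 0) (hzc : z * c * z = z) (hcz : c * z * c = c) (haz : a * z = 0) (hza : z * a = 0)
    (hbz : b * z = 0) (hzb : z * b = 0) (hbab : b * a * b = 0) (haba : a * b * a = 0)
    (hcac : c * a * c = 0) (hbcb : b * c * b = 0) (hcbc : c * b * c = 0)
    (hava : a * (c * b - b * c) * a = 0) (hvav : (c * b - b * c) * a * (c * b - b * c) = 0) : False := by
  have hzz : z * z = 0 := by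
    calc z * z = (a * b - b * a) * z := by rw [← hz]
      _ = 0 := by rw [sub_mul, mul_assoc, hbz, mul_assoc b, haz, mul_zero, mul_zero, sub_zero]
  -- `T = a b c` on the image of `z`
  set T := a * b * c with hT
  have hTT : T * T * z = 0 := by
    have h1 : (c * b - b * c) * a * (c * b - b * c) * z = 0 := by rw [hvav, zero_mul]
    have h2 : b * c * a * b * c * z = 0 := by
      linear_combination (norm := noncomm_ring) h1 + c * hbab * (c * z) + b * hcac * (b * z) -
        c * b * a * c * hbz
    calc T * T * z = a * (b * c * a * b * c * z) := by rw [hT]; simp only [mul_assoc]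
      _ = 0 := by rw [h2, mul_zero]
  have hTp : T = T * (z * c) := by
    calc T = a * b * (c * z * c) := by rw [hT, hcz]
      _ = T * (z * c) := by rw [hT]; simp only [mul_assoc]
  set y := z * c * T * z with hy
  have hycy : y * c * y = 0 := by
    calc y * c * y = z * c * T * (z * c * z) * c * T * z := by rw [hy]; simp only [mul_assoc]
      _ = z * c * (T * (z * c)) * T * z := by rw [hzc]; simp only [mul_assoc]
      _ = z * c * (T * T * z) := by rw [← hTp]; simp only [mul_assoc]
      _ = 0 := by rw [hTT, mul_zero]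
  set x := z * c * (b * a * c) * z with hx
  have hxy : y - x = z := by
    calc y - x = z * c * (a * b - b * a) * c * z := by
          rw [hy, hx, hT]; simp only [mul_sub, sub_mul, mul_assoc]
      _ = z * c * z * c * z := by rw [← hz]
      _ = z := by rw [hzc, hzc]
  -- `a c` kills the other block
  have hacx : a * c * x = 0 := by
    have h2 : a * c * b * a = a * b * c * a := by linear_combination (norm := noncomm_ring) hava
    calc a * c * x = a * (c * z * c) * (b * a * c) * z := by rw [hx]; simp only [mul_assoc]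
      _ = (a * c * b * a) * c * z := by rw [hcz]; simp only [mul_assoc]
      _ = a * b * (c * a * c) * z := by rw [h2]; simp only [mul_assoc]
      _ = 0 := by rw [hcac]; simp
  have hzcy : z * c * y = y := by
    calc z * c * y = z * c * z * (c * T * z) := by rw [hy]; simp only [mul_assoc]
      _ = y := by rw [hzc, hy]; simp only [mul_assoc]
  have hycz : y * c * z = y := by
    calc y * c * z = z * c * T * (z * c * z) := by rw [hy]; simp only [mul_assoc]
      _ = y := by rw [hzc, hy]
  have key : x * c * (-z - y) = z := by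
    have : x = y - z := by rw [← hxy]; abel
    rw [this]
    linear_combination (norm := noncomm_ring) -hycy - hycz + hzcy + hzc
  have hacz : a * c * z = 0 := by
    calc a * c * z = a * c * (x * c * (-z - y)) := by rw [key]
      _ = 0 := by rw [← mul_assoc, ← mul_assoc, hacx, zero_mul, zero_mul]
  have hx0 : x = 0 := by
    calc x = z * c * b * (a * c * z) := by rw [hx]; simp only [mul_assoc]
      _ = 0 := by rw [hacz, mul_zero]
  refine hz0 ?_
  rw [← key, hx0, zero_mul, zero_mul]

omit [FiniteDimensional k M] in
theorem nilpotent_of_triple {x y : End k M} (h : x * y * x = 0) : IsNilpotent (x * y) :=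
  ⟨2, by rw [pow_two, ← mul_assoc, h, zero_mul]⟩

variable (hk2 : ringChar k ≠ 2) (hk3 : Nat.card k ≠ 3)
include hk2 hk3

theorem finrank_eq_of_not_nilpotent {a c : End k M} (ha : IsMinQ G a) (hc : IsMinQ G c)
    (hn : ¬ IsNilpotent (a * c)) : finrank k (amod ha) = finrank k (amod hc) := by
  obtain ⟨c', hc', h⟩ := exists_nrm hk2 hk3 ha hc hn
  have h0 : c' ≠ 0 := fun e => ha.ne_zero (by rw [← h.aba, e, mul_zero, zero_mul])
  rw [h.finrank_eq ha (isMinQ_of_amod hc' h0), amod_eq hc' h0]

omit hk3 in
/-- The map `y ↦ a y - y a` from the space of `b`. -/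
theorem bracket_injective {a b : End k M} (ha : IsMinQ G a) (hb : IsMinQ G b) (hne : a * b ≠ b * a)
    {x y : End k M} (hx : x ∈ amod hb) (hy : y ∈ amod hb) (h : a * x - x * a = a * y - y * a) : x = y := by
  by_contra hxy
  have hs := sub_mem hx hy
  have h0 := sub_ne_zero.2 hxy
  refine hne (comm_amod_amod (Ring.two_ne_zero hk2) ha (isMinQ_of_amod hs h0) ?_ (self_mem_amod ha)
    (by rw [amod_eq hs h0]; exact self_mem_amod hb))
  linear_combination (norm := noncomm_ring) h

omit hk3 in
theorem finrank_le_of_upair {a b : End k M} (h : UPair a b) (ha : IsMinQ G a) (hb : IsMinQ G b)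
    (hne : a * b ≠ b * a) : finrank k (amod hb) ≤ finrank k (amod (h.isMinQ ha hb hne)) :=
  LinearMap.finrank_le_finrank_of_injective
    (f := ({ toFun := fun y => ⟨a * y.1 - y.1 * a,
              h.comm_mem (Ring.two_ne_zero hk2) hne (self_mem_amod ha) y.2⟩
             map_add' := fun x y => Subtype.ext (by simp [mul_add, add_mul]; abel)
             map_smul' := fun s x => Subtype.ext (by simp [smul_sub]) } :
        amod hb →ₗ[k] amod (h.isMinQ ha hb hne)))
    fun x y e => Subtype.ext (bracket_injective hk2 ha hb hne x.2 y.2 (congrArg Subtype.val e))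

/-- The case of a partner of `z` unipotent with `a` and with `b`. -/
theorem finrank_le_of_config {a b c : End k M} (h : UPair a b) (ha : IsMinQ G a) (hb : IsMinQ G b)
    (hne : a * b ≠ b * a) (hc : IsMinQ G c) (hn : ¬ IsNilpotent ((a * b - b * a) * c))
    (hcac : c * a * c = 0) (hcbc : c * b * c = 0) : finrank k (amod hc) ≤ finrank k (amod hb) := by
  have hk := Ring.two_ne_zero hk2
  obtain ⟨c', hc', hN⟩ := exists_nrm hk2 hk3 (h.isMinQ ha hb hne) hc hn
  have hz0 : a * b - b * a ≠ 0 := sub_ne_zero.2 hne
  have hc0 : c' ≠ 0 := fun e => hz0 (by rw [← hN.aba, e, mul_zero, zero_mul])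
  have hc'q := isMinQ_of_amod hc' hc0
  have hUa := (UPair.of_eq_zero hk ha hc hcac).amod (ha := ha) (hb := hc) hk (self_mem_amod ha) hc'
  have hUb := (UPair.of_eq_zero hk hb hc hcbc).amod (ha := hb) (hb := hc) hk (self_mem_amod hb) hc'
  obtain ⟨z1, z2, z3, z4, -⟩ := h.mul_zero_zero ha.sq hb.sq
  -- the mirror configuration
  have hfalse : ¬ (b * (c' * a - a * c') * b = 0 ∧ (c' * a - a * c') * b * (c' * a - a * c') = 0) := by
    rintro ⟨p, q⟩
    refine false_of_config (a := b) (b := a) (c := -c') (z := -(a * b - b * a)) (by abel)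
      (neg_ne_zero.2 hz0) ha.sq (by rw [neg_mul_neg, hc'q.sq]) (by rw [neg_mul_neg, mul_neg, hN.aba]) (by rw [neg_mul_neg, mul_neg, hN.bab])
      (by rw [mul_neg, z3, neg_zero]) (by rw [neg_mul, z4, neg_zero]) (by rw [mul_neg, z1, neg_zero])
      (by rw [neg_mul, z2, neg_zero]) h.aba h.bab (by simp [hUb.bab]) (by simp [hUa.aba])
      (by simp [hUa.bab]) ?_ ?_
    · linear_combination (norm := noncomm_ring) -p
    · linear_combination (norm := noncomm_ring) q
  have hne' : c' * a ≠ a * c' := fun e => hfalse (by simp [e])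
  have hz' := hUa.symm.isMinQ hc'q ha hne'
  have hn' : ¬ IsNilpotent (b * (c' * a - a * c')) := fun hnil => hfalse (triple_eq_zero hk hb hz' hnil)
  rw [finrank_eq_of_not_nilpotent hk2 hk3 hb hz' hn']
  refine le_trans (le_of_eq ?_) ((finrank_le_of_upair hk2 hUa ha hc'q (Ne.symm hne')).trans (le_of_eq ?_))
  · rw [amod_eq hc' hc0]
  · have e : c' * a - a * c' = (-1 : k) • (a * c' - c' * a) := by simp
    have hmem : c' * a - a * c' ∈ amod (hUa.isMinQ ha hc'q (Ne.symm hne')) := by
      rw [e]; exact Submodule.smul_mem _ _ (self_mem_amod _)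
    rw [amod_eq hmem hz'.ne_zero hz']

/-- Replacing `a` by a map commuting with the partner. -/
theorem exists_replace {a b c : End k M} (h : UPair a b) (ha : IsMinQ G a) (hb : IsMinQ G b)
    (hne : a * b ≠ b * a) (hc : IsMinQ G c) (hn : ¬ IsNilpotent ((a * b - b * a) * c))
    (hcac : c * a * c ≠ 0) :
    ∃ u : End k M, IsMinQ G u ∧ u * b - b * u = a * b - b * a ∧ c * u * c = 0 ∧ UPair u b := by
  have hk := Ring.two_ne_zero hk2
  have hz := h.isMinQ ha hb hne
  obtain ⟨c', hc', hN1⟩ := exists_nrm hk2 hk3 ha hc (fun hnil => hcac (triple_eq_zero hk ha hc hnil).2)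
  have hc0 : c' ≠ 0 := fun e => ha.ne_zero (by rw [← hN1.aba, e, mul_zero, zero_mul])
  have hc'q := isMinQ_of_amod hc' hc0
  obtain ⟨w, hw, hN2⟩ := exists_nrm hk2 hk3 hc'q hz (fun hnil => by
    obtain ⟨p, q⟩ := triple_eq_zero hk hc'q hz hnil
    have hU : UPair c' (a * b - b * a) := ⟨p, q⟩
    have hmem : c ∈ amod hc'q := by rw [amod_eq hc' hc0]; exact self_mem_amod hc
    exact hn (nilpotent_of_triple (hU.amod (ha := hc'q) (hb := hz) hk hmem (self_mem_amod hz)).bab))
  have hw0 : w ≠ 0 := fun e => hc0 (by rw [← hN2.aba, e, mul_zero, zero_mul])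
  have hwq := isMinQ_of_amod hw hw0
  obtain ⟨z1, z2, z3, z4, -⟩ := h.mul_zero_zero ha.sq hb.sq
  have hmul : ∀ x : End k M, (x * (a * b - b * a) = 0 → x * w = 0) ∧ ((a * b - b * a) * x = 0 → w * x = 0) := by
    intro x
    refine ⟨fun hx => LinearMap.ext fun m => ?_, fun hx => LinearMap.ext fun m => ?_⟩
    · obtain ⟨n, hn⟩ := hw.2.1 (LinearMap.mem_range_self w m)
      rw [Module.End.mul_apply, ← hn, ← Module.End.mul_apply, hx]; simp
    · have h0 : ((a * b - b * a) * x) m = 0 := by rw [hx]; rfl
      exact hw.2.2 h0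
  have haw := (hmul a).1 z1
  have hwa := (hmul a).2 z2
  have hbw := (hmul b).1 z3
  have hwb := (hmul b).2 z4
  obtain ⟨u, hu⟩ : ∃ u, u = a - w := ⟨_, rfl⟩
  have huq : Qe G u := by
    rw [hu, sub_eq_add_neg]
    exact ha.qe.add hwq.qe.neg (by rw [mul_neg, haw, neg_zero]) (by rw [neg_mul, hwa, neg_zero])
  have huu : u * u = 0 := huq.1
  have hcc : c' * c' = 0 := hc'q.sq
  have hcuc : c' * u * c' = 0 := by
    rw [hu]; linear_combination (norm := noncomm_ring) hN1.bab - hN2.aba
  have hz_eq : u * b - b * u = a * b - b * a := by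
    rw [hu]; linear_combination (norm := noncomm_ring) -hwb + hbw
  have huw : u * w = 0 := by rw [hu, sub_mul, haw, hwq.sq, sub_zero]
  have hwu : w * u = 0 := by rw [hu, mul_sub, hwa, hwq.sq, sub_zero]
  -- `u c' u = 0`
  set p := 1 - w * c' - c' * w with hp
  set π := u * c' * u with hπ
  have hπq : Qe G π := by
    refine ⟨?_, fun s => ?_⟩
    · calc π * π = u * c' * (u * u) * c' * u := by rw [hπ]; simp only [mul_assoc]
        _ = 0 := by rw [huu]; simp
    obtain ⟨g, hg, hg'⟩ := exists_commutator (hc'q.qe.smul (s / 2)) huq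
    obtain ⟨g2, hg2, hg2'⟩ := exists_commutator (hc'q.qe.smul (s / 2)) huq.neg
    have hcucu : c' * u * c' * u = 0 := by rw [hcuc, zero_mul]
    refine ⟨g * g2, G.mul_mem hg hg2, ?_⟩
    set Z := c' * u - u * c' with hZ
    have q1 : Z * Z = 0 := by
      rw [hZ]; linear_combination (norm := noncomm_ring) hcucu - c' * huu * c' - u * hcc * u + u * hcuc
    have q2 : Z * π = 0 := by
      rw [hZ, hπ]; linear_combination (norm := noncomm_ring) c' * huu * (c' * u) - u * hcuc * u
    have q3 : π * Z = 0 := by
      rw [hZ, hπ]; linear_combination (norm := noncomm_ring) u * hcuc * u - u * c' * huu * c'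
    have q4 : π * π = 0 := by
      rw [hπ]; linear_combination (norm := noncomm_ring) u * c' * huu * (c' * u)
    have eg : (g : End k M) = 1 + ((s / 2) • Z + (s / 2) • π) := by
      rw [hg', hZ, hπ]
      simp only [smul_mul_assoc, mul_smul_comm, smul_smul, hcuc, zero_mul, smul_zero, add_zero,
        sub_zero, smul_sub]
    have eg2 : (g2 : End k M) = 1 + (-(s / 2) • Z + (s / 2) • π) := by
      rw [hg2', hZ, hπ]
      simp only [smul_mul_assoc, mul_smul_comm, mul_neg, neg_mul, neg_neg, smul_neg, smul_smul, hcuc,
        zero_mul, neg_zero, smul_zero, add_zero, sub_zero, smul_sub, neg_smul]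
    rw [Units.val_mul, eg, eg2]
    simp only [mul_add, add_mul, one_mul, mul_one, smul_mul_assoc, mul_smul_comm, q1, q2, q3, q4,
      smul_zero, add_zero]
    have : NeZero (2 : k) := ⟨hk⟩
    rw [show s • π = (s / 2) • π + (s / 2) • π by rw [← add_smul, add_halves], neg_smul]
    abel
  have hπ0 : π = 0 := by
    by_contra hne0
    have e0 : π = a - a * c' * w - w * c' * a + w := by
      rw [hπ, hu]; linear_combination (norm := noncomm_ring) hN1.aba + hN2.bab
    have hpap : π = p * a * p := by
      rw [e0, hp]
      linear_combination (norm := noncomm_ring) -w * c' * haw * c' + c' * hwa + haw * c' - c' * hwa * c' * w -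
        c' * hwa * w * c' - w * hN1.bab * w - hN2.bab
    set z := a * b - b * a with hzdef
    have hzl : w * c' * z = z := by
      have hmem : z ∈ amod hwq := by rw [amod_eq hw hw0]; exact self_mem_amod hz
      exact (Nrm.symm hN2).left_id hmem
    have hzr : z * (c' * w) = z := by
      have hmem : z ∈ amod hwq := by rw [amod_eq hw hw0]; exact self_mem_amod hz
      exact (Nrm.symm hN2).right_id hmem
    have hwz : w * z = 0 := (hmul z).2 (h.mul_zero_zero ha.sq hb.sq).2.2.2.2
    have hzw : z * w = 0 := (hmul z).1 (h.mul_zero_zero ha.sq hb.sq).2.2.2.2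
    have hpz : p * z = 0 := by
      rw [hp, sub_mul, sub_mul, one_mul, hzl, sub_self, mul_assoc, hwz, mul_zero, sub_zero]
    have hzp : z * p = 0 := by
      rw [hp, mul_sub, mul_sub, mul_one, hzr, ← mul_assoc, hzw, zero_mul, sub_zero, sub_self]
    have hapb : a * p * b = a * b := by
      rw [hp]; linear_combination (norm := noncomm_ring) -a * c' * hwb - haw * c' * b
    have hbpa : b * p * a = b * a := by
      rw [hp]; linear_combination (norm := noncomm_ring) -b * c' * hwa - hbw * c' * a
    have hpw : p * w = 0 := by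
      rw [hp]; linear_combination (norm := noncomm_ring) -hN2.bab - c' * hwq.sq
    have hwp : w * p = 0 := by
      rw [hp]; linear_combination (norm := noncomm_ring) -hN2.bab - hwq.sq * c'
    have hcu : c' * u * p = c' * u := by
      rw [hp]; linear_combination (norm := noncomm_ring) -c' * huw * c' - hcuc * w
    have huc : p * u * c' = u * c' := by
      rw [hp]; linear_combination (norm := noncomm_ring) -c' * hwu * c' - w * hcuc
    have hua : a = u + w := by rw [hu]; abel
    have h1 : π * b * c' * u = p * b * π := by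
      calc π * b * c' * u = p * (a * p * b) * (c' * u) := by rw [hpap]; simp only [mul_assoc]
        _ = p * (a * b) * (c' * u) := by rw [hapb]
        _ = p * (b * a) * (c' * u) := by
            rw [← sub_eq_zero, ← sub_mul, ← mul_sub, ← hzdef, hpz, zero_mul]
        _ = p * b * π + p * (b * w) * (c' * u) := by rw [hua, hπ]; noncomm_ring
        _ = p * b * π := by rw [hbw, mul_zero, zero_mul, add_zero]
    have h2 : u * c' * b * π = π * b * p := by
      calc u * c' * b * π = (u * c') * (b * p * a) * p := by rw [hpap]; simp only [mul_assoc]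
        _ = (u * c') * (b * a) * p := by rw [hbpa]
        _ = (u * c') * (a * b) * p := by
            rw [← sub_eq_zero, ← sub_mul, ← mul_sub, show b * a - a * b = -z by rw [hzdef]; abel, mul_neg,
              neg_mul, mul_assoc, hzp, mul_zero, neg_zero]
        _ = π * b * p + u * c' * (w * b) * p := by rw [hua, hπ]; noncomm_ring
        _ = π * b * p := by rw [hwb, mul_zero, zero_mul, add_zero]
    have hcomm : p * b * π = π * b * p := by
      have hππ : π * p = π ∧ p * π = π := by
        constructor
        · calc π * p = u * (c' * u * p) := by rw [hπ]; simp only [mul_assoc]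
            _ = π := by rw [hcu, hπ, mul_assoc]
        · calc p * π = (p * u * c') * u := by rw [hπ]; simp only [mul_assoc]
            _ = π := by rw [huc, hπ]
      calc p * b * π = p * (b * p * a) * p := by
            conv_lhs => rw [← hππ.2, hpap]
            have hpp : p * p = p := by
              rw [hp]; linear_combination (norm := noncomm_ring) hN2.bab * c' + c' * hN2.bab + w * hcc * w + c' * hwq.sq * c'
            simp only [← mul_assoc]
            rw [mul_assoc (p * b) p p, hpp]
        _ = p * (a * p * b) * p := by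
            rw [hbpa, hapb, ← sub_eq_zero, ← sub_mul, ← mul_sub, show b * a - a * b = -z by rw [hzdef]; abel,
              mul_neg, hpz, neg_zero, zero_mul]
        _ = π * b * p := by rw [hpap]; simp only [mul_assoc]
    have hkey : u * c' * z * c' * u = 0 := by
      calc u * c' * z * c' * u = π * b * c' * u - u * c' * b * π := by
            rw [← hz_eq, hπ]; noncomm_ring
        _ = 0 := by rw [h1, h2, hcomm, sub_self]
    -- `u c'` is injective on the image of `c'`
    have hr1 : finrank k (LinearMap.range π) ≤ finrank k (LinearMap.range (c' * u)) := by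
      rw [hπ, mul_assoc, Module.End.mul_eq_comp u, LinearMap.range_comp]
      exact Submodule.finrank_map_le _ _
    have hd := hc'q.le π hπq hne0
    have hrange : LinearMap.range (c' * u) = LinearMap.range c' :=
      Submodule.eq_of_le_of_finrank_le (LinearMap.range_comp_le_range _ _) (hd.trans hr1)
    have hinj : ∀ v ∈ LinearMap.range c', u v = 0 → v = 0 := by
      intro v hv huv
      have e := finrank_range_mul_add u (c' * u)
      rw [← mul_assoc, ← hπ, hrange] at e
      have h0 : LinearMap.range c' ⊓ LinearMap.ker u = ⊥ := Submodule.finrank_eq_zero.1 (by omega)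
      have : v ∈ LinearMap.range c' ⊓ LinearMap.ker u := ⟨hv, huv⟩
      rwa [h0, Submodule.mem_bot] at this
    have hzc0 : c' * z * c' = 0 := by
      refine LinearMap.ext fun m => ?_
      obtain ⟨n, hn⟩ : c' m ∈ LinearMap.range (c' * u) := hrange ▸ LinearMap.mem_range_self c' m
      rw [Module.End.mul_apply, LinearMap.zero_apply, ← hn]
      refine hinj _ ⟨z ((c' * u) n), rfl⟩ ?_
      have := LinearMap.congr_fun hkey n
      simpa [mul_assoc] using this
    obtain ⟨p', q'⟩ := triple_eq_zero hk hz hc'q (nilpotent_of_triple (x := c') (y := z) hzc0 |> fun ⟨n, hn⟩ =>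
      ⟨n + 1, by
        have : ∀ i, (z * c') ^ (i + 1) = z * (c' * z) ^ i * c' := by
          intro i
          induction i with
          | zero => simp
          | succ i ih => rw [pow_succ, ih, pow_succ]; simp only [mul_assoc]
        rw [this, hn, mul_zero, zero_mul]⟩)
    have hU : UPair z c' := ⟨p', q'⟩
    exact hc0 (by
      rw [← hN2.aba]
      exact (hU.amod (ha := hz) (hb := hc'q) hk hw (self_mem_amod hc'q)).bab)
  -- the rank of `u`
  have hur : u = w * (c' * u) + u * c' * w := by
    have h0 : u * c' * u = 0 := hπ0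
    rw [hu] at h0 ⊢
    linear_combination (norm := noncomm_ring) h0 - hN1.aba - hN2.bab + 2 • hN2.bab
  have hu0 : u ≠ 0 := fun e => sub_ne_zero.2 hne (by rw [← hz_eq, e, zero_mul, mul_zero, sub_zero])
  have hle : finrank k (LinearMap.range u) ≤ finrank k (LinearMap.range c') := by
    have e := finrank_range_mul_add u c'
    have h1 : LinearMap.range (c' * u) ≤ LinearMap.range c' ⊓ LinearMap.ker u := by
      refine le_inf (LinearMap.range_comp_le_range _ _) ?_
      rintro _ ⟨m, rfl⟩
      exact LinearMap.congr_fun hπ0 m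
    have h2 : LinearMap.range u ≤ (LinearMap.range (c' * u)).map w ⊔ LinearMap.range (u * c') := by
      rintro _ ⟨m, rfl⟩
      rw [hur, LinearMap.add_apply, Module.End.mul_apply, Module.End.mul_apply (u * c') w, ← hur]
      exact Submodule.add_mem_sup ⟨_, LinearMap.mem_range_self _ m, rfl⟩ (LinearMap.mem_range_self _ _)
    have h3 := Submodule.finrank_mono h1
    have h4 := (Submodule.finrank_mono h2).trans (Submodule.finrank_add_le_finrank_add_finrank _ _)
    have h5 : finrank k ((LinearMap.range (c' * u)).map w) ≤ finrank k (LinearMap.range (c' * u)) :=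
      Submodule.finrank_map_le _ _
    omega
  have huM := hc'q.of_le huq hu0 hle
  have hcmem : c ∈ amod hc'q := by rw [amod_eq hc' hc0]; exact self_mem_amod hc
  refine ⟨u, huM, hz_eq, ?_, UPair.of_eq_zero hk huM hb ?_⟩
  · exact ((UPair.of_eq_zero hk huM hc'q hcuc).amod (ha := huM) (hb := hc'q) hk (self_mem_amod huM) hcmem).bab
  · rw [hu]; linear_combination (norm := noncomm_ring) h.bab - hbw * b

/-- The space of `b` is as large as that of a partner of `a b - b a`. -/
theorem finrank_ge_right {a b c : End k M} (h : UPair a b) (ha : IsMinQ G a) (hb : IsMinQ G b)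
    (hne : a * b ≠ b * a) (hc : IsMinQ G c) (hn : ¬ IsNilpotent ((a * b - b * a) * c)) :
    finrank k (amod hc) ≤ finrank k (amod hb) := by
  have hk := Ring.two_ne_zero hk2
  by_cases hcbc : c * b * c = 0
  · by_cases hcac : c * a * c = 0
    · exact finrank_le_of_config hk2 hk3 h ha hb hne hc hn hcac hcbc
    · obtain ⟨u, hu, he, hcu, hU⟩ := exists_replace hk2 hk3 h ha hb hne hc hn hcac
      exact finrank_le_of_config hk2 hk3 hU hu hb
        (fun e => hne (sub_eq_zero.1 (by rw [← he, e, sub_self]))) hc (by rwa [he]) hcu hcbc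
  · exact (finrank_eq_of_not_nilpotent hk2 hk3 hb hc fun hnil => hcbc (triple_eq_zero hk hb hc hnil).2).ge

/-- Surjectivity of the commutator map. -/
theorem exists_bracket (hirr : NoUnip G) {a b : End k M} (h : UPair a b) (ha : IsMinQ G a)
    (hb : IsMinQ G b) (hne : a * b ≠ b * a) {w : End k M} (hw : w ∈ amod (h.isMinQ ha hb hne)) :
    ∃ y ∈ amod hb, a * y - y * a = w := by
  obtain ⟨c, hc, hn, hd⟩ := exists_partner (Ring.two_ne_zero hk2) hirr (h.isMinQ ha hb hne)
  have hle := finrank_ge_right hk2 hk3 h ha hb hne hc hn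
  have hge := finrank_le_of_upair hk2 h ha hb hne
  let φ : amod hb →ₗ[k] amod (h.isMinQ ha hb hne) :=
    { toFun := fun y => ⟨a * y.1 - y.1 * a, h.comm_mem (Ring.two_ne_zero hk2) hne (self_mem_amod ha) y.2⟩
      map_add' := fun x y => Subtype.ext (by simp [mul_add, add_mul]; abel)
      map_smul' := fun s x => Subtype.ext (by simp [smul_sub]) }
  have hφ : Function.Injective φ := fun x y e =>
    Subtype.ext (bracket_injective hk2 ha hb hne x.2 y.2 (congrArg Subtype.val e))
  obtain ⟨y, hy⟩ := (LinearMap.injective_iff_surjective_of_finrank_eq_finrank (f := φ) (by omega)).1 hφ ⟨w, hw⟩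
  exact ⟨y.1, y.2, congrArg Subtype.val hy⟩

end Cfsg.Agent.Quad
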