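import Cfsg.Agent.Lib.Quad.Classes
import Cfsg.Agent.Lib.Quad.Cocentral
import Cfsg.Agent.S5031

/-!
The components of `Σ`: pairwise commuting quasisimple groups.
-/

set_option autoImplicit false

namespace Cfsg.Agent.Quad

open Cfsg Module Relation
open scoped commutatorElement

variable {k : Type*} [Field k] {M : Type*} [AddCommGroup M] [Module k M] [FiniteDimensional k M]
variable {G : Subgroup (LinearMap.GeneralLinearGroup k M)}
variable {A B : Subgroup (LinearMap.GeneralLinearGroup k M)}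

/-- The component of a member of `Σ`. -/
def comp (G : Subgroup (LinearMap.GeneralLinearGroup k M)) (A : Subgroup (LinearMap.GeneralLinearGroup k M)) :
    Set (Subgroup (LinearMap.GeneralLinearGroup k M)) :=
  componentOf (FAdj (quadraticRootSubgroups G)) (quadraticRootSubgroups G) A

/-- The group generated by a component. -/
def compGroup (G : Subgroup (LinearMap.GeneralLinearGroup k M)) (A : Subgroup (LinearMap.GeneralLinearGroup k M)) :
    Subgroup (LinearMap.GeneralLinearGroup k M) :=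
  ⨆ B ∈ comp G A, B

theorem self_mem_comp (hA : A ∈ quadraticRootSubgroups G) : A ∈ comp G A := ⟨hA, ReflTransGen.refl⟩

theorem le_compGroup {C : Subgroup (LinearMap.GeneralLinearGroup k M)} (hC : C ∈ comp G A) : C ≤ compGroup G A :=
  le_iSup₂_of_le (f := fun C (_ : C ∈ comp G A) => C) C hC le_rfl

theorem le_rootGroup (hA : A ∈ quadraticRootSubgroups G) : A ≤ rootGroup G :=
  le_iSup₂_of_le (f := fun C (_ : C ∈ quadraticRootSubgroups G) => C) A hA le_rfl

theorem compGroup_le_rootGroup : compGroup G A ≤ rootGroup G := iSup₂_le fun _ hC => le_rootGroup hC.1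

omit [FiniteDimensional k M] in
theorem isUnipotentOn_conjBy {U : Subgroup (LinearMap.GeneralLinearGroup k M)} (hU : IsUnipotentOn U)
    (g : LinearMap.GeneralLinearGroup k M) : IsUnipotentOn (conjBy U g) := by
  obtain ⟨n, hn⟩ := hU
  simp only [bind_pure_comp, List.map_eq_map, List.map_map] at hn
  refine ⟨n, fun l hl hlen => ?_⟩
  simp only [bind_pure_comp, List.map_eq_map, List.map_map]
  have key : ∀ l : List (LinearMap.GeneralLinearGroup k M),
      (List.map ((fun u => u - 1) ∘ Units.val) l : List (End k M)).prod = (g : End k M) *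
        (List.map ((fun u => u - 1) ∘ Units.val) (l.map fun x => g⁻¹ * x * g) : List (End k M)).prod *
          ((g⁻¹ : LinearMap.GeneralLinearGroup k M) : End k M) := by
    intro l
    induction l with
    | nil => simp
    | cons x l ih =>
      simp only [List.map_cons, List.prod_cons, Function.comp_apply, ih, Units.val_mul, mul_sub, sub_mul, mul_one,
        one_mul, ← mul_assoc, Units.mul_inv]
  rw [key]
  have h := hn (l.map fun x => g⁻¹ * x * g) (fun u hu => by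
    obtain ⟨x, hx, rfl⟩ := List.mem_map.1 hu
    exact RootLib.mem_conjBy.1 (hl x hx)) (by rw [List.length_map, hlen])
  rw [h, mul_zero, zero_mul]

variable (hk2 : ringChar k ≠ 2) (hk3 : Nat.card k ≠ 3) (hN : NoUnip G)
include hk2 hk3 hN

theorem exists_rankOne (hA : A ∈ quadraticRootSubgroups G) :
    ∃ F ∈ quadraticRootSubgroups G, IsRankOnePair A F :=
  RootLib.not_isolated_exists (not_isolated hk2 hk3 hN hA) hA

theorem special_of_rankOne (hA : A ∈ quadraticRootSubgroups G) (hB : B ∈ quadraticRootSubgroups G)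
    (h : IsRankOnePair A B) : IsSpecialRankOnePair A B := by
  obtain ⟨σ, hσ, rfl⟩ := hA
  obtain ⟨τ, hτ, rfl⟩ := hB
  exact isSpecialRankOnePair hk2 hk3 hσ hτ (not_nilpotent_of_rankOne hk2 hk3 hN hσ hτ h)

theorem three_lt_card (hA : A ∈ quadraticRootSubgroups G) : 3 < ENat.card A := by
  obtain ⟨σ, hσ, rfl⟩ := hA
  have ha := isMinQ_of_mem hσ
  let f : k → sameActionSubgroup G σ := fun t =>
    ⟨oneAdd (t • ((σ : End k M) - 1)) (smul_mul_smul_zero ha.sq t t), (mem_sameAction_iff hσ).2 (by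
      rw [oneAdd_val, add_sub_cancel_left]; exact Submodule.smul_mem _ t (self_mem_amod ha))⟩
  have hf : Function.Injective f := fun s t e => by
    have e2 := congrArg (fun g : sameActionSubgroup G σ => ((g : LinearMap.GeneralLinearGroup k M) : End k M)) e
    simp only [f, oneAdd_val, add_right_inj] at e2
    rwa [← sub_eq_zero, ← sub_smul, smul_eq_zero, or_iff_left ha.ne_zero, sub_eq_zero] at e2
  refine lt_of_lt_of_le ?_ (ENat.card_le_card_of_injective hf)
  rcases finite_or_infinite k with hfin | hinf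
  · have := five_le_card hk2 hk3
    rw [ENat.card_eq_coe_natCard]
    exact_mod_cast (show 3 < Nat.card k by omega)
  · rw [ENat.card_eq_top_of_infinite]; exact ENat.natCast_lt_top 3

theorem reach_of_case (hA : A ∈ quadraticRootSubgroups G) (hB : B ∈ quadraticRootSubgroups G)
    (h : RootCommutatorCase (quadraticRootSubgroups G) A B) :
    ReflTransGen (FAdj (quadraticRootSubgroups G)) A ⁅A, B⁆ := by
  set H := rootGroup G with hH
  set S := quadraticRootSubgroups G with hS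
  set T := (fun C : Subgroup (LinearMap.GeneralLinearGroup k M) => C.subgroupOf H) '' S with hT
  have hle : ∀ C ∈ S, C ≤ H := fun C hC => le_rootGroup hC
  have hST : IsRootSubgroupSet T := isRootSubgroupSet hk2 hk3 hN
  have hiso : ∀ C' ∈ T, ¬ IsIsolatedIn (FAdj T) T C' ∧
      ∃ C'' ∈ componentOf (FAdj T) T C', C'' ≠ C' := by
    rintro _ ⟨C, hC, rfl⟩
    obtain ⟨F, hF, hCF⟩ := exists_rankOne hk2 hk3 hN hC
    have h1 := isRankOnePair_subgroupOf (hle C hC) (hle F hF) hCF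
    exact ⟨fun hi => (hi.2 _).1 ⟨⟨C, hC, rfl⟩, ⟨F, hF, rfl⟩, h1⟩, _,
      ⟨⟨F, hF, rfl⟩, ReflTransGen.single ⟨⟨C, hC, rfl⟩, ⟨F, hF, rfl⟩, h1⟩⟩, h1.ne.symm⟩
  have h' := commutatorCase_subgroupOf hle hA hB h
  have hA' : A.subgroupOf H ∈ T := ⟨A, hA, rfl⟩
  have hB' : B.subgroupOf H ∈ T := ⟨B, hB, rfl⟩
  have hline := (S5029.result hST (hiso _ hA').1 hA' hB' h'.1).2.2.1
  have hr : componentOf (FAdj T) T ⁅A.subgroupOf H, B.subgroupOf H⁆ = componentOf (FAdj T) T (A.subgroupOf H) := by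
    by_contra hne
    exact S5031.result hST h'.1 hA' hne (hiso _ h'.1).2 (hiso _ hA').2 hline
  have hreach : ReflTransGen (FAdj T) ⁅A.subgroupOf H, B.subgroupOf H⁆ (A.subgroupOf H) := by
    have : A.subgroupOf H ∈ componentOf (FAdj T) T ⁅A.subgroupOf H, B.subgroupOf H⁆ := by
      rw [hr]; exact ⟨hA', ReflTransGen.refl⟩
    exact this.2
  have hm := ReflTransGen.lift (p := FAdj S) (Subgroup.map H.subtype) (fun P Q hPQ => by
    obtain ⟨⟨P, hP, rfl⟩, ⟨Q, hQ, rfl⟩, hpq⟩ := hPQ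
    show FAdj S _ _
    rw [Subgroup.map_subgroupOf_eq_of_le (hle P hP), Subgroup.map_subgroupOf_eq_of_le (hle Q hQ)]
    exact ⟨hP, hQ, isRankOnePair_of_subgroupOf (hle P hP) (hle Q hQ) hpq⟩) _ _ hreach
  simp only [Function.onFun] at hm
  rw [Subgroup.map_commutator, Subgroup.map_subgroupOf_eq_of_le (hle A hA),
    Subgroup.map_subgroupOf_eq_of_le (hle B hB)] at hm
  exact RootLib.reach_symm hm

theorem commute_or_reach (hA : A ∈ quadraticRootSubgroups G) (hB : B ∈ quadraticRootSubgroups G) :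
    ⁅A, B⁆ = ⊥ ∨ (ReflTransGen (FAdj (quadraticRootSubgroups G)) A B) := by
  obtain ⟨σ, hσ, rfl⟩ := hA
  obtain ⟨τ, hτ, rfl⟩ := hB
  rcases trichotomy hk2 hk3 hN hσ hτ with h | h | h
  · exact Or.inl h
  · exact Or.inr (ReflTransGen.single ⟨⟨σ, hσ, rfl⟩, ⟨τ, hτ, rfl⟩, h.2⟩)
  · refine Or.inr ((reach_of_case hk2 hk3 hN ⟨σ, hσ, rfl⟩ ⟨τ, hτ, rfl⟩ h).trans (RootLib.reach_symm ?_))
    have h2 := reach_of_case hk2 hk3 hN ⟨τ, hτ, rfl⟩ ⟨σ, hσ, rfl⟩ (RootLib.commutatorCase_symm h)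
    rwa [Subgroup.commutator_comm] at h2

theorem conj_reach {g : LinearMap.GeneralLinearGroup k M} (hg : g ∈ G)
    (h : ReflTransGen (FAdj (quadraticRootSubgroups G)) A B) :
    ReflTransGen (FAdj (quadraticRootSubgroups G)) (conjBy A g) (conjBy B g) :=
  ReflTransGen.lift (fun C => conjBy C g) (fun _ _ hPQ =>
    ⟨quadraticRoot_conj hPQ.1 hg, quadraticRoot_conj hPQ.2.1 hg, RootLib.isRankOnePair_conj hPQ.2.2 g⟩) _ _ h

theorem reach_conj_self {g : LinearMap.GeneralLinearGroup k M} (hg : g ∈ rootGroup G)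
    (hA : A ∈ quadraticRootSubgroups G) :
    ReflTransGen (FAdj (quadraticRootSubgroups G)) A (conjBy A g) := by
  set H := rootGroup G with hH
  set S := quadraticRootSubgroups G with hS
  set T := (fun C : Subgroup (LinearMap.GeneralLinearGroup k M) => C.subgroupOf H) '' S with hT
  have hle : ∀ C ∈ S, C ≤ H := fun C hC => le_rootGroup hC
  have hall : ∀ C' ∈ T, ∃ F ∈ T, IsRankOnePair C' F := by
    rintro _ ⟨C, hC, rfl⟩
    obtain ⟨F, hF, hCF⟩ := exists_rankOne hk2 hk3 hN hC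
    exact ⟨_, ⟨F, hF, rfl⟩, isRankOnePair_subgroupOf (hle C hC) (hle F hF) hCF⟩
  have hST : IsRootSubgroupSet T := isRootSubgroupSet hk2 hk3 hN
  have hreach := RootLib.reach_conj hST hall ⟨g, hg⟩ _
    (⟨A, hA, rfl⟩ : A.subgroupOf H ∈ T)
  have hm := ReflTransGen.lift (p := FAdj S) (Subgroup.map H.subtype) (fun P Q hPQ => by
    obtain ⟨⟨P, hP, rfl⟩, ⟨Q, hQ, rfl⟩, hpq⟩ := hPQ
    show FAdj S _ _
    rw [Subgroup.map_subgroupOf_eq_of_le (hle P hP), Subgroup.map_subgroupOf_eq_of_le (hle Q hQ)]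
    exact ⟨hP, hQ, isRankOnePair_of_subgroupOf (hle P hP) (hle Q hQ) hpq⟩) _ _ hreach
  simp only [Function.onFun] at hm
  rwa [RootLib.map_conjBy, Subgroup.map_subgroupOf_eq_of_le (hle A hA)] at hm

theorem comp_conj_mem {C : Subgroup (LinearMap.GeneralLinearGroup k M)} (hC : C ∈ comp G A)
    {g : LinearMap.GeneralLinearGroup k M} (hg : g ∈ rootGroup G) : conjBy C g ∈ comp G A :=
  ⟨quadraticRoot_conj hC.1 (rootGroup_le hg), hC.2.trans (reach_conj_self hk2 hk3 hN hg hC.1)⟩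

theorem conjBy_compGroup {g : LinearMap.GeneralLinearGroup k M} (hg : g ∈ rootGroup G) :
    conjBy (compGroup G A) g = compGroup G A := by
  have hle : ∀ g ∈ rootGroup G, conjBy (compGroup G A) g ≤ compGroup G A := fun g hg => by
    simp only [compGroup, conjBy, Subgroup.map_iSup]
    exact iSup₂_le fun C hC => le_iSup₂_of_le (conjBy C g) (comp_conj_mem hk2 hk3 hN hC hg) le_rfl
  refine le_antisymm (hle g hg) fun x hx => ?_
  exact ⟨g⁻¹ * x * g⁻¹⁻¹, hle g⁻¹ (inv_mem hg) ⟨x, hx, rfl⟩, by simp [mul_assoc]⟩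

/-- Different components commute. -/
theorem compGroup_commute (hA : A ∈ quadraticRootSubgroups G) {C : Subgroup (LinearMap.GeneralLinearGroup k M)}
    (hC : C ∈ quadraticRootSubgroups G) (hne : C ∉ comp G A) :
    C ≤ Subgroup.centralizer (compGroup G A : Set (LinearMap.GeneralLinearGroup k M)) := by
  intro c hc
  rw [Subgroup.mem_centralizer_iff]
  suffices h : compGroup G A ≤ Subgroup.centralizer {c} from fun u hu =>
    Subgroup.mem_centralizer_singleton_iff.1 (h hu)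
  refine iSup₂_le fun D hD d hd => ?_
  rw [Subgroup.mem_centralizer_singleton_iff]
  rcases commute_or_reach hk2 hk3 hN hD.1 hC with h | h
  · exact RootLib.bracket_eq_bot_iff.1 h d hd c hc
  · exact absurd ⟨hC, hD.2.trans h⟩ hne

/-- A subgroup of `G₀` normalised by it and unipotent is trivial. -/
theorem eq_bot_of_unipotent {U : Subgroup (LinearMap.GeneralLinearGroup k M)} (hU : U ≤ rootGroup G)
    (hn : ∀ g ∈ rootGroup G, conjBy U g = U) (hu : IsUnipotentOn U) : U = ⊥ := by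
  set W := {V | ∃ g ∈ G, V = conjBy U g} with hW
  have hR : ∀ g ∈ G, conjBy (rootGroup G) g ≤ rootGroup G := fun g hg => by
    rintro _ ⟨u, hu, rfl⟩
    exact conj_mem_rootGroup hg hu
  have hsub : ∀ V ∈ W, V ≤ rootGroup G := by
    rintro _ ⟨g, hg, rfl⟩
    exact (Subgroup.map_mono hU).trans (hR g hg)
  have hnorm : ∀ V ∈ W, ∀ h ∈ rootGroup G, conjBy V h = V := by
    rintro _ ⟨g, hg, rfl⟩ h hh
    have h' : g⁻¹ * h * g ∈ rootGroup G := by
      have := conj_mem_rootGroup (G.inv_mem hg) hh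
      rwa [inv_inv] at this
    rw [RootLib.conjBy_conjBy, show h * g = g * (g⁻¹ * h * g) by group, ← RootLib.conjBy_conjBy, hn _ h']
  have hWG : ∀ V ∈ W, V ≤ G := fun V hV => (hsub V hV).trans rootGroup_le
  have hWconj : ∀ V ∈ W, ∀ g ∈ G, conjBy V g ∈ W := by
    rintro _ ⟨h, hh, rfl⟩ g hg
    exact ⟨g * h, G.mul_mem hg hh, RootLib.conjBy_conjBy _ _ _⟩
  have hunip : ∀ V ∈ W, IsUnipotentOn V := by
    rintro _ ⟨g, hg, rfl⟩
    exact isUnipotentOn_conjBy hu g
  have hWW : ∀ V ∈ W, ∀ V' ∈ W, IsUnipotentOn (V ⊔ V') := fun V hV V' hV' =>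
    RootLib.isUnipotentOn_sup (hunip V hV) (hunip V' hV') fun v hv =>
      RootLib.conjBy_eq_iff_mem_normalizer.1 (hnorm V hV v (hsub V' hV' hv))
  have hbig := RootLib.isUnipotentOn_iSup hWG hWW hWconj
  have hb : (⨆ V ∈ W, V) = ⊥ := by
    refine hN _ (iSup₂_le hWG) (fun g hg => ?_) hbig
    have hle : ∀ g ∈ G, conjBy (⨆ V ∈ W, V) g ≤ ⨆ V ∈ W, V := fun g hg => by
      simp only [conjBy, Subgroup.map_iSup]
      exact iSup₂_le fun V hV => le_iSup₂_of_le (conjBy V g) (hWconj V hV g hg) le_rfl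
    refine le_antisymm (hle g hg) fun x hx => ?_
    exact ⟨g⁻¹ * x * g⁻¹⁻¹, hle g⁻¹ (G.inv_mem hg) ⟨x, hx, rfl⟩, by simp [mul_assoc]⟩
  refine le_bot_iff.1 (le_trans ?_ hb.le)
  exact le_iSup₂_of_le (f := fun V (_ : V ∈ W) => V) U ⟨1, G.one_mem, (RootLib.conjBy_one U).symm⟩ le_rfl

theorem isUnipotentOn_of_commuting {W : Set (Subgroup (LinearMap.GeneralLinearGroup k M))}
    (hW : ∀ C ∈ W, C ∈ quadraticRootSubgroups G) (hc : ∀ C ∈ W, ∀ D ∈ W, ⁅C, D⁆ = ⊥) :
    IsUnipotentOn (⨆ C ∈ W, C) := by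
  refine RootLib.isUnipotentOn_iSup (G := ⨆ C ∈ W, C)
    (fun C hC => le_iSup₂_of_le (f := fun C (_ : C ∈ W) => C) C hC le_rfl) ?_ ?_
  · intro C hC D hD
    obtain ⟨σ, hσ, rfl⟩ := hW C hC
    obtain ⟨τ, hτ, rfl⟩ := hW D hD
    have h := RootLib.bracket_eq_bot_iff.1 (hc _ hC _ hD) σ (self_mem_sameAction hσ) τ (self_mem_sameAction hτ)
    have hv := congrArg Units.val h
    rw [Units.val_mul, Units.val_mul] at hv
    obtain ⟨p, q⟩ := triple_eq_zero (Ring.two_ne_zero hk2) (isMinQ_of_mem hσ) (isMinQ_of_mem hτ)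
      (nilpotent_of_comm (isMinQ_of_mem hσ).sq (by linear_combination (norm := noncomm_ring) hv))
    exact isUnipotentOn_of_upair (Ring.two_ne_zero hk2) hσ hτ ⟨p, q⟩
  · intro C hC g hg
    have h : conjBy C g = C := RootLib.conjBy_eq_of_commute fun c hc' => by
      have hle : (⨆ D ∈ W, D) ≤ Subgroup.centralizer {c} := iSup₂_le fun D hD d hd => by
        rw [Subgroup.mem_centralizer_singleton_iff]
        exact RootLib.bracket_eq_bot_iff.1 (hc D hD C hC) d hd c hc'
      exact Subgroup.mem_centralizer_singleton_iff.1 (hle hg)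
    rw [h]; exact hC

/-- There are only finitely many components. -/
theorem comp_finite : (comp G '' quadraticRootSubgroups G).Finite := by
  classical
  set ι := ↥(comp G '' quadraticRootSubgroups G)
  have hrep : ∀ i : ι, ∃ σ, σ ∈ minimalQuadraticElements G ∧ comp G (sameActionSubgroup G σ) = i.1 := by
    rintro ⟨_, A, ⟨σ, hσ, rfl⟩, rfl⟩
    exact ⟨σ, hσ, rfl⟩
  choose σ hσ hσc using hrep
  suffices h : LinearIndependent k fun i : ι => ((σ i : End k M) - 1) by
    have : Finite ι := h.finite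
    exact Set.toFinite _
  rw [linearIndependent_iff']
  intro s w hs i hi
  obtain ⟨F, hF, hAF⟩ := exists_rankOne hk2 hk3 hN ⟨σ i, hσ i, rfl⟩
  obtain ⟨τ, hτ, rfl⟩ := hF
  have hn := not_nilpotent_of_rankOne hk2 hk3 hN (hσ i) hτ hAF
  have hne : ((σ i : End k M) - 1) * ((τ : End k M) - 1) - ((τ : End k M) - 1) * ((σ i : End k M) - 1) ≠ 0 :=
    fun e => hn (nilpotent_of_comm (isMinQ_of_mem (hσ i)).sq (sub_eq_zero.1 e))
  have h0 := congrArg (fun y => y * ((τ : End k M) - 1) - ((τ : End k M) - 1) * y) hs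
  simp only [Finset.sum_mul, Finset.mul_sum, zero_mul, mul_zero, sub_zero, ← Finset.sum_sub_distrib,
    smul_mul_assoc, mul_smul_comm, ← smul_sub] at h0
  rw [Finset.sum_eq_single i] at h0
  · exact (smul_eq_zero.1 h0).resolve_right hne
  · intro j _ hji
    rcases commute_or_reach hk2 hk3 hN ⟨σ j, hσ j, rfl⟩ ⟨τ, hτ, rfl⟩ with h | h
    · have h' := RootLib.bracket_eq_bot_iff.1 h (σ j) (self_mem_sameAction (hσ j)) τ (self_mem_sameAction hτ)
      have hv := congrArg Units.val h'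
      rw [Units.val_mul, Units.val_mul] at hv
      rw [show ((σ j : End k M) - 1) * ((τ : End k M) - 1) - ((τ : End k M) - 1) * ((σ j : End k M) - 1) = 0 by
        linear_combination (norm := noncomm_ring) hv, smul_zero]
    · refine absurd ?_ hji
      refine Subtype.ext ?_
      rw [← hσc j, ← hσc i]
      exact RootLib.componentOf_eq (h.trans (ReflTransGen.single (RootLib.fadj_symm
        (⟨⟨σ i, hσ i, rfl⟩, ⟨τ, hτ, rfl⟩, hAF⟩ : FAdj (quadraticRootSubgroups G) _ _))))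
  · exact fun h => absurd hi h

/-- Each component generates a quasisimple group in which it is a class of root subgroups. -/
theorem component_structure (hA : A ∈ quadraticRootSubgroups G) :
    IsQuasisimple ↥(compGroup G A) ∧
      IsRootSubgroupClass ((fun C : Subgroup (LinearMap.GeneralLinearGroup k M) => C.subgroupOf (compGroup G A)) ''
        comp G A) := by
  set H := compGroup G A with hH
  set D := comp G A with hD
  set T := (fun C : Subgroup (LinearMap.GeneralLinearGroup k M) => C.subgroupOf H) '' D with hT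
  have hle : ∀ C ∈ D, C ≤ H := fun C hC => le_compGroup hC
  have hST : IsRootSubgroupSet T := by
    refine isRootSubgroupSet_subgroupOf hle rfl ?_ (fun C hC => quadraticRoot_ne_bot hC.1)
      (fun C hC g hg => comp_conj_mem hk2 hk3 hN hC (compGroup_le_rootGroup hg)) ?_
    · intro C hC
      obtain ⟨σ, hσ, rfl⟩ := hC.1
      exact sameAction_isMulCommutative hσ
    · intro C hC E hE
      obtain ⟨σ, hσ, rfl⟩ := hC.1
      obtain ⟨τ, hτ, rfl⟩ := hE.1
      rcases trichotomy hk2 hk3 hN hσ hτ with h | h | h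
      · exact Or.inl h
      · exact Or.inr (Or.inl h.2)
      · refine Or.inr (Or.inr ⟨⟨h.1, hC.2.trans (reach_of_case hk2 hk3 hN hC.1 hE.1 h)⟩, h.2⟩)
  have hT2 : ∀ C' ∈ T, ∃ F ∈ T, IsRankOnePair C' F := by
    rintro _ ⟨C, hC, rfl⟩
    obtain ⟨F, hF, hCF⟩ := exists_rankOne hk2 hk3 hN hC.1
    have hF' : F ∈ D := ⟨hF, hC.2.tail ⟨hC.1, hF, hCF⟩⟩
    exact ⟨_, ⟨F, hF', rfl⟩, isRankOnePair_subgroupOf (hle C hC) (hle F hF') hCF⟩
  have hconn : IsConnectedFamily (FAdj T) T := by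
    have key : ∀ C ∈ D, ReflTransGen (FAdj T) (A.subgroupOf H) (C.subgroupOf H) := by
      rintro C ⟨-, hr⟩
      induction hr with
      | refl => exact ReflTransGen.refl
      | tail h1 h2 ih =>
        exact ih.tail ⟨⟨_, ⟨h2.1, h1⟩, rfl⟩, ⟨_, ⟨h2.2.1, h1.tail h2⟩, rfl⟩,
          isRankOnePair_subgroupOf (hle _ ⟨h2.1, h1⟩) (hle _ ⟨h2.2.1, h1.tail h2⟩) h2.2.2⟩
    rintro _ ⟨P, hP, rfl⟩ _ ⟨Q, hQ, rfl⟩
    exact (RootLib.reach_symm (key P hP)).trans (key Q hQ)
  have hA' : A.subgroupOf H ∈ T := ⟨A, self_mem_comp hA, rfl⟩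
  obtain ⟨F', hF', hAF'⟩ := hT2 _ hA'
  have hconj := ((S5032.result hST ⟨_, hA', _, hF', hAF'.ne⟩).1 hconn).1
  have h3 : IsDegenerateRootSet T → ∀ C' ∈ T, 3 < ENat.card C' := by
    rintro - _ ⟨C, hC, rfl⟩
    rw [card_subgroupOf (hle C hC)]
    exact three_lt_card hk2 hk3 hN hC.1
  have h4 : ∀ C' ∈ T, ∀ E' ∈ rankOnePartners T C', IsSpecialRankOnePair C' E' := by
    rintro _ ⟨C, hC, rfl⟩ _ ⟨⟨E, hE, rfl⟩, hCE⟩
    exact isSpecialRankOnePair_subgroupOf (hle C hC) (hle E hE) (special_of_rankOne hk2 hk3 hN hC.1 hE.1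
      (isRankOnePair_of_subgroupOf (hle C hC) (hle E hE) hCE))
  refine ⟨?_, hST, hconj⟩
  have htop := RootLib.commutator_eq_top hST hconj hT2 h3 h4
  have : Nontrivial H := by
    obtain ⟨⟨x, hx⟩, hx1⟩ := (A.subgroupOf H).ne_bot_iff_exists_ne_one.1 (hST.ne_bot _ hA')
    exact ⟨x, 1, fun e => hx1 (Subtype.ext e)⟩
  refine Components.isQuasisimple_of_normal_cases htop fun N hNn => ?_
  rcases eq_or_ne N ⊤ with hNtop | hNtop
  · exact Or.inl hNtop
  refine Or.inr ?_
  have hcl := fun (n : H) (hn : n ∈ N) (P : Subgroup H) (hP : P ∈ T) =>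
    centralizing_eq_of_normal hST hconj h3 h4 N hNtop hn hP
  -- the classes generate abelian unipotent groups normalised by `N`
  let W : Subgroup H → Subgroup H := fun P =>
    ⨆ Q ∈ {Q | Q ∈ T ∧ centralizingMembers T Q = centralizingMembers T P}, Q
  have hWconj : ∀ (P : Subgroup H) (g : H), conjBy (W P) g ≤ W (conjBy P g) := fun P g => by
    simp only [W, conjBy, Subgroup.map_iSup]
    exact iSup₂_le fun Q hQ => le_iSup₂_of_le (conjBy Q g)
      ⟨hST.conj_mem Q hQ.1 g, centralizing_conj_congr hST hQ.2 g⟩ le_rfl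
  have hWN : ∀ P ∈ T, ∀ n ∈ N, conjBy (W P) n ≤ W P := fun P hP n hn => by
    refine (hWconj P n).trans (le_of_eq ?_)
    simp only [W, hcl n hn P hP]
  set V := fun P : Subgroup H => ((W P ⊓ N).map H.subtype) with hV
  have hWu : ∀ P ∈ T, IsUnipotentOn (V P) := by
    intro P hP
    set W' := (Subgroup.map H.subtype) '' {Q | Q ∈ T ∧ centralizingMembers T Q = centralizingMembers T P}
    have hu : IsUnipotentOn (⨆ C ∈ W', C) := by
      refine isUnipotentOn_of_commuting hk2 hk3 hN ?_ ?_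
      · rintro _ ⟨_, ⟨⟨C, hC, rfl⟩, -⟩, rfl⟩
        rw [Subgroup.map_subgroupOf_eq_of_le (hle C hC)]
        exact hC.1
      · rintro _ ⟨Q, hQ, rfl⟩ _ ⟨Q', hQ', rfl⟩
        rw [← Subgroup.map_commutator, commute_of_same hST hQ.1 (hQ'.2.trans hQ.2.symm), Subgroup.map_bot]
    refine RootLib.isUnipotentOn_of_le (RootLib.augSpan_mono ?_) hu
    refine (Subgroup.map_mono inf_le_left).trans ?_
    simp only [W, Subgroup.map_iSup, W', iSup_image]
    exact le_rfl
  set WW := V '' T with hWW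
  have hsub : ∀ U ∈ WW, U ≤ H := by
    rintro _ ⟨P, -, rfl⟩
    exact Subgroup.map_subtype_le _
  have hWWconj : ∀ U ∈ WW, ∀ g ∈ H, conjBy U g ∈ WW := by
    rintro _ ⟨P, hP, rfl⟩ g hg
    refine ⟨conjBy P ⟨g, hg⟩, hST.conj_mem P hP _, ?_⟩
    have e : W (conjBy P ⟨g, hg⟩) ⊓ N = conjBy (W P ⊓ N) ⟨g, hg⟩ := by
      refine le_antisymm (fun y hy => ?_) fun y hy => ?_
      · refine RootLib.mem_conjBy.2 (Subgroup.mem_inf.2 ⟨?_, ?_⟩)
        swap
        · simpa using hNn.conj_mem y hy.2 (⟨g, hg⟩ : H)⁻¹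
        have h := hWconj (conjBy P ⟨g, hg⟩) (⟨g, hg⟩ : H)⁻¹ ⟨y, hy.1, rfl⟩
        rw [RootLib.conjBy_inv_cancel] at h
        simpa using h
      · have h := RootLib.mem_conjBy.1 hy
        refine ⟨hWconj P ⟨g, hg⟩ (RootLib.mem_conjBy.2 h.1), ?_⟩
        have h2 := hNn.conj_mem _ h.2 ⟨g, hg⟩
        simpa [mul_assoc] using h2
    show (W (conjBy P ⟨g, hg⟩) ⊓ N).map H.subtype = conjBy (V P) g
    rw [e, RootLib.map_conjBy]
    rfl
  have hpairs : ∀ U ∈ WW, ∀ U' ∈ WW, IsUnipotentOn (U ⊔ U') := by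
    rintro _ ⟨P, hP, rfl⟩ _ ⟨P', hP', rfl⟩
    refine RootLib.isUnipotentOn_sup (hWu P hP) (hWu P' hP') ?_
    rintro _ ⟨u, hu, rfl⟩
    refine RootLib.conjBy_eq_iff_mem_normalizer.1 ?_
    show conjBy ((W P ⊓ N).map H.subtype) (H.subtype u) = (W P ⊓ N).map H.subtype
    rw [← RootLib.map_conjBy]
    have hl : ∀ n ∈ N, conjBy (W P ⊓ N) n ≤ W P ⊓ N := by
      rintro n hn _ ⟨y, hy, rfl⟩
      exact ⟨hWN P hP n hn ⟨y, hy.1, rfl⟩, hNn.conj_mem y hy.2 n⟩
    congr 1
    refine le_antisymm (hl u hu.2) fun y hy => ?_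
    exact ⟨u⁻¹ * y * u⁻¹⁻¹, hl u⁻¹ (inv_mem hu.2) ⟨y, hy, rfl⟩, by simp [mul_assoc]⟩
  have hbot : (⨆ U ∈ WW, U) = ⊥ := by
    refine eq_bot_of_unipotent hk2 hk3 hN ((iSup₂_le hsub).trans compGroup_le_rootGroup) ?_
      (RootLib.isUnipotentOn_iSup hsub hpairs hWWconj)
    have hroot : rootGroup G ≤ H ⊔ Subgroup.centralizer (H : Set (LinearMap.GeneralLinearGroup k M)) :=
      iSup₂_le fun C hC => by
        by_cases h : C ∈ D
        · exact (hle C h).trans le_sup_left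
        · exact (compGroup_commute hk2 hk3 hN hA hC h).trans le_sup_right
    intro g hg
    rw [RootLib.conjBy_eq_iff_mem_normalizer]
    revert g hg
    refine (hroot.trans (sup_le (fun g hg => RootLib.conjBy_eq_iff_mem_normalizer.1 ?_)
      (fun g hg => RootLib.conjBy_eq_iff_mem_normalizer.1 ?_)) :
        rootGroup G ≤ Subgroup.normalizer ((⨆ U ∈ WW, U : Subgroup _) : Set (LinearMap.GeneralLinearGroup k M)))
    · have hl : ∀ g ∈ H, conjBy (⨆ U ∈ WW, U) g ≤ ⨆ U ∈ WW, U := fun g hg => by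
        simp only [conjBy, Subgroup.map_iSup]
        exact iSup₂_le fun U hU => le_iSup₂_of_le (conjBy U g) (hWWconj U hU g hg) le_rfl
      refine le_antisymm (hl g hg) fun x hx => ?_
      exact ⟨g⁻¹ * x * g⁻¹⁻¹, hl g⁻¹ (inv_mem hg) ⟨x, hx, rfl⟩, by simp [mul_assoc]⟩
    · exact RootLib.conjBy_eq_of_commute fun x hx =>
        (Subgroup.mem_centralizer_iff.1 hg x ((iSup₂_le hsub : (⨆ U ∈ WW, U) ≤ H) hx)).symm
  have hfix : ∀ n ∈ N, ∀ P ∈ T, conjBy P n = P := by
    intro n hn P hP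
    refine RootLib.conjBy_eq_of_commute fun x hx => ?_
    have hv : n * x * n⁻¹ * x⁻¹ ∈ W P ⊓ N := by
      have hPW : P ≤ W P := le_iSup₂_of_le P ⟨hP, rfl⟩ le_rfl
      refine Subgroup.mem_inf.2 ⟨Subgroup.mul_mem _ ?_ (Subgroup.inv_mem _ (hPW hx)), ?_⟩
      · exact hWN P hP n hn ⟨x, hPW hx, rfl⟩
      · rw [mul_assoc, mul_assoc]
        refine mul_mem hn ?_
        rw [← mul_assoc]
        exact hNn.conj_mem _ (inv_mem hn) x
    have h1 : H.subtype (n * x * n⁻¹ * x⁻¹) ∈ (⊥ : Subgroup (LinearMap.GeneralLinearGroup k M)) :=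
      hbot ▸ (le_iSup₂_of_le (f := fun U (_ : U ∈ WW) => U) (V P) ⟨P, hP, rfl⟩ le_rfl : V P ≤ _) ⟨_, hv, rfl⟩
    rw [Subgroup.mem_bot] at h1
    have h2 : n * x * n⁻¹ * x⁻¹ = 1 := Subtype.ext h1
    exact mul_inv_eq_iff_eq_mul.1 (mul_inv_eq_one.1 h2)
  refine fun n hn => Subgroup.mem_center_iff.2 fun g => ?_
  have hcen : (⨆ P ∈ T, P) ≤ Subgroup.centralizer {n} := iSup₂_le fun P hP a ha => by
    obtain ⟨F, hF, hPF⟩ := hT2 P hP
    rw [Subgroup.mem_centralizer_singleton_iff]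
    exact (RootLib.commute_of_fix_all hPF (fun C hC => hfix n hn C (RootLib.unipotent_mem_set hST hP hC)) a
      (Subgroup.mem_sup_left ha)).symm
  rw [hST.generates] at hcen
  exact Subgroup.mem_centralizer_singleton_iff.1 (hcen (Subgroup.mem_top g))

end Cfsg.Agent.Quad
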