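import Cfsg.Agent.Lib.Quad.RootSet

/-!
An arbitrary quadratic map either commutes with all minimal ones, or splits off an orthogonal piece
lying in the group generated by two conjugate members of `Σ`.
-/

set_option autoImplicit false

namespace Cfsg.Agent.Quad

open Cfsg Module

variable {k : Type*} [Field k] {M : Type*} [AddCommGroup M] [Module k M] [FiniteDimensional k M]
variable {G : Subgroup (LinearMap.GeneralLinearGroup k M)} {a x : End k M}

omit [FiniteDimensional k M] in
theorem conjOne_eq (a x : End k M) (t : k) :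
    (1 + t • x) * a * (1 - t • x) = a + t • (x * a - a * x) - (t * t) • (x * a * x) := by
  simp only [add_mul, mul_sub, one_mul, mul_one, smul_mul_assoc, mul_smul_comm, smul_sub, smul_add, smul_smul]
  abel

theorem isMinQ_conj_pm (ha : IsMinQ G a) (hx : Qe G x) :
    IsMinQ G (a + (x * a - a * x) - x * a * x) ∧ IsMinQ G (a - (x * a - a * x) - x * a * x) := by
  have h1 := ha.conjOne hx 1
  have h2 := ha.conjOne hx (-1)
  rw [conjOne_eq] at h1 h2
  simp only [one_smul, one_mul, neg_mul_neg, neg_smul] at h1 h2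
  exact ⟨h1, by rw [sub_eq_add_neg a (x * a - a * x)]; exact h2⟩

theorem qe_of_two (hk : (2 : k) ≠ 0) {z : End k M} (h : Qe G (z + z)) : Qe G z := by
  have e : (2⁻¹ : k) • (z + z) = z := by rw [inv_smul_eq_iff₀ hk, two_smul]
  rw [← e]; exact h.smul _

variable (hk2 : ringChar k ≠ 2) (hk3 : Nat.card k ≠ 3) (hN : NoUnip G)
include hk2 hk3 hN

/-- If every minimal `a` has `(a x)² a = 0` then `x` commutes with all of them. -/
theorem comm_of_all_nilpotent (hx : Qe G x) (h : ∀ a, IsMinQ G a → a * x * a * x * a = 0)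
    (ha : IsMinQ G a) : x * a = a * x := by
  have hk := Ring.two_ne_zero hk2
  have hxx := hx.1
  -- `a x a = 0`
  have hT : ∀ a, IsMinQ G a → a * x * a = 0 := by
    intro a ha
    obtain ⟨h1, h2⟩ := isMinQ_conj_pm ha hx
    have haa := ha.sq
    have ht := h a ha
    have u1 : UPair a (a + (x * a - a * x) - x * a * x) := UPair.of_eq_zero hk h1 ha (by
      linear_combination (norm := noncomm_ring) -ht + a * x * haa - haa * x * a + haa * a) |>.symm
    have u2 : UPair a (a - (x * a - a * x) - x * a * x) := UPair.of_eq_zero hk h2 ha (by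
      linear_combination (norm := noncomm_ring) -ht - a * x * haa + haa * x * a + haa * a) |>.symm
    have haaL : ∀ y, a * (a * y) = 0 := fun y => by rw [← mul_assoc, haa, zero_mul]
    have hxxL : ∀ y, x * (x * y) = 0 := fun y => by rw [← mul_assoc, hxx, zero_mul]
    have htL : ∀ y, a * (x * (a * (x * (a * y)))) = 0 := fun y => by
      simp only [← mul_assoc, ht, zero_mul]
    have ht' : a * (x * (a * (x * a))) = 0 := by simp only [← mul_assoc, ht]
    have e1 : a * (a + (x * a - a * x) - x * a * x) - (a + (x * a - a * x) - x * a * x) * a =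
        a * x * a + a * x * a - (a * (x * a * x) - x * a * x * a) := by
      linear_combination (norm := noncomm_ring) -haa * x - x * haa
    have e2 : a * (a - (x * a - a * x) - x * a * x) - (a - (x * a - a * x) - x * a * x) * a =
        -(a * x * a + a * x * a) - (a * (x * a * x) - x * a * x * a) := by
      linear_combination (norm := noncomm_ring) haa * x + x * haa
    set T := a * x * a with hTdef
    set w := a * (x * a * x) - x * a * x * a with hw
    have q1 := u1.qe ha.qe h1.qe
    have q2 := u2.qe ha.qe h2.qe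
    rw [e1] at q1
    rw [e2] at q2
    have z1 : (T + T - w) * -(-(T + T) - w) = 0 := by
      simp only [hTdef, hw, mul_add, add_mul, mul_sub, sub_mul, mul_neg, neg_mul, neg_neg, mul_assoc, haa,
        haaL, hxxL, ht', htL, mul_zero, neg_zero, sub_zero, add_zero]
    have z2 : -(-(T + T) - w) * (T + T - w) = 0 := by
      simp only [hTdef, hw, mul_add, add_mul, mul_sub, sub_mul, mul_neg, neg_mul, neg_neg, mul_assoc, haa,
        haaL, hxxL, ht', htL, mul_zero, neg_zero, sub_zero, add_zero]
    have q3 := q1.add q2.neg z1 z2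
    rw [show T + T - w + -(-(T + T) - w) = (T + T) + (T + T) by abel] at q3
    have hq := qe_of_two hk (qe_of_two hk q3)
    by_contra hne
    have heq : LinearMap.range T = LinearMap.range a :=
      Submodule.eq_of_le_of_finrank_le (by rw [hTdef, mul_assoc]; exact LinearMap.range_comp_le_range _ _)
        (ha.le _ hq hne)
    refine ha.ne_zero (LinearMap.ext fun m => ?_)
    obtain ⟨m1, hm1⟩ : a m ∈ LinearMap.range T := heq ▸ LinearMap.mem_range_self a m
    obtain ⟨m2, hm2⟩ : a m1 ∈ LinearMap.range T := heq ▸ LinearMap.mem_range_self a m1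
    rw [hTdef, Module.End.mul_apply, Module.End.mul_apply] at hm1 hm2
    rw [← hm1, ← hm2]
    simp only [← Module.End.mul_apply, ← mul_assoc]
    rw [ht, LinearMap.zero_apply, LinearMap.zero_apply]
  -- `u = x a - a x` and `y = x a x` are quadratic
  have hQ : ∀ a, IsMinQ G a → Qe G (x * a - a * x) ∧ Qe G (x * a * x) := by
    intro a ha
    obtain ⟨h1, h2⟩ := isMinQ_conj_pm ha hx
    have haa := ha.sq
    have haaL : ∀ y, a * (a * y) = 0 := fun y => by rw [← mul_assoc, haa, zero_mul]
    have hxxL : ∀ y, x * (x * y) = 0 := fun y => by rw [← mul_assoc, hxx, zero_mul]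
    have haxaL : ∀ y, a * (x * (a * y)) = 0 := fun y => by simp only [← mul_assoc, hT a ha, zero_mul]
    have haxa : a * (x * a) = 0 := by rw [← mul_assoc, hT a ha]
    obtain ⟨u, hu⟩ : ∃ u, u = x * a - a * x := ⟨_, rfl⟩
    obtain ⟨y, hy⟩ : ∃ y, y = x * a * x := ⟨_, rfl⟩
    rw [← hu, ← hy] at h1 h2 ⊢
    have k1 : a * u = 0 ∧ u * a = 0 ∧ a * y = 0 ∧ y * a = 0 ∧ u * u = 0 ∧ u * y = 0 ∧ y * u = 0 ∧ y * y = 0 := by
      simp only [hu, hy, mul_sub, sub_mul, mul_assoc, haa, haaL, hxx, hxxL, haxa, haxaL, mul_zero, sub_zero,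
        and_self]
    obtain ⟨au, ua, ay, ya, uu, uy, yu, yy⟩ := k1
    have z : ∀ p q r s : k, (p • a + q • u - y) * (r • a + s • u - y) = 0 := fun p q r s => by
      simp only [mul_add, add_mul, mul_sub, sub_mul, smul_mul_assoc, mul_smul_comm, haa, au, ua, ay, ya, uu, uy,
        yu, yy, smul_zero, add_zero, sub_zero]
    have q3 := h1.qe.add h2.qe.neg
      (by linear_combination (norm := (simp only [one_smul, neg_smul]; noncomm_ring)) -z 1 1 1 (-1))
      (by linear_combination (norm := (simp only [one_smul, neg_smul]; noncomm_ring)) -z 1 (-1) 1 1)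
    rw [show a + u - y + -(a - u - y) = u + u by abel] at q3
    have q4 := h1.qe.add h2.qe
      (by linear_combination (norm := (simp only [one_smul, neg_smul]; noncomm_ring)) z 1 1 1 (-1))
      (by linear_combination (norm := (simp only [one_smul, neg_smul]; noncomm_ring)) z 1 (-1) 1 1)
    have q5 := q4.add (ha.qe.smul (-2 : k)) (by
      simp only [mul_smul_comm, mul_add, add_mul, mul_sub, sub_mul, haa, ua, ya, smul_zero, add_zero, sub_zero])
      (by
      simp only [smul_mul_assoc, mul_add, add_mul, mul_sub, sub_mul, haa, au, ay, smul_zero, add_zero, sub_zero])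
    rw [show a + u - y + (a - u - y) + (-2 : k) • a = -y + -y by rw [neg_smul, two_smul]; abel] at q5
    exact ⟨qe_of_two hk q3, by simpa using (qe_of_two hk q5).neg⟩
  -- `a (x c x) a = 0`
  have hcx : ∀ a c, IsMinQ G a → IsMinQ G c → a * x * c * x * a = 0 := by
    intro a c ha hc
    have key : ∀ u : End k M, Qe G u → a * ((1 - u) * x * (1 + u)) * a = 0 := by
      intro u huq
      have h1 := ha.conjOne huq 1
      rw [one_smul] at h1
      have e1 := hT _ h1
      have h5 : (1 - u) * ((1 + u) * a * (1 - u) * x * ((1 + u) * a * (1 - u))) * (1 + u) = 0 := by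
        rw [e1, mul_zero, zero_mul]
      have i1 : (1 - u) * (1 + u) = 1 := by linear_combination (norm := noncomm_ring) -huq.1
      simp only [← mul_assoc, i1, one_mul] at h5 ⊢
      simp only [mul_assoc, i1, mul_one] at h5 ⊢
      exact h5
    have p1 := key _ (hQ c hc).1
    have p2 := key _ (hQ c hc).1.neg
    have h4 : (2 : k) • ((2 : k) • (a * x * c * x * a)) = 0 := by
      simp only [two_smul]
      linear_combination (norm := noncomm_ring) -p1 + p2 + 2 • (a * c * hxx * a) + 2 • (a * hxx * c * a)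
    exact (smul_eq_zero.1 ((smul_eq_zero.1 h4).resolve_left hk)).resolve_left hk
  -- `x a x = 0`
  have hy0 : ∀ a, IsMinQ G a → x * a * x = 0 := by
    intro a ha
    by_contra hne
    have hle : finrank k (LinearMap.range (x * a * x)) ≤ finrank k (LinearMap.range a) := by
      refine (Submodule.finrank_mono ?_).trans (Submodule.finrank_map_le x (LinearMap.range a))
      rintro _ ⟨m, rfl⟩
      exact ⟨a (x m), LinearMap.mem_range_self _ _, rfl⟩
    have hY := ha.of_le (hQ a ha).2 hne hle
    obtain ⟨c, hc, hn, -⟩ := exists_partner hk hN hY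
    refine hn (nilpotent_of_triple ?_)
    calc x * a * x * c * (x * a * x) = x * (a * x * c * x * a) * x := by simp only [mul_assoc]
      _ = 0 := by rw [hcx a c ha hc, mul_zero, zero_mul]
  by_contra hne
  have hU : UPair x a := ⟨hy0 a ha, hT a ha⟩
  have hM : IsMinQ G (x * a - a * x) := ha.of_le (hQ a ha).1 (sub_ne_zero.2 hne) hU.rank_le
  obtain ⟨c, hc, hn, -⟩ := exists_partner hk hN hM
  have h1 := hc.conjOne ha.qe 1
  rw [one_smul] at h1
  have e1 := hT _ h1
  have e1' : c * ((1 - a) * x * (1 + a)) * c = 0 := by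
    have h5 : (1 - a) * ((1 + a) * c * (1 - a) * x * ((1 + a) * c * (1 - a))) * (1 + a) = 0 := by
      rw [e1, mul_zero, zero_mul]
    have i1 : (1 - a) * (1 + a) = 1 := by linear_combination (norm := noncomm_ring) -ha.sq
    simp only [← mul_assoc, i1, one_mul] at h5 ⊢
    simp only [mul_assoc, i1, mul_one] at h5 ⊢
    exact h5
  have ec := hT c hc
  have hcuc : c * (x * a - a * x) * c = 0 := by
    linear_combination (norm := noncomm_ring) e1' - ec + c * hT a ha * c
  exact hn (nilpotent_of_triple (UPair.of_eq_zero hk hM hc hcuc).aba)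

omit hk2 hk3 hN in
/-- The diagonal element of a normalised pair. -/
theorem torus_mem {a b : End k M} (N : Nrm a b) (haa : a * a = 0) (hbb : b * b = 0)
    {H : Subgroup (LinearMap.GeneralLinearGroup k M)}
    (hA : ∀ t : k, ∃ g ∈ H, (g : End k M) = 1 + t • a) (hB : ∀ t : k, ∃ g ∈ H, (g : End k M) = 1 + t • b)
    {l : k} (hl : l ≠ 0) :
    ∃ g ∈ H, (g : End k M) = 1 + ((l - 1) • (a * b) + (l⁻¹ - 1) • (b * a)) := by
  have h1 : a * (b * a) = a := by rw [← mul_assoc, N.aba]
  have h2 : b * (a * b) = b := by rw [← mul_assoc, N.bab]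
  have hw : ∀ t : k, t ≠ 0 → ∃ g ∈ H, (g : End k M) = 1 - a * b - b * a + (t • a - t⁻¹ • b) := by
    intro t ht
    obtain ⟨u, hu, hu'⟩ := hA t
    obtain ⟨v, hv, hv'⟩ := hB (-t⁻¹)
    refine ⟨u * v * u, H.mul_mem (H.mul_mem hu hv) hu, ?_⟩
    simp only [Units.val_mul, hu', hv', neg_smul, mul_add, add_mul, mul_neg, neg_mul, one_mul, mul_one,
      smul_mul_assoc, mul_smul_comm, smul_add, smul_neg, smul_smul, mul_assoc, haa, h1, smul_zero,
      mul_inv_cancel₀ ht, inv_mul_cancel₀ ht, one_smul, add_zero]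
    try abel
  obtain ⟨g, hg, hg'⟩ := hw l hl
  obtain ⟨g1, hg1, hg1'⟩ := hw (-1) (neg_ne_zero.2 one_ne_zero)
  refine ⟨g * g1, H.mul_mem hg hg1, ?_⟩
  simp only [Units.val_mul, hg', hg1', inv_neg, inv_one, neg_smul, one_smul, sub_neg_eq_add, mul_add, add_mul,
    mul_sub, sub_mul, mul_neg, neg_mul, one_mul, mul_one, smul_mul_assoc, mul_smul_comm, mul_assoc, haa, hbb, h1, h2,
    show a * (a * b) = 0 by rw [← mul_assoc, haa, zero_mul],
    show b * (b * a) = 0 by rw [← mul_assoc, hbb, zero_mul], mul_zero, smul_zero, sub_smul, add_zero, sub_zero, zero_sub, neg_zero, smul_sub]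
  try abel

omit hN in
/-- The piece of `x` on the support of a non-nilpotent pair. -/
theorem exists_piece (ha : IsMinQ G a) (hx : Qe G x) (hax : a * x * a * x * a ≠ 0)
    (H : Subgroup (LinearMap.GeneralLinearGroup k M))
    (hH : ∀ g : LinearMap.GeneralLinearGroup k M, (g : End k M) - 1 ∈ amod ha → g ∈ H)
    (hHG : H ≤ G) (hnorm : ∀ (t : k) (u : LinearMap.GeneralLinearGroup k M), (u : End k M) = 1 + t • x →
      ∀ g ∈ H, u * g * u⁻¹ ∈ H) :
    ∃ X : End k M, Qe G X ∧ X ≠ 0 ∧ X * x = 0 ∧ x * X = 0 ∧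
      finrank k (LinearMap.range (x - X)) < finrank k (LinearMap.range x) ∧
      a * (x - X) = 0 ∧ (x - X) * a = 0 ∧ ∀ s : k, ∃ g ∈ H, (g : End k M) = 1 + s • X := by
  have hk := Ring.two_ne_zero hk2
  have haa := ha.sq
  have hxx := hx.1
  obtain ⟨u0, hu0, hu0'⟩ := hx.2 1
  rw [one_smul] at hu0'
  have hu0i := inv_val_of_val hxx hu0'
  have h1 := (isMinQ_conj_pm ha hx).1
  have hn : ¬ IsNilpotent (a * (a + (x * a - a * x) - x * a * x)) := fun hnil => hax (by
    have e := (triple_eq_zero hk ha h1 hnil).1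
    linear_combination (norm := noncomm_ring) -e + haa * a + a * x * haa - haa * x * a)
  obtain ⟨b', hb', N⟩ := exists_nrm hk2 hk3 ha h1 hn
  obtain ⟨a', ha'eq⟩ : ∃ a', a' = (1 - x) * b' * (1 + x) := ⟨_, rfl⟩
  have ha'm : a' ∈ amod ha := by
    have h := conj_mem_amod hb' (G.inv_mem hu0)
    simp only [inv_inv, hu0', hu0i] at h
    have e : (1 - x) * (a + (x * a - a * x) - x * a * x) * (1 + x) = a := by
      linear_combination (norm := noncomm_ring) -hxx * a - a * hxx + hxx * a * (x * x)
    rw [ha'eq]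
    rwa [amod_congr e _ ha] at h
  have i2 : (1 + x) * (1 - x) = 1 := by linear_combination (norm := noncomm_ring) -hxx
  have hbv : b' = (1 + x) * a' * (1 - x) := by
    rw [ha'eq]
    simp only [← mul_assoc, i2, one_mul]
    simp only [mul_assoc, i2, mul_one]
  have m1 : a * a' = 0 := mul_eq_zero_of_amod (self_mem_amod ha) ha'm
  have m2 : a' * a = 0 := mul_eq_zero_of_amod ha'm (self_mem_amod ha)
  have m3 : a' * a' = 0 := mul_eq_zero_of_amod ha'm ha'm
  have A1 : a * x * a' * x * a = -a := by
    have e := N.aba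
    rw [hbv] at e
    linear_combination (norm := noncomm_ring) -e + m1 * a + a * x * m2 - m1 * x * a
  have A2 : a' * x * a * x * a' = -a' := by
    have e : (1 - x) * (b' * a * b') * (1 + x) = (1 - x) * b' * (1 + x) := by rw [N.bab]
    rw [← ha'eq, hbv] at e
    have i3 : (1 - x) * (1 + x) = 1 := by linear_combination (norm := noncomm_ring) -hxx
    simp only [← mul_assoc, i3, one_mul] at e
    simp only [mul_assoc, i3, mul_one] at e
    linear_combination (norm := noncomm_ring) -e + m2 * a' - a' * x * m1 + m2 * x * a'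
  obtain ⟨e, he⟩ : ∃ e, e = -(a * x * a' * x) := ⟨_, rfl⟩
  obtain ⟨f, hf⟩ : ∃ f, f = -(x * a' * x * a) := ⟨_, rfl⟩
  obtain ⟨T, hT⟩ : ∃ T, T = a * x * a' := ⟨_, rfl⟩
  have e_left : ∀ w ∈ amod ha, e * w = w := fun w hw => LinearMap.ext fun m => by
    obtain ⟨n, hn⟩ := hw.2.1 (LinearMap.mem_range_self w m)
    rw [Module.End.mul_apply, ← hn, ← Module.End.mul_apply]
    have : e * a = a := by rw [he, neg_mul, A1, neg_neg]
    rw [this]
  have f_right : ∀ w ∈ amod ha, w * f = w := fun w hw => LinearMap.ext fun m => by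
    have hk' : m - f m ∈ LinearMap.ker a := by
      have : a * f = a := by rw [hf, mul_neg, ← mul_assoc, ← mul_assoc, ← mul_assoc, A1, neg_neg]
      rw [LinearMap.mem_ker, map_sub, ← Module.End.mul_apply, this, sub_self]
    have := LinearMap.mem_ker.1 (hw.2.2 hk')
    rw [map_sub, sub_eq_zero] at this
    exact this.symm
  have hT' : a' * x * a = T := by
    calc a' * x * a = e * a' * x * a := by rw [e_left a' ha'm]
      _ = a * x * (a' * f) := by rw [he, hf]; simp only [neg_mul, mul_neg, mul_assoc]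
      _ = T := by rw [f_right a' ha'm, hT]
  have hab : a * b' = e + T := by
    rw [hbv, he, hT]; linear_combination (norm := noncomm_ring) m1 - m1 * x
  have hba : b' * a = f - T := by
    rw [hbv, hf, ← hT']; linear_combination (norm := noncomm_ring) m2 + x * m2
  -- the element of `H` with value `1 + t w` for the three spaces
  have hA : ∀ w, w ∈ amod ha → ∀ t : k, ∃ g ∈ H, (g : End k M) = 1 + t • w := fun w hw t =>
    ⟨oneAdd (t • w) (smul_mul_smul_zero hw.1.1 t t), hH _ (by
      rw [oneAdd_val, add_sub_cancel_left]; exact Submodule.smul_mem _ t hw), rfl⟩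
  have hB : ∀ t : k, ∃ g ∈ H, (g : End k M) = 1 + t • b' := fun t => by
    obtain ⟨g, hg, hg'⟩ := hA a' ha'm t
    refine ⟨u0 * g * u0⁻¹, hnorm 1 u0 (by rw [one_smul]; exact hu0') g hg, ?_⟩
    simp only [Units.val_mul, hu0', hu0i, hg', hbv, mul_add, add_mul, mul_one, one_mul, mul_smul_comm,
      smul_mul_assoc, mul_sub, smul_add, smul_sub]
    linear_combination (norm := noncomm_ring) -hxx
  have hB'' : ∀ t : k, ∃ g ∈ H, (g : End k M) = 1 + t • ((1 - x) * a' * (1 + x)) := fun t => by
    obtain ⟨g, hg, hg'⟩ := hA a' ha'm t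
    refine ⟨u0⁻¹ * g * u0⁻¹⁻¹, hnorm (-1) u0⁻¹ (by rw [hu0i, neg_one_smul, sub_eq_add_neg]) g hg, ?_⟩
    rw [inv_inv]
    simp only [Units.val_mul, hu0', hu0i, hg', mul_add, add_mul, mul_one, one_mul, mul_smul_comm,
      smul_mul_assoc, sub_mul, smul_add, smul_sub]
    linear_combination (norm := noncomm_ring) -hxx
  have N'' : Nrm a ((1 - x) * a' * (1 + x)) := by
    refine ⟨?_, ?_⟩
    · linear_combination (norm := noncomm_ring) m1 * a + m1 * x * a - a * x * m2 - A1
    · have i3 : (1 + x) * a * (1 - x) = a + (x * a - a * x) - x * a * x := by noncomm_ring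
      calc (1 - x) * a' * (1 + x) * a * ((1 - x) * a' * (1 + x))
          = (1 - x) * (a' * ((1 + x) * a * (1 - x)) * a') * (1 + x) := by simp only [mul_assoc]
        _ = (1 - x) * a' * (1 + x) := by
            rw [i3]
            congr 2
            linear_combination (norm := noncomm_ring) m2 * a' - a' * x * m1 - A2 + a' * x * m1 * x - a' * x * m1 * x +
              (-m2 * x * a' + a' * x * m2 * a' - a' * x * m2 * a') + 2 • (a' * x * m1)
  have hab'' : a * ((1 - x) * a' * (1 + x)) = e - T := by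
    rw [he, hT]; linear_combination (norm := noncomm_ring) m1 + m1 * x
  have hba'' : (1 - x) * a' * (1 + x) * a = f + T := by
    rw [hf, ← hT']; linear_combination (norm := noncomm_ring) m2 - x * m2
  have r1 : e * e = e := by
    rw [he]; linear_combination (norm := noncomm_ring) A1 * x * a' * x
  have r2 : f * f = f := by
    rw [hf]; linear_combination (norm := noncomm_ring) x * a' * x * A1
  have r3 : e * f = 0 := by
    rw [he, hf]; linear_combination (norm := noncomm_ring) a * x * a' * hxx * a' * x * a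
  have r4 : f * e = 0 := by
    rw [he, hf]; linear_combination (norm := noncomm_ring) x * a' * x * haa * x * a' * x
  have r5 : e * T = T := by rw [hT, ← mul_assoc, ← mul_assoc, e_left a (self_mem_amod ha)]
  have r6 : T * f = T := by rw [← hT', mul_assoc, f_right a (self_mem_amod ha)]
  have r7 : T * e = 0 := by
    rw [hT, he]; linear_combination (norm := noncomm_ring) -a * x * m2 * x * a' * x
  have r8 : f * T = 0 := by
    rw [hT, hf]; linear_combination (norm := noncomm_ring) -x * a' * x * haa * x * a'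
  have r9 : T * T = 0 := by
    rw [hT]; linear_combination (norm := noncomm_ring) a * x * m2 * x * a'
  -- the shears are in `H`
  have hk3' : ∃ l : k, l ≠ 0 ∧ l * l ≠ 1 := by
    by_contra hcon
    push Not at hcon
    have hcard : ∀ c : k, c = 0 ∨ c = 1 ∨ c = -1 := fun c => by
      rcases eq_or_ne c 0 with h | h
      · exact Or.inl h
      · exact Or.inr ((mul_self_eq_one_iff).1 (hcon c h))
    have hfin : Finite k := Finite.of_surjective (fun i : Fin 3 => if i = 0 then (0 : k) else if i = 1 then 1 else -1)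
      fun c => by
        rcases hcard c with h | h | h
        · exact ⟨0, by simp [h]⟩
        · exact ⟨1, by simp [h]⟩
        · exact ⟨2, by simp [h]⟩
    have h5 := five_le_card hk2 hk3
    have := Nat.card_le_card_of_surjective (fun i : Fin 3 => if i = 0 then (0 : k) else if i = 1 then 1 else -1)
      fun c => by
        rcases hcard c with h | h | h
        · exact ⟨0, by simp [h]⟩
        · exact ⟨1, by simp [h]⟩
        · exact ⟨2, by simp [h]⟩
    rw [Nat.card_fin] at this
    omega
  have hDT : ∀ l : k, l ≠ 0 → ∃ g ∈ H, ∃ g' ∈ H,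
      (g : End k M) = 1 + ((l - 1) • e + (l⁻¹ - 1) • f + (l - l⁻¹) • T) ∧
      (g' : End k M) = 1 + ((l - 1) • e + (l⁻¹ - 1) • f - (l - l⁻¹) • T) := by
    intro l hl
    obtain ⟨g, hg, hg'⟩ := torus_mem N haa hb'.1.1 (hA a (self_mem_amod ha)) hB hl
    obtain ⟨g2, hg2, hg2'⟩ := torus_mem N'' haa (by
      linear_combination (norm := noncomm_ring) -(1 - x) * a' * hxx * a' * (1 + x) + (1 - x) * m3 * (1 + x))
      (hA a (self_mem_amod ha)) hB'' hl
    refine ⟨g, hg, g2, hg2, ?_, ?_⟩
    · rw [hg', hab, hba]; simp only [sub_smul, smul_add, smul_sub, one_smul]; abel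
    · rw [hg2', hab'', hba'']; simp only [sub_smul, smul_add, smul_sub, one_smul]; abel
  obtain ⟨l, hl, hl2⟩ := hk3'
  obtain ⟨D, hD, D', hD', hDv, hDv'⟩ := hDT l hl
  -- `D'⁻¹ D = 1 + 2 κ T`
  obtain ⟨κ, hκ⟩ : ∃ κ, κ = 1 - l⁻¹ * l⁻¹ := ⟨_, rfl⟩
  have hκ0 : κ ≠ 0 := by
    rw [hκ, sub_ne_zero]
    intro h
    refine hl2 ?_
    have h2 := congrArg (fun c => c * (l * l)) h
    simp only [one_mul, show l⁻¹ * l⁻¹ * (l * l) = 1 by field_simp] at h2
    exact h2
  have hS : ∀ r : k, ∃ g ∈ H, (g : End k M) = 1 + r • T := by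
    let S : AddSubgroup k :=
      { carrier := {r | ∃ g ∈ H, (g : End k M) = 1 + r • T}
        zero_mem' := ⟨1, H.one_mem, by simp⟩
        add_mem' := fun {p q} ⟨g, hg, hg'⟩ ⟨g2, hg2, hg2'⟩ => ⟨g * g2, H.mul_mem hg hg2, by
          simp only [Units.val_mul, hg', hg2', mul_add, add_mul, one_mul, mul_one, smul_mul_assoc, mul_smul_comm, r9,
            smul_zero, add_zero, add_smul]
          abel⟩
        neg_mem' := fun {p} ⟨g, hg, hg'⟩ => ⟨g⁻¹, H.inv_mem hg, by
          rw [inv_val_of_val (smul_mul_smul_zero r9 p p) hg', neg_smul, sub_eq_add_neg]⟩ }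
    have hsq : ∀ m : k, ∀ r ∈ S, m * m * r ∈ S := by
      intro m r hr
      rcases eq_or_ne m 0 with rfl | hm
      · rw [zero_mul, zero_mul]; exact S.zero_mem
      obtain ⟨g, hg, hg'⟩ := hr
      obtain ⟨u, hu, -, -, huv, -⟩ := hDT m hm
      refine ⟨u * g * u⁻¹, H.mul_mem (H.mul_mem hu hg) (H.inv_mem hu), ?_⟩
      have h2 : (u : End k M) * T = ((m * m) • T) * (u : End k M) := by
        simp only [huv, mul_add, add_mul, one_mul, mul_one, smul_mul_assoc, mul_smul_comm, r5, r6, r7, r8, r9,
          smul_zero, add_zero, zero_add, smul_smul, ← add_smul]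
        match_scalars <;> field_simp <;> ring
      rw [Units.val_mul, Units.val_mul, hg', mul_add, add_mul, mul_one, Units.mul_inv, mul_smul_comm, h2,
        smul_mul_assoc, mul_assoc, Units.mul_inv, mul_one, smul_smul, mul_comm r]
    have h2κ : 2 * κ ∈ S := by
      refine ⟨D'⁻¹ * D, H.mul_mem (H.inv_mem hD') hD, ?_⟩
      have h2 : (D : End k M) = (D' : End k M) * (1 + (2 * κ) • T) := by
        simp only [hDv, hDv', mul_add, add_mul, sub_mul, mul_sub, mul_one, one_mul, smul_mul_assoc, mul_smul_comm, r5,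
          r7, r8, r9, smul_zero, smul_smul, add_zero, sub_zero]
        rw [hκ]
        match_scalars <;> field_simp <;> ring
      rw [Units.val_mul, h2, ← mul_assoc, Units.inv_mul, one_mul]
    intro r
    have h4 : ((r / (2 * κ) + 1) / 2) * ((r / (2 * κ) + 1) / 2) * (2 * κ) -
        ((r / (2 * κ) - 1) / 2) * ((r / (2 * κ) - 1) / 2) * (2 * κ) = r := by
      have : (2 : k) * κ ≠ 0 := mul_ne_zero hk hκ0
      field_simp
      ring
    rw [← h4]
    exact S.sub_mem (hsq _ _ h2κ) (hsq _ _ h2κ)
  -- the diagonal element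
  obtain ⟨D0, hD0, hD0v⟩ : ∃ g ∈ H, (g : End k M) = 1 + ((l - 1) • e + (l⁻¹ - 1) • f) := by
    obtain ⟨g, hg, hg'⟩ := hS (-κ)
    refine ⟨D * g, H.mul_mem hD hg, ?_⟩
    simp only [Units.val_mul, hDv, hg', mul_add, add_mul, mul_one, one_mul, smul_mul_assoc, mul_smul_comm, r5,
      r8, r9, smul_zero, smul_smul, add_zero]
    rw [hκ]
    match_scalars <;> field_simp <;> ring
  obtain ⟨X, hX⟩ : ∃ X, X = f * x := ⟨_, rfl⟩
  have q1 : x * e = X := by
    rw [hX, he, hf]
    linear_combination (norm := noncomm_ring) x * (hT'.trans hT) * x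
  have q2 : e * x = 0 := by rw [he, neg_mul, mul_assoc _ x x, hxx, mul_zero, neg_zero]
  have q3 : x * f = 0 := by
    rw [hf, mul_neg]
    simp only [← mul_assoc, hxx, zero_mul, neg_zero]
  have q4 : f * X = X := by rw [hX, ← mul_assoc, r2]
  have q5 : X * x = 0 := by rw [hX, mul_assoc, hxx, mul_zero]
  have q6 : x * X = 0 := by rw [hX, ← mul_assoc, q3, zero_mul]
  have q7 : X * X = 0 := by
    calc X * X = X * (f * x) := by rw [← hX]
      _ = f * (x * f) * x := by rw [hX]; simp only [mul_assoc]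
      _ = 0 := by rw [q3, mul_zero, zero_mul]
  have q8 : X * e = X := by
    calc X * e = f * (x * e) := by rw [hX, mul_assoc]
      _ = X := by rw [q1, q4]
  have q9 : X * f = 0 := by rw [hX, mul_assoc, q3, mul_zero]
  have q10 : e * X = 0 := by rw [hX, ← mul_assoc, r3, zero_mul]
  obtain ⟨μ, hμ⟩ : ∃ μ, μ = l⁻¹ * l⁻¹ - 1 := ⟨_, rfl⟩
  have hμ0 : μ ≠ 0 := by rw [hμ, ← neg_ne_zero, neg_sub, ← hκ]; exact hκ0
  have hDG : ∀ r : k, ∃ g ∈ H, (g : End k M) = 1 + r • X := by
    intro r
    obtain ⟨U, hU, hUv⟩ := hx.2 (r / μ)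
    refine ⟨D0 * (U * D0⁻¹ * U⁻¹), H.mul_mem hD0 (hnorm _ U hUv _ (H.inv_mem hD0)), ?_⟩
    have hd : (D0 : End k M) * (x * ((D0⁻¹ : LinearMap.GeneralLinearGroup k M) : End k M)) = x + μ • X := by
      have h2 : (D0 : End k M) * x = (x + μ • X) * (D0 : End k M) := by
        simp only [hD0v, mul_add, add_mul, mul_one, one_mul, smul_mul_assoc, mul_smul_comm, q1, q2, q3, ← hX, q8,
          q9, smul_zero, smul_smul, add_zero, zero_add]
        rw [hμ]
        match_scalars <;> field_simp <;> ring
      rw [← mul_assoc, h2, mul_assoc, Units.mul_inv, mul_one]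
    simp only [Units.val_mul, hUv, inv_val_of_val (smul_mul_smul_zero hxx _ _) hUv, mul_add, add_mul, mul_one, one_mul,
      mul_assoc, mul_smul_comm, smul_mul_assoc]
    have e2 : ∀ z, (D0 : End k M) * (x * (((D0⁻¹ : LinearMap.GeneralLinearGroup k M) : End k M) * z)) =
        (x + μ • X) * z := fun z => by rw [← hd]; simp only [mul_assoc]
    rw [← mul_assoc (D0 : End k M) ((D0⁻¹ : LinearMap.GeneralLinearGroup k M) : End k M), Units.mul_inv, one_mul, e2]
    simp only [add_mul, mul_sub, mul_one, mul_smul_comm, smul_mul_assoc, hxx, q5, smul_zero, sub_zero, smul_add,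
      smul_smul, div_mul_cancel₀ r hμ0]
    try abel_nf
    try simp only [smul_add, smul_smul, div_mul_cancel₀ r hμ0]
    try abel
  refine ⟨X, ⟨q7, fun r => ?_⟩, ?_, q5, q6, ?_, ?_, ?_, hDG⟩
  · obtain ⟨g, hg, hg'⟩ := hDG r
    exact ⟨g, hHG hg, hg'⟩
  · intro h0
    refine hax ?_
    have haf := f_right a (self_mem_amod ha)
    calc a * x * a * x * a = a * x * (a * (f * x)) * a := by rw [← mul_assoc a f, haf]; simp only [mul_assoc]
      _ = 0 := by rw [← hX, h0, mul_zero, mul_zero, zero_mul]
  · have e0 : x - X = (1 - f) * x := by rw [sub_mul, one_mul, hX]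
    rw [e0, ← finrank_range_mul_add (1 - f) x]
    refine Nat.lt_add_of_pos_right (Nat.pos_of_ne_zero fun h0 => ?_)
    rw [Submodule.finrank_eq_zero] at h0
    refine hax ?_
    have hX0 : X = 0 := LinearMap.ext fun m => by
      have h1 : X m ∈ LinearMap.range x ⊓ LinearMap.ker (1 - f) :=
        ⟨⟨e m, LinearMap.congr_fun q1 m⟩, by
          rw [SetLike.mem_coe, LinearMap.mem_ker, ← Module.End.mul_apply, sub_mul, one_mul, q4, sub_self]; rfl⟩
      rwa [h0, Submodule.mem_bot] at h1
    have haf := f_right a (self_mem_amod ha)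
    calc a * x * a * x * a = a * x * (a * (f * x)) * a := by rw [← mul_assoc a f, haf]; simp only [mul_assoc]
      _ = 0 := by rw [← hX, hX0, mul_zero, mul_zero, zero_mul]
  · rw [mul_sub, hX, ← mul_assoc, f_right a (self_mem_amod ha), sub_self]
  · rw [sub_mul, ← q1, mul_assoc, e_left a (self_mem_amod ha), sub_self]

end Cfsg.Agent.Quad
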