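import Cfsg.Agent.Lib.Quad.GenBasic

/-!
Over an infinite field `gam k C` is all of `SL₂` (generic Euclidean algorithm).
-/

set_option autoImplicit false

namespace Cfsg.Agent.Quad

open Matrix Polynomial

section Alg

variable {R : Type*} [CommRing R]

/-- The first half step. -/
noncomputable def redA (m : ℕ) (p : R[X] × R[X]) : R[X] :=
  Polynomial.C (p.2.coeff (m + 1)) * p.1 - Polynomial.C (p.1.coeff (m + 1)) * p.2

/-- One scaled step of the Euclidean algorithm. -/
noncomputable def redStep (m : ℕ) (p : R[X] × R[X]) : R[X] × R[X] :=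
  (Polynomial.C ((redA m p).coeff m) * redA m p,
    Polynomial.C ((redA m p).coeff m * p.2.coeff (m + 1)) * p.2 -
      Polynomial.C (p.2.coeff (m + 1) * p.2.coeff (m + 1)) * (Polynomial.X * redA m p))

/-- The product of the pivots. -/
noncomputable def pivots : ℕ → R[X] × R[X] → R
  | 0, p => p.1.coeff 0
  | m + 1, p => p.2.coeff (m + 1) * (redA m p).coeff m * pivots m (redStep m p)

theorem redA_map {S : Type*} [CommRing S] (f : R →+* S) (m : ℕ) (p : R[X] × R[X]) :
    redA m (p.1.map f, p.2.map f) = (redA m p).map f := by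
  simp [redA, Polynomial.coeff_map]

theorem pivots_map {S : Type*} [CommRing S] (f : R →+* S) (m : ℕ) :
    ∀ p : R[X] × R[X], pivots m (p.1.map f, p.2.map f) = f (pivots m p) := by
  induction m with
  | zero => intro p; simp [pivots, Polynomial.coeff_map]
  | succ m ih =>
    intro p
    have h2 : redStep m (p.1.map f, p.2.map f) = ((redStep m p).1.map f, (redStep m p).2.map f) := by
      simp [redStep, redA_map, Polynomial.coeff_map]
    simp only [pivots, redA_map, Polynomial.coeff_map, h2, ih, map_mul]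

/-- All coefficients above `m` vanish. -/
def Below (m : ℕ) (f : R[X]) : Prop := ∀ i, m < i → f.coeff i = 0

theorem Below.redA {m : ℕ} {p : R[X] × R[X]} (h1 : Below (m + 1) p.1) (h2 : Below (m + 1) p.2) :
    Below m (redA m p) := by
  intro i hi
  simp only [Quad.redA, coeff_sub, coeff_C_mul]
  rcases Nat.lt_or_eq_of_le (Nat.succ_le_of_lt hi) with h | h
  · rw [h1 i h, h2 i h]; ring
  · subst h; ring

theorem Below.step {m : ℕ} {p : R[X] × R[X]} (h1 : Below (m + 1) p.1) (h2 : Below (m + 1) p.2) :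
    Below m (redStep m p).1 ∧ Below m (redStep m p).2 := by
  have hA := Below.redA h1 h2
  refine ⟨fun i hi => by simp [redStep, hA i hi], fun i hi => ?_⟩
  obtain ⟨j, rfl⟩ : ∃ j, i = j + 1 := ⟨i - 1, by omega⟩
  simp only [redStep, coeff_sub, coeff_C_mul, coeff_X_mul]
  rcases Nat.lt_or_eq_of_le (Nat.le_of_lt_succ hi) with h | h
  · rw [h2 (j + 1) (by omega), hA j h]; ring
  · subst h; ring

theorem redStep_zero {m : ℕ} {p : R[X] × R[X]} (h0 : p.2.coeff 0 = 0) :
    (redStep m p).2.coeff 0 = 0 ∧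
      (redStep m p).1.coeff 0 = (redA m p).coeff m * p.2.coeff (m + 1) * p.1.coeff 0 := by
  refine ⟨?_, ?_⟩
  · simp [redStep, coeff_sub, h0]
  · simp [redStep, redA, coeff_sub, h0]; ring

/-- The generic word. -/
noncomputable def wit : ℕ → R[X] × R[X]
  | 0 => (1, 0)
  | m + 1 => ((wit m).1 + ((wit m).2 + Polynomial.X * (wit m).1), (wit m).2 + Polynomial.X * (wit m).1)

theorem wit_spec (m : ℕ) : Below m (wit (R := R) m).1 ∧ Below m (wit (R := R) m).2 ∧
    (wit (R := R) m).1.coeff m = 1 ∧ (wit (R := R) m).1.coeff 0 = 1 ∧ (wit (R := R) m).2.coeff 0 = 0 := by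
  induction m with
  | zero => exact ⟨fun i hi => by simp [wit, coeff_one]; omega, fun i _ => by simp [wit], by simp [wit], by simp [wit], by simp [wit]⟩
  | succ m ih =>
    obtain ⟨ha, hc, hm, h1, h0⟩ := ih
    refine ⟨fun i hi => ?_, fun i hi => ?_, ?_, ?_, ?_⟩
    · obtain ⟨j, rfl⟩ : ∃ j, i = j + 1 := ⟨i - 1, by omega⟩
      simp [wit, ha (j + 1) (by omega), hc (j + 1) (by omega), ha j (by omega)]
    · obtain ⟨j, rfl⟩ : ∃ j, i = j + 1 := ⟨i - 1, by omega⟩
      simp [wit, hc (j + 1) (by omega), ha j (by omega)]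
    · simp [wit, ha (m + 1) (by omega), hc (m + 1) (by omega), hm]
    · simp [wit, h1, h0]
    · simp [wit, h0]

theorem pivots_wit [IsDomain R] (m : ℕ) : ∀ {l : R}, l ≠ 0 →
    pivots m (Polynomial.C l * (wit m).1, Polynomial.C l * (wit m).2) ≠ 0 := by
  induction m with
  | zero => intro l hl; simpa [pivots, wit] using hl
  | succ m ih =>
    intro l hl
    obtain ⟨ha, hc, hm, -, -⟩ := wit_spec (R := R) m
    set p : R[X] × R[X] := (Polynomial.C l * (wit (m + 1)).1, Polynomial.C l * (wit (m + 1)).2) with hp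
    have e1 : p.1.coeff (m + 1) = l := by simp [hp, wit, ha (m + 1) (by omega), hc (m + 1) (by omega), hm]
    have e2 : p.2.coeff (m + 1) = l := by simp [hp, wit, hc (m + 1) (by omega), hm]
    have e3 : redA m p = Polynomial.C (l * l) * (wit m).1 := by
      rw [redA, e1, e2, hp]; simp only [wit, map_mul]; ring
    have e4 : (redA m p).coeff m = l * l := by rw [e3, coeff_C_mul, hm, mul_one]
    have e5 : redStep m p = (Polynomial.C (l * l * (l * l)) * (wit m).1, Polynomial.C (l * l * (l * l)) * (wit m).2) := by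
      rw [redStep, e4, e2, e3, hp]; simp only [wit, map_mul, Prod.mk.injEq]; constructor <;> ring
    rw [pivots, e2, e4, e5]
    exact mul_ne_zero (mul_ne_zero hl (mul_ne_zero hl hl))
      (ih (mul_ne_zero (mul_ne_zero hl hl) (mul_ne_zero hl hl)))

end Alg

variable {k K : Type*} [Field k] [Field K] [Algebra k K]

theorem reach_of_pivots (C : K) (m : ℕ) : ∀ p : k[X] × k[X], Below m p.1 → Below m p.2 → p.2.coeff 0 = 0 →
    pivots m p ≠ 0 → ∃ g ∈ gam k C, aeval C p.1 = algebraMap k K (p.1.coeff 0) * g.1 0 0 ∧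
      aeval C p.2 = algebraMap k K (p.1.coeff 0) * g.1 1 0 := by
  induction m with
  | zero =>
    intro p h1 h2 h0 _
    refine ⟨1, one_mem _, ?_, ?_⟩
    · have e : p.1 = Polynomial.C (p.1.coeff 0) := Polynomial.ext fun i => by
        rcases i with _ | i
        · simp
        · simp [h1 (i + 1) (by omega)]
      conv_lhs => rw [e]
      simp
    · have e : p.2 = 0 := Polynomial.ext fun i => by
        rcases i with _ | i
        · simp [h0]
        · simp [h2 (i + 1) (by omega)]
      simp [e]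
  | succ m ih =>
    intro p h1 h2 h0 hp
    simp only [pivots, mul_ne_zero_iff] at hp
    obtain ⟨⟨hc, he⟩, hrest⟩ := hp
    obtain ⟨z0, z1⟩ := redStep_zero (m := m) h0
    obtain ⟨b1, b2⟩ := Below.step h1 h2
    obtain ⟨g, hg, q1, q2⟩ := ih _ b1 b2 z0 hrest
    set e := (redA m p).coeff m with hedef
    set cm := p.2.coeff (m + 1) with hcm
    set am := p.1.coeff (m + 1) with ham
    refine ⟨uG (algebraMap k K (am / cm)) * (lG (algebraMap k K (cm * cm / e) * C) * g),
      mul_mem (uG_mem_gam k C _) (mul_mem (lG_mem_gam k C _) hg), ?_⟩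
    rw [z1] at q1 q2
    have hc' : algebraMap k K cm ≠ 0 := (_root_.map_ne_zero _).2 hc
    have he' : algebraMap k K e ≠ 0 := (_root_.map_ne_zero _).2 he
    simp only [redStep, ← hedef, ← hcm, map_mul, map_sub, aeval_C, aeval_X] at q1 q2
    have hR : aeval C (redA m p) = algebraMap k K cm * aeval C p.1 - algebraMap k K am * aeval C p.2 := by
      simp [redA, hcm, ham]
    rw [hR] at q1 q2
    set A := aeval C p.1
    set B := aeval C p.2
    simp only [sl_mul_apply, uG_00, uG_01, uG_10, uG_11, lG_00, lG_01, lG_10, lG_11, one_mul, zero_mul,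
      zero_add, add_zero, map_div₀, map_mul]
    set c' := algebraMap k K cm
    set a' := algebraMap k K am
    set e' := algebraMap k K e
    set a0 := algebraMap k K (p.1.coeff 0)
    have hB : B = a0 * (c' * c' / e' * C * g.1 0 0 + g.1 1 0) := by
      field_simp
      refine mul_left_cancel₀ (mul_ne_zero he' hc') ?_
      linear_combination e' * q2 + c' * c' * C * q1
    refine ⟨?_, hB⟩
    have h3 : c' * A - a' * B = c' * (a0 * g.1 0 0) := mul_left_cancel₀ he' (by linear_combination q1)
    refine mul_left_cancel₀ hc' ?_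
    rw [show c' * A = c' * (a0 * g.1 0 0) + a' * B by linear_combination h3, hB]
    field_simp

/-- Over an infinite field the group is everything. -/
theorem gam_eq_top_of_infinite [Infinite k] (hk2 : (2 : k) ≠ 0) {C : K} (hC : C ≠ 0)
    (halg : IsIntegral k C) (hgen : Algebra.adjoin k {C} = ⊤) : gam k C = ⊤ := by
  refine gam_eq_top hC (Submodule.eq_top_iff'.2 fun x => ?_)
  have h2 : (2 : K) ≠ 0 := by rw [← map_ofNat (algebraMap k K) 2]; simpa using hk2
  set n := (minpoly k C).natDegree with hn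
  have hlift : ∀ v : K, ∃ q : k[X], Below n q ∧ q.coeff 0 = 0 ∧ aeval C q = v := by
    intro v
    obtain ⟨q, hq⟩ : ∃ q : k[X], aeval C q = v / C := by
      have hmem : v / C ∈ Algebra.adjoin k {C} := hgen ▸ Algebra.mem_top
      rw [Algebra.adjoin_singleton_eq_range_aeval] at hmem
      exact hmem
    refine ⟨Polynomial.X * (q %ₘ minpoly k C), fun i hi => ?_, by simp, ?_⟩
    · obtain ⟨j, rfl⟩ : ∃ j, i = j + 1 := ⟨i - 1, by omega⟩
      rw [coeff_X_mul]
      refine coeff_eq_zero_of_natDegree_lt ?_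
      have := natDegree_modByMonic_lt q (minpoly.monic halg) (minpoly.ne_one k C)
      omega
    · rw [map_mul, aeval_X, Polynomial.modByMonic_eq_sub_mul_div q (minpoly k C), map_sub, map_mul, minpoly.aeval,
        zero_mul, sub_zero, hq]
      field_simp
  obtain ⟨wa, wc, -, w1, w0⟩ := wit_spec (R := k) n
  have key : ∀ t : K, t ≠ 0 → t ^ 2 ∈ upperParam k C := by
    intro t ht
    set A0 := aeval C (wit (R := k) n).1
    set C0 := aeval C (wit (R := k) n).2
    have hpair : ∀ u v : K, ∃ p : k[X] × k[X], Below n p.1 ∧ Below n p.2 ∧ p.2.coeff 0 = 0 ∧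
        p.1.coeff 0 = 1 ∧ aeval C p.1 = u ∧ aeval C p.2 = v := by
      intro u v
      obtain ⟨q, hq1, hq0, hq⟩ := hlift (u - 1)
      obtain ⟨r, hr1, hr0, hr⟩ := hlift v
      exact ⟨(1 + q, r), fun i hi => by simp [hq1 i hi, coeff_one]; omega, hr1, hr0, by simp [hq0],
        by simp [hq], hr⟩
    obtain ⟨P1, a1, b1, c1, d1, e1, f1⟩ := hpair (A0 / t) (C0 / t)
    obtain ⟨Q0, a2, b2, c2, d2, e2, f2⟩ := hpair (t * A0) (t * C0)
    set P0 : k[X] × k[X] := wit n
    let mk : k[X] × k[X] → k[X] × k[X] → k[X][X] × k[X][X] := fun p q =>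
      (Polynomial.C (1 - Polynomial.X) * p.1.map Polynomial.C + Polynomial.C Polynomial.X * q.1.map Polynomial.C,
       Polynomial.C (1 - Polynomial.X) * p.2.map Polynomial.C + Polynomial.C Polynomial.X * q.2.map Polynomial.C)
    have hev : ∀ (s : k) (p q : k[X] × k[X]),
        ((mk p q).1.map (evalRingHom s), (mk p q).2.map (evalRingHom s)) =
          (Polynomial.C (1 - s) * p.1 + Polynomial.C s * q.1, Polynomial.C (1 - s) * p.2 + Polynomial.C s * q.2) := by
      intro s p q
      simp [mk, Polynomial.map_map, show (evalRingHom s).comp Polynomial.C = RingHom.id k from RingHom.ext fun a => by simp]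
    set F := pivots n (mk P0 P1)
    set F' := pivots n (mk Q0 P0)
    have hF : F.eval 0 ≠ 0 := by
      have := pivots_map (evalRingHom (0 : k)) n (mk P0 P1)
      rw [hev] at this
      have h := pivots_wit (R := k) n one_ne_zero
      simp at this h
      rwa [← this]
    have hF' : F'.eval 1 ≠ 0 := by
      have := pivots_map (evalRingHom (1 : k)) n (mk Q0 P0)
      rw [hev] at this
      have h := pivots_wit (R := k) n one_ne_zero
      simp at this h
      rwa [← this]
    obtain ⟨s, hs⟩ : ∃ s, (F * F').eval s ≠ 0 := by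
      by_contra hcon
      push Not at hcon
      have h0 : F * F' = 0 := Polynomial.funext fun s => by rw [hcon s, eval_zero]
      rcases mul_eq_zero.1 h0 with h | h
      · rw [h, eval_zero] at hF; exact hF rfl
      · rw [h, eval_zero] at hF'; exact hF' rfl
    rw [eval_mul, mul_ne_zero_iff] at hs
    have hreach : ∀ p q : k[X] × k[X], Below n p.1 → Below n p.2 → p.2.coeff 0 = 0 → p.1.coeff 0 = 1 →
        Below n q.1 → Below n q.2 → q.2.coeff 0 = 0 → q.1.coeff 0 = 1 → (pivots n (mk p q)).eval s ≠ 0 →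
        ∃ g ∈ gam k C, g.1 0 0 = (1 - algebraMap k K s) * aeval C p.1 + algebraMap k K s * aeval C q.1 ∧
          g.1 1 0 = (1 - algebraMap k K s) * aeval C p.2 + algebraMap k K s * aeval C q.2 := by
      intro p q x1 x2 x3 x4 y1 y2 y3 y4 hne
      have := pivots_map (evalRingHom s) n (mk p q)
      rw [hev, coe_evalRingHom] at this
      obtain ⟨g, hg, r1, r2⟩ := reach_of_pivots C n
        (Polynomial.C (1 - s) * p.1 + Polynomial.C s * q.1, Polynomial.C (1 - s) * p.2 + Polynomial.C s * q.2)
        (fun i hi => by simp [sub_mul, x1 i hi, y1 i hi]) (fun i hi => by simp [sub_mul, x2 i hi, y2 i hi])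
        (by simp [x3, y3]) (by rw [this]; exact hne)
      refine ⟨g, hg, ?_, ?_⟩
      · simp [x4, y4] at r1; linear_combination -r1
      · simp [x4, y4] at r2; linear_combination -r2
    obtain ⟨g, hg, g0, g1⟩ := hreach P0 P1 wa wc w0 w1 a1 b1 c1 d1 hs.1
    obtain ⟨g', hg', g0', g1'⟩ := hreach Q0 P0 a2 b2 c2 d2 wa wc w0 w1 hs.2
    have k0 : g'.1 0 0 = t * g.1 0 0 := by
      rw [g0', g0, e1, e2]; field_simp; ring
    have k1 : g'.1 1 0 = t * g.1 1 0 := by
      rw [g1', g1, f1, f2]; field_simp; ring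
    have hd := det_eq g
    have hi00 : (g⁻¹).1 0 0 = g.1 1 1 ∧ (g⁻¹).1 0 1 = -g.1 0 1 ∧ (g⁻¹).1 1 0 = -g.1 1 0 ∧ (g⁻¹).1 1 1 = g.1 0 0 := by
      rw [Matrix.SpecialLinearGroup.coe_inv, Matrix.adjugate_fin_two]
      simp
    have hc : (g⁻¹ * g').1 1 0 = 0 := by
      rw [sl_mul_apply, hi00.2.2.1, hi00.2.2.2, k0, k1]; ring
    have ha : (g⁻¹ * g').1 0 0 = t := by
      rw [sl_mul_apply, hi00.1, hi00.2.1, k0, k1]; linear_combination t * hd
    have := sq_mul_mem_upperParam (mul_mem (inv_mem hg) hg') hc (one_mem_upperParam C)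
    rwa [ha, mul_one] at this
  have key' : ∀ t : K, t ^ 2 ∈ upperParam k C := fun t => by
    rcases eq_or_ne t 0 with rfl | ht
    · simp
    · exact key t ht
  have h4 : (4 : k)⁻¹ • ((x + 1) ^ 2 - (x - 1) ^ 2) = x := by
    have h4' : (4 : K) ≠ 0 := by
      have := mul_ne_zero h2 h2; norm_num at this; exact this
    rw [Algebra.smul_def, map_inv₀, map_ofNat]
    field_simp; ring
  rw [← h4]
  exact Submodule.smul_mem _ _ (sub_mem (key' _) (key' _))

end Cfsg.Agent.Quad
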