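import Cfsg.Agent.Lib.Quad.GenFin
import Cfsg.Agent.Lib.Quad.GenInf

/-!
Dickson's generation theorem over an arbitrary field.
-/

set_option autoImplicit false

namespace Cfsg.Agent.Quad

variable {k K : Type*} [Field k] [Field K] [Algebra k K]

theorem five_le_card [Finite k] (hk2 : ringChar k ≠ 2) (hk3 : Nat.card k ≠ 3) : 5 ≤ Nat.card k := by
  have h1 : 1 < Nat.card k := Finite.one_lt_card
  have h2 : (2 : k) ≠ 0 := Ring.two_ne_zero hk2
  have : Fintype k := Fintype.ofFinite k
  have h0 : ((Nat.card k : ℕ) : k) = 0 := by rw [Nat.card_eq_fintype_card, Nat.cast_card_eq_zero]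
  by_contra hc
  have : Nat.card k = 2 ∨ Nat.card k = 4 := by omega
  rcases this with h | h <;> rw [h] at h0
  · exact h2 (by exact_mod_cast h0)
  · refine mul_ne_zero h2 h2 ?_
    norm_num at h0 ⊢
    exact h0

/-- Dickson: `⟨u(k), l(kC)⟩ = SL₂(k(C))`. -/
theorem gam_top (hk2 : ringChar k ≠ 2) (hk3 : Nat.card k ≠ 3) {C : K} (hC : C ≠ 0)
    (halg : IsIntegral k C) (hgen : Algebra.adjoin k {C} = ⊤) : gam k C = ⊤ := by
  rcases finite_or_infinite k with hfin | hinf
  · have : Module.Finite k K := ⟨by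
      rw [← Algebra.top_toSubmodule, ← hgen]
      exact halg.fg_adjoin_singleton⟩
    have : Finite K := Module.finite_of_finite k
    exact gam_eq_top_of_finite (Ring.two_ne_zero hk2) (five_le_card hk2 hk3) hC hgen
  · exact gam_eq_top_of_infinite (Ring.two_ne_zero hk2) hC halg hgen

end Cfsg.Agent.Quad
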