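import Mathlib

/-!
The group generated by `[[1, s], [0, 1]]` and `[[1, 0], [s C, 1]]`, `s ∈ k`, inside `SL₂`.
-/

set_option autoImplicit false

namespace Cfsg.Agent.Quad

open Matrix

section Ring

variable {R : Type*} [CommRing R]

/-- Upper unitriangular element. -/
def uG (t : R) : Matrix.SpecialLinearGroup (Fin 2) R := ⟨!![1, t; 0, 1], by simp [Matrix.det_fin_two_of]⟩

/-- Lower unitriangular element. -/
def lG (t : R) : Matrix.SpecialLinearGroup (Fin 2) R := ⟨!![1, 0; t, 1], by simp [Matrix.det_fin_two_of]⟩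

@[simp] theorem uG_val (t : R) :
    ((uG t : Matrix.SpecialLinearGroup (Fin 2) R) : Matrix (Fin 2) (Fin 2) R) = !![1, t; 0, 1] := rfl

@[simp] theorem lG_val (t : R) :
    ((lG t : Matrix.SpecialLinearGroup (Fin 2) R) : Matrix (Fin 2) (Fin 2) R) = !![1, 0; t, 1] := rfl

theorem sl_ext {g h : Matrix.SpecialLinearGroup (Fin 2) R} (h00 : g.1 0 0 = h.1 0 0) (h01 : g.1 0 1 = h.1 0 1)
    (h10 : g.1 1 0 = h.1 1 0) (h11 : g.1 1 1 = h.1 1 1) : g = h :=
  Subtype.ext (Matrix.ext fun i j => by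
    match i, j with
    | 0, 0 => exact h00
    | 0, 1 => exact h01
    | 1, 0 => exact h10
    | 1, 1 => exact h11)

theorem sl_mul_apply (g h : Matrix.SpecialLinearGroup (Fin 2) R) (i j : Fin 2) :
    (g * h).1 i j = g.1 i 0 * h.1 0 j + g.1 i 1 * h.1 1 j :=
  (Matrix.mul_apply).trans (Fin.sum_univ_two _)

@[simp] theorem uG_00 (t : R) : (uG t).1 0 0 = 1 := rfl
@[simp] theorem uG_01 (t : R) : (uG t).1 0 1 = t := rfl
@[simp] theorem uG_10 (t : R) : (uG t).1 1 0 = 0 := rfl
@[simp] theorem uG_11 (t : R) : (uG t).1 1 1 = 1 := rfl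
@[simp] theorem lG_00 (t : R) : (lG t).1 0 0 = 1 := rfl
@[simp] theorem lG_01 (t : R) : (lG t).1 0 1 = 0 := rfl
@[simp] theorem lG_10 (t : R) : (lG t).1 1 0 = t := rfl
@[simp] theorem lG_11 (t : R) : (lG t).1 1 1 = 1 := rfl

/-- `diag(σ, 1) g diag(τ, 1)`. -/
def scaleFun {σ τ : R} (h : σ * τ = 1) (g : Matrix.SpecialLinearGroup (Fin 2) R) :
    Matrix.SpecialLinearGroup (Fin 2) R :=
  ⟨!![g.1 0 0, σ * g.1 0 1; τ * g.1 1 0, g.1 1 1], by
    rw [Matrix.det_fin_two_of]
    have hd : g.1.det = 1 := g.2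
    rw [Matrix.det_fin_two] at hd
    linear_combination hd - g.1 0 1 * g.1 1 0 * h⟩

@[simp] theorem scaleFun_00 {σ τ : R} (h : σ * τ = 1) (g : Matrix.SpecialLinearGroup (Fin 2) R) :
    (scaleFun h g).1 0 0 = g.1 0 0 := rfl
@[simp] theorem scaleFun_01 {σ τ : R} (h : σ * τ = 1) (g : Matrix.SpecialLinearGroup (Fin 2) R) :
    (scaleFun h g).1 0 1 = σ * g.1 0 1 := rfl
@[simp] theorem scaleFun_10 {σ τ : R} (h : σ * τ = 1) (g : Matrix.SpecialLinearGroup (Fin 2) R) :
    (scaleFun h g).1 1 0 = τ * g.1 1 0 := rfl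
@[simp] theorem scaleFun_11 {σ τ : R} (h : σ * τ = 1) (g : Matrix.SpecialLinearGroup (Fin 2) R) :
    (scaleFun h g).1 1 1 = g.1 1 1 := rfl

/-- Conjugation by `diag(σ, 1)`, where `τ` is inverse to `σ`. -/
def scaleHom {σ τ : R} (h : σ * τ = 1) :
    Matrix.SpecialLinearGroup (Fin 2) R →* Matrix.SpecialLinearGroup (Fin 2) R :=
  MonoidHom.mk' (scaleFun h) fun g g' => by
    refine sl_ext ?_ ?_ ?_ ?_ <;> simp only [sl_mul_apply, scaleFun_00, scaleFun_01, scaleFun_10, scaleFun_11]
    · linear_combination -(g.1 0 1 * g'.1 1 0) * h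
    · ring
    · ring
    · linear_combination -(g.1 1 0 * g'.1 0 1) * h

@[simp] theorem scaleHom_apply {σ τ : R} (h : σ * τ = 1) (g : Matrix.SpecialLinearGroup (Fin 2) R) :
    scaleHom h g = scaleFun h g := rfl

theorem uG_mul (s t : R) : uG s * uG t = uG (s + t) := by
  refine sl_ext ?_ ?_ ?_ ?_ <;> simp [sl_mul_apply, add_comm]

theorem lG_mul (s t : R) : lG s * lG t = lG (s + t) := by
  refine sl_ext ?_ ?_ ?_ ?_ <;> simp [sl_mul_apply, add_comm]

theorem uG_zero : uG (0 : R) = 1 := by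
  refine sl_ext ?_ ?_ ?_ ?_ <;> simp

theorem lG_zero : lG (0 : R) = 1 := by
  refine sl_ext ?_ ?_ ?_ ?_ <;> simp

theorem uG_inv (t : R) : (uG t)⁻¹ = uG (-t) :=
  inv_eq_of_mul_eq_one_right (by rw [uG_mul, add_neg_cancel, uG_zero])

theorem lG_inv (t : R) : (lG t)⁻¹ = lG (-t) :=
  inv_eq_of_mul_eq_one_right (by rw [lG_mul, add_neg_cancel, lG_zero])

theorem uG_inj {s t : R} (h : uG s = uG t) : s = t := by
  simpa using congrArg (fun g : Matrix.SpecialLinearGroup (Fin 2) R => (g : Matrix (Fin 2) (Fin 2) R) 0 1) h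

theorem map_uG {S : Type*} [CommRing S] (f : R →+* S) (t : R) :
    Matrix.SpecialLinearGroup.map f (uG t) = uG (f t) := by
  apply Subtype.ext
  ext i j
  fin_cases i <;> fin_cases j <;> simp

theorem map_lG {S : Type*} [CommRing S] (f : R →+* S) (t : R) :
    Matrix.SpecialLinearGroup.map f (lG t) = lG (f t) := by
  apply Subtype.ext
  ext i j
  fin_cases i <;> fin_cases j <;> simp

theorem det_eq (g : Matrix.SpecialLinearGroup (Fin 2) R) :
    (g : Matrix (Fin 2) (Fin 2) R) 0 0 * (g : Matrix (Fin 2) (Fin 2) R) 1 1 -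
      (g : Matrix (Fin 2) (Fin 2) R) 0 1 * (g : Matrix (Fin 2) (Fin 2) R) 1 0 = 1 := by
  rw [← Matrix.det_fin_two]
  exact g.2

/-- Conjugating the upper unitriangular group by an upper triangular element. -/
theorem conj_uG {g : Matrix.SpecialLinearGroup (Fin 2) R} (hc : (g : Matrix (Fin 2) (Fin 2) R) 1 0 = 0)
    (x : R) : g * uG x * g⁻¹ = uG ((g : Matrix (Fin 2) (Fin 2) R) 0 0 ^ 2 * x) := by
  have hdet := det_eq g
  rw [hc, mul_zero, sub_zero] at hdet
  rw [mul_inv_eq_iff_eq_mul]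
  refine sl_ext ?_ ?_ ?_ ?_ <;> simp [sl_mul_apply, hc]
  linear_combination (-((g : Matrix (Fin 2) (Fin 2) R) 0 0 * x)) * hdet

variable (k : Type*) [CommRing k] [Algebra k R]

/-- The group generated by the two one-parameter groups. -/
def gam (C : R) : Subgroup (Matrix.SpecialLinearGroup (Fin 2) R) :=
  Subgroup.closure (Set.range (fun c : k => uG (algebraMap k R c)) ∪
    Set.range (fun c : k => lG (algebraMap k R c * C)))

theorem uG_mem_gam (C : R) (c : k) : uG (algebraMap k R c) ∈ gam k C :=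
  Subgroup.subset_closure (Or.inl ⟨c, rfl⟩)

theorem lG_mem_gam (C : R) (c : k) : lG (algebraMap k R c * C) ∈ gam k C :=
  Subgroup.subset_closure (Or.inr ⟨c, rfl⟩)

theorem uG_one_mem (C : R) : uG (1 : R) ∈ gam k C := by simpa using uG_mem_gam k C 1

theorem lG_C_mem (C : R) : lG C ∈ gam k C := by simpa using lG_mem_gam k C 1

theorem map_gam {S : Type*} [CommRing S] [Algebra k S] (f : R →ₐ[k] S) (C : R) :
    (gam k C).map (Matrix.SpecialLinearGroup.map f.toRingHom) = gam k (f C) := by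
  rw [gam, gam, MonoidHom.map_closure, Set.image_union, ← Set.range_comp, ← Set.range_comp]
  simp only [Function.comp_def, map_uG, map_lG, AlgHom.toRingHom_eq_coe, RingHom.coe_coe, map_mul,
    AlgHom.commutes]

end Ring

section Field

variable {k : Type*} [Field k] {R : Type*} [CommRing R] [Algebra k R]

/-- `x` with `uG x` in the group form a `k`-space. -/
def upperParam (k : Type*) [Field k] {R : Type*} [CommRing R] [Algebra k R] (C : R) : Submodule k R where
  carrier := {x | uG x ∈ gam k C}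
  zero_mem' := by
    show uG (0 : R) ∈ gam k C
    rw [uG_zero]; exact one_mem _
  add_mem' := fun {x y} hx hy => by
    show uG (x + y) ∈ gam k C
    rw [← uG_mul]; exact mul_mem hx hy
  smul_mem' := fun s x hx => by
    show uG (s • x) ∈ gam k C
    rcases eq_or_ne s 0 with rfl | hs
    · rw [zero_smul, uG_zero]; exact one_mem _
    set σ := algebraMap k R s
    set τ := algebraMap k R s⁻¹
    have hστ : σ * τ = 1 := by rw [← map_mul, mul_inv_cancel₀ hs, map_one]
    -- conjugation by `diag(s, 1)`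
    let θ := scaleHom hστ
    have hθ : ∀ g ∈ gam k C, θ g ∈ gam k C := by
      intro g hg
      induction hg using Subgroup.closure_induction with
      | mem x hx =>
        rcases hx with ⟨c, rfl⟩ | ⟨c, rfl⟩
        · have e : θ (uG (algebraMap k R c)) = uG (algebraMap k R (s * c)) := by
            refine sl_ext ?_ ?_ ?_ ?_ <;> simp [θ, σ, map_mul]
          rw [e]; exact uG_mem_gam k C _
        · have e : θ (lG (algebraMap k R c * C)) = lG (algebraMap k R (s⁻¹ * c) * C) := by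
            refine sl_ext ?_ ?_ ?_ ?_ <;> simp [θ, τ, map_mul, mul_assoc]
          rw [e]; exact lG_mem_gam k C _
      | one => rw [map_one]; exact one_mem _
      | mul x y _ _ hx hy => rw [map_mul]; exact mul_mem hx hy
      | inv x _ hx => rw [map_inv]; exact inv_mem hx
    have e : θ (uG x) = uG (s • x) := by
      refine sl_ext ?_ ?_ ?_ ?_ <;> simp [θ, σ, Algebra.smul_def]
    rw [← e]
    exact hθ _ hx

theorem mem_upperParam {C x : R} : x ∈ upperParam k C ↔ uG x ∈ gam k C := Iff.rfl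

theorem one_mem_upperParam (C : R) : (1 : R) ∈ upperParam k C := uG_one_mem k C

/-- The upper parameters are invariant under the squared diagonal entries of the group. -/
theorem sq_mul_mem_upperParam {C x : R} {g : Matrix.SpecialLinearGroup (Fin 2) R} (hg : g ∈ gam k C)
    (hc : (g : Matrix (Fin 2) (Fin 2) R) 1 0 = 0) (hx : x ∈ upperParam k C) :
    (g : Matrix (Fin 2) (Fin 2) R) 0 0 ^ 2 * x ∈ upperParam k C := by
  rw [mem_upperParam, ← conj_uG hc]
  exact mul_mem (mul_mem hg hx) (inv_mem hg)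

variable {K : Type*} [Field K] [Algebra k K]

/-- With all upper parameters the group is everything. -/
theorem gam_eq_top {C : K} (hC : C ≠ 0) (h : upperParam k C = ⊤) : gam k C = ⊤ := by
  have hu : ∀ x : K, uG x ∈ gam k C := fun x => mem_upperParam.1 (h ▸ Submodule.mem_top)
  set w := uG (C⁻¹) * lG (-C) * uG (C⁻¹) with hw
  have hwm : w ∈ gam k C :=
    mul_mem (mul_mem (hu _) (by rw [← lG_inv]; exact inv_mem (lG_C_mem k C))) (hu _)
  have hl : ∀ y : K, lG y ∈ gam k C := by
    intro y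
    have e : lG y = w * uG (-(y / C ^ 2)) * w⁻¹ := by
      rw [eq_mul_inv_iff_mul_eq]
      refine sl_ext ?_ ?_ ?_ ?_ <;> simp [hw, sl_mul_apply] <;> field_simp <;> ring_nf <;> simp
    rw [e]
    exact mul_mem (mul_mem hwm (hu _)) (inv_mem hwm)
  refine top_le_iff.1 fun g _ => ?_
  have key : ∀ g : Matrix.SpecialLinearGroup (Fin 2) K, (g : Matrix (Fin 2) (Fin 2) K) 1 0 ≠ 0 →
      g ∈ gam k C := by
    intro g hc
    have hdet := det_eq g
    have e : g = uG (((g : Matrix (Fin 2) (Fin 2) K) 0 0 - 1) / (g : Matrix (Fin 2) (Fin 2) K) 1 0) *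
        lG ((g : Matrix (Fin 2) (Fin 2) K) 1 0) *
        uG (((g : Matrix (Fin 2) (Fin 2) K) 1 1 - 1) / (g : Matrix (Fin 2) (Fin 2) K) 1 0) := by
      refine sl_ext ?_ ?_ ?_ ?_ <;> simp [sl_mul_apply] <;> field_simp
      · ring
      · linear_combination -hdet
      · ring
    rw [e]
    exact mul_mem (mul_mem (hu _) (hl _)) (hu _)
  by_cases hc : (g : Matrix (Fin 2) (Fin 2) K) 1 0 = 0
  · have hdet := det_eq g
    rw [hc, mul_zero, sub_zero] at hdet
    have hd : (g : Matrix (Fin 2) (Fin 2) K) 1 1 ≠ 0 := fun e => by simp [e] at hdet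
    have h1 := key (g * lG 1) (by simp [sl_mul_apply, hc, hd])
    simpa using mul_mem h1 (inv_mem (hl 1))
  · exact key g hc

theorem ne_zero_of_upper {g : Matrix.SpecialLinearGroup (Fin 2) K}
    (hc : (g : Matrix (Fin 2) (Fin 2) K) 1 0 = 0) : (g : Matrix (Fin 2) (Fin 2) K) 0 0 ≠ 0 := fun e => by
  have := det_eq g
  simp [hc, e] at this

end Field

end Cfsg.Agent.Quad
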