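import Mathlib

/-!
The pole count for finite groups in which each non-identity element fixes one or two points, and
the arithmetic consequence used for recognising `SL₂`.
-/

set_option autoImplicit false

namespace Cfsg.Agent.Quad

open MulAction

/-- Pole counting: the stabiliser orders of such an action. -/
theorem pole_count {G S : Type*} [Group G] [Finite G] [MulAction G S] [Finite S] (x₀ : S) (m r n : ℕ)
    (hm : 3 ≤ m) (hr : Nat.card (stabilizer G x₀) = m * r) (hn : Nat.card (orbit G x₀) = n) (hn2 : 2 ≤ n)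
    (hfix : ∀ g : G, g ≠ 1 → Nat.card (fixedBy S g) = 1 ∨ Nat.card (fixedBy S g) = 2)
    (hone : ∀ g : G, g ≠ 1 → Nat.card (fixedBy S g) = 1 → ∃ x ∈ orbit G x₀, g • x = x)
    (hpole : ∀ x : S, stabilizer G x ≠ ⊥)
    (hcnt : Nat.card {g : G | g ∈ stabilizer G x₀ ∧ g ≠ 1 ∧ Nat.card (fixedBy S g) = 1} = m - 1) :
    ∃ d : ℕ, d * (n * (m - 2) + 2) = n * m * r := by
  classical
  have : Fintype G := Fintype.ofFinite G
  have : Fintype S := Fintype.ofFinite S
  set N := Nat.card G with hN
  have hnmr : n * (m * r) = N := by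
    rw [← hn, ← hr, hN, ← Nat.card_prod]
    exact Nat.card_congr (orbitProdStabilizerEquivGroup G x₀)
  -- the number of elements with a single fixed point
  set One := Finset.univ.filter fun g : G => g ≠ 1 ∧ Nat.card (fixedBy S g) = 1 with hOne
  set Ω := Finset.univ.filter fun x : S => x ∈ orbit G x₀ with hΩ
  have hΩc : Ω.card = n := by
    rw [← hn, Nat.card_eq_fintype_card, hΩ, ← Fintype.card_subtype]
  have huniq : ∀ g ∈ One, ∀ x y : S, g • x = x → g • y = y → x = y := by
    intro g hg x y hx hy
    have h1 := (Finset.mem_filter.1 hg).2.2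
    obtain ⟨hsub, -⟩ := Nat.card_eq_one_iff_unique.1 h1
    exact congrArg Subtype.val (Subsingleton.elim (⟨x, hx⟩ : fixedBy S g) ⟨y, hy⟩)
  have hcnt' : (One.filter fun g => g • x₀ = x₀).card = m - 1 := by
    rw [← hcnt, Nat.card_eq_fintype_card, ← Set.toFinset_card]
    congr 1
    ext g
    simp [hOne, mem_stabilizer_iff, and_comm, and_assoc, and_left_comm]
  have hOc : One.card = n * (m - 1) := by
    have e1 : One = Ω.biUnion fun x => One.filter fun g => g • x = x := by
      ext g
      simp only [Finset.mem_biUnion, Finset.mem_filter, hΩ, Finset.mem_univ, true_and]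
      exact ⟨fun hg => by
        obtain ⟨x, hx, hgx⟩ := hone g (Finset.mem_filter.1 hg).2.1 (Finset.mem_filter.1 hg).2.2
        exact ⟨x, hx, hg, hgx⟩, fun ⟨_, _, hg, _⟩ => hg⟩
    rw [e1, Finset.card_biUnion]
    · rw [Finset.sum_const_nat (m := m - 1), hΩc]
      intro x hx
      obtain ⟨h, hh⟩ := (Finset.mem_filter.1 hx).2
      have e : ∀ g : G, Nat.card (fixedBy S (h * g * h⁻¹)) = Nat.card (fixedBy S g) := fun g =>
        Nat.card_congr
          { toFun := fun y => ⟨h⁻¹ • y.1, by
              have := y.2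
              rw [mem_fixedBy, mul_smul, mul_smul] at this
              rw [mem_fixedBy, eq_inv_smul_iff]
              exact this⟩
            invFun := fun y => ⟨h • y.1, by
              have hy := y.2
              rw [mem_fixedBy] at hy
              rw [mem_fixedBy, mul_smul, mul_smul, inv_smul_smul, hy]⟩
            left_inv := fun y => by simp
            right_inv := fun y => by simp }
      have hh' : h • x₀ = x := hh
      rw [← hcnt']
      refine Finset.card_nbij' (fun g => h⁻¹ * g * h) (fun g => h * g * h⁻¹) ?_ ?_ ?_ ?_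
      · intro g hg
        simp only [Finset.coe_filter, Set.mem_ofPred_eq, hOne, Finset.mem_filter, Finset.mem_univ, true_and] at hg ⊢
        refine ⟨⟨fun e1 => hg.1.1 ?_, ?_⟩, ?_⟩
        · calc g = h * (h⁻¹ * g * h) * h⁻¹ := by group
            _ = 1 := by rw [e1, mul_one, mul_inv_cancel]
        · rw [← e, show h * (h⁻¹ * g * h) * h⁻¹ = g by group]
          exact hg.1.2
        · rw [mul_smul, mul_smul, hh', hg.2, inv_smul_eq_iff, hh']
      · intro g hg
        simp only [Finset.coe_filter, Set.mem_ofPred_eq, hOne, Finset.mem_filter, Finset.mem_univ, true_and] at hg ⊢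
        refine ⟨⟨fun e1 => hg.1.1 ?_, ?_⟩, ?_⟩
        · calc g = h⁻¹ * (h * g * h⁻¹) * h := by group
            _ = 1 := by rw [e1, mul_one, inv_mul_cancel]
        · rw [e]; exact hg.1.2
        · rw [mul_smul, mul_smul, ← hh', inv_smul_smul, hg.2]
      · intro g _; group
      · intro g _; group
    · intro x _ y _ hxy
      refine Finset.disjoint_left.2 fun g hgx hgy => hxy ?_
      rw [Finset.mem_filter] at hgx hgy
      exact huniq g hgx.1 x y hgx.2 hgy.2
  -- double counting of the fixed points of non-identity elements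
  set e : S → ℕ := fun x => (Finset.univ.filter fun g : G => g • x = x).card with he
  have heq : ∀ x, e x = Nat.card (stabilizer G x) := fun x => by
    simp only [he]
    rw [Nat.card_eq_fintype_card, ← Fintype.card_subtype]
    exact Fintype.card_congr (Equiv.refl _)
  have he2 : ∀ x, 2 ≤ e x := fun x => by
    rw [heq]
    exact Finite.one_lt_card_iff_nontrivial.2 ((Subgroup.nontrivial_iff_ne_bot _).2 (hpole x))
  have hfx : ∀ g : G, Nat.card (fixedBy S g) = (Finset.univ.filter fun x : S => g • x = x).card := by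
    intro g
    rw [Nat.card_eq_fintype_card, ← Fintype.card_subtype]
    exact Fintype.card_congr (Equiv.refl _)
  have hdc : ∑ g : G, (Finset.univ.filter fun x : S => g • x = x).card = ∑ x : S, e x := by
    simp only [he, Finset.card_filter]
    exact Finset.sum_comm
  have hsplit : ∑ g : G, (Finset.univ.filter fun x : S => g • x = x).card + One.card + 2 =
      2 * N + Fintype.card S := by
    have e1 : (Finset.univ.filter fun x : S => (1 : G) • x = x).card = Fintype.card S := by simp
    have e2 : ∀ g ∈ (Finset.univ : Finset G).erase 1,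
        (Finset.univ.filter fun x : S => g • x = x).card + (if g ∈ One then 1 else 0) = 2 := by
      intro g hg
      have hg1 := Finset.ne_of_mem_erase hg
      rw [← hfx]
      rcases hfix g hg1 with h | h
      · rw [h, if_pos (Finset.mem_filter.2 ⟨Finset.mem_univ _, hg1, h⟩)]
      · rw [h, if_neg fun hc => by have := (Finset.mem_filter.1 hc).2.2; omega]
    have e3 := Finset.sum_congr rfl e2
    rw [Finset.sum_add_distrib, Finset.sum_const, Finset.sum_boole,
      Finset.card_erase_of_mem (Finset.mem_univ _), Finset.card_univ, ← Nat.card_eq_fintype_card,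
      smul_eq_mul] at e3
    have e4 : ((Finset.univ : Finset G).erase 1).filter (fun g => g ∈ One) = One := by
      ext g
      simp [hOne]
    rw [e4, Nat.cast_id] at e3
    rw [← Finset.add_sum_erase _ _ (Finset.mem_univ (1 : G)), e1]
    have hN1 : 1 ≤ N := Nat.card_pos
    omega
  set R := Finset.univ.filter fun x : S => x ∉ orbit G x₀ with hR
  have hΩsum : ∑ x ∈ Ω, e x = n * (m * r) := by
    rw [Finset.sum_const_nat (m := m * r), hΩc]
    intro x hx
    obtain ⟨h, hh⟩ := (Finset.mem_filter.1 hx).2
    rw [heq, ← hr]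
    exact Nat.card_congr (stabilizerEquivStabilizer (show x = h • x₀ from hh.symm)).toEquiv.symm
  have hcard : Fintype.card S = n + R.card := by
    rw [← hΩc, hR, hΩ]
    exact (Finset.card_filter_add_card_filter_not _).symm
  have hsum : ∑ x : S, e x = n * (m * r) + ∑ x ∈ R, e x := by
    rw [← hΩsum, hR, hΩ]
    exact (Finset.sum_filter_add_sum_filter_not _ _ _).symm
  have hR1 : ∑ x ∈ R, (e x - 1) + R.card = ∑ x ∈ R, e x := by
    rw [Finset.card_eq_sum_ones, ← Finset.sum_add_distrib]
    exact Finset.sum_congr rfl fun x _ => by have := he2 x; omega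
  have horb : ∀ x ∈ R, ∀ O : Finset S, (∀ y, y ∈ O ↔ y ∈ orbit G x) →
      ∑ y ∈ O, (e y - 1) + O.card = N ∧ 2 * O.card ≤ N := by
    intro x _ O hO
    have hOcard : O.card = Nat.card (orbit G x) := by
      rw [Nat.card_eq_fintype_card, ← Fintype.card_coe]
      exact Fintype.card_congr (Equiv.subtypeEquivRight hO)
    have hprod : O.card * e x = N := by
      rw [hOcard, heq, hN, ← Nat.card_prod]
      exact Nat.card_congr (orbitProdStabilizerEquivGroup G x)
    have hc : ∀ y ∈ O, e y = e x := by
      intro y hy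
      obtain ⟨h, hh⟩ := (hO y).1 hy
      rw [heq, heq]
      exact Nat.card_congr (stabilizerEquivStabilizer (show y = h • x from hh.symm)).toEquiv.symm
    refine ⟨?_, ?_⟩
    · rw [Finset.sum_const_nat (m := e x - 1) fun y hy => by rw [hc y hy], ← hprod, Nat.mul_sub, mul_one]
      have := Nat.le_mul_of_pos_right O.card (show 0 < e x by have := he2 x; omega)
      omega
    · have := Nat.mul_le_mul_left O.card (he2 x)
      rw [hprod] at this
      omega
  obtain ⟨m', rfl⟩ : ∃ m', m = m' + 3 := ⟨m - 3, by omega⟩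
  rw [show m' + 3 - 1 = m' + 2 by omega] at hOc
  have hr1 : 1 ≤ r := by
    rcases Nat.eq_zero_or_pos r with rfl | h
    · rw [mul_zero] at hr
      exact absurd hr Nat.card_pos.ne'
    · exact h
  have hprod1 : n * (m' + 3) ≤ n * ((m' + 3) * r) :=
    Nat.mul_le_mul_left n (Nat.le_mul_of_pos_right _ hr1)
  have hT : ∑ x ∈ R, (e x - 1) + 2 + n * (m' + 2) = N + n := by omega
  have hexp : n * (m' + 2) = n * m' + 2 * n := by ring
  have hexp3 : n * (m' + 3) = n * m' + 3 * n := by ring
  obtain ⟨x₁, hx₁⟩ : R.Nonempty := by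
    by_contra hne
    rw [Finset.not_nonempty_iff_eq_empty] at hne
    rw [hne, Finset.sum_empty] at hT
    omega
  set O := Finset.univ.filter fun y : S => y ∈ orbit G x₁ with hO
  obtain ⟨hO1, hO2⟩ := horb x₁ hx₁ O fun y => by simp [hO]
  have hOR : O ⊆ R := by
    intro y hy
    simp only [hO, hR, Finset.mem_filter, Finset.mem_univ, true_and] at hy hx₁ ⊢
    exact fun h => hx₁ (by rw [← orbit_eq_iff] at h hy ⊢; exact hy.symm.trans h)
  have hOeq : O = R := by
    refine Finset.Subset.antisymm hOR fun x₂ hx₂ => ?_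
    by_contra hx₂O
    set O' := Finset.univ.filter fun y : S => y ∈ orbit G x₂ with hO'
    obtain ⟨h1, h2⟩ := horb x₂ hx₂ O' fun y => by simp [hO']
    have hsub : O' ⊆ R := by
      intro y hy
      simp only [hO', hR, Finset.mem_filter, Finset.mem_univ, true_and] at hy hx₂ ⊢
      exact fun h => hx₂ (by rw [← orbit_eq_iff] at h hy ⊢; exact hy.symm.trans h)
    have hdisj : Disjoint O O' := Finset.disjoint_left.2 fun y hy hy' => hx₂O (by
      simp only [hO, hO', Finset.mem_filter, Finset.mem_univ, true_and] at hy hy' ⊢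
      rw [← orbit_eq_iff] at hy hy' ⊢
      exact hy'.symm.trans hy)
    have h3 := Finset.sum_le_sum_of_subset (f := fun y => e y - 1) (Finset.union_subset hOR hsub)
    rw [Finset.sum_union hdisj] at h3
    omega
  refine ⟨e x₁, ?_⟩
  have hL : O.card * e x₁ = N := by
    rw [heq, hN, Nat.card_congr (orbitProdStabilizerEquivGroup G x₁).symm, Nat.card_prod,
      Nat.card_eq_fintype_card (α := orbit G x₁), ← Fintype.card_coe]
    congr 1
    exact Fintype.card_congr (Equiv.subtypeEquivRight fun y => by simp [hO])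
  rw [← hOeq] at hT
  have hO3 : O.card = n * (m' + 3 - 2) + 2 := by
    rw [show m' + 3 - 2 = m' + 1 by omega, show n * (m' + 1) = n * m' + n by ring]
    omega
  rw [← hO3, mul_comm, hL, ← hnmr, mul_assoc]

/-- The arithmetic consequence of the pole count. -/
theorem pole_arith {m r n d : ℕ} (hm : 5 ≤ m) (hr0 : 0 < r) (hr : r ≤ m - 1) (hn : 1 < n)
    (hnm : n % m = 1) (h : d * (n * (m - 2) + 2) = n * m * r) : n = m + 1 ∧ m + 1 < 4 * r := by
  obtain ⟨m', rfl⟩ : ∃ m', m = m' + 5 := ⟨m - 5, by omega⟩
  rw [show m' + 5 - 2 = m' + 3 by omega] at h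
  rw [show m' + 5 - 1 = m' + 4 by omega] at hr
  obtain ⟨s, hs⟩ : ∃ s, n = s * (m' + 5) + 1 := ⟨n / (m' + 5), by
    have := Nat.div_add_mod n (m' + 5); rw [hnm] at this; rw [mul_comm]; omega⟩
  have hs1 : 1 ≤ s := by
    rcases Nat.eq_zero_or_pos s with rfl | h' <;> omega
  have hd0 : 0 < d := by
    rcases Nat.eq_zero_or_pos d with rfl | h'
    · rw [zero_mul] at h
      have : 0 < n * (m' + 5) * r := by positivity
      omega
    · exact h'
  -- `n k = 2 d`
  obtain ⟨k, hk⟩ : ∃ k, (m' + 5) * r = d * (m' + 3) + k := by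
    refine ⟨(m' + 5) * r - d * (m' + 3), (Nat.add_sub_cancel' ?_).symm⟩
    by_contra hc
    push Not at hc
    have := Nat.mul_le_mul_left n (Nat.succ_le_of_lt hc)
    nlinarith [h]
  have hnk : n * k = 2 * d := by nlinarith [h, hk]
  have hk1 : 1 ≤ k := by
    rcases Nat.eq_zero_or_pos k with rfl | h'
    · omega
    · exact h'
  have hdm : d ≤ m' + 6 := by
    by_contra hc
    push Not at hc
    have h1 := Nat.mul_le_mul_right (m' + 3) (Nat.succ_le_of_lt hc)
    have h2 := Nat.mul_le_mul_left (m' + 5) hr
    nlinarith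
  have hk2 : k ≤ 2 := by
    by_contra hc
    push Not at hc
    have h1 := Nat.mul_le_mul_left n (Nat.succ_le_of_lt hc)
    have h2 : m' + 5 ≤ s * (m' + 5) := Nat.le_mul_of_pos_left _ hs1
    omega
  have hs2 : s ≤ 2 := by
    by_contra hc
    push Not at hc
    have h1 := Nat.mul_le_mul_right (m' + 5) (Nat.succ_le_of_lt hc)
    have h2 := Nat.le_mul_of_pos_right n hk1
    omega
  have key : n = m' + 6 ∧ m' + 6 ≤ 2 * d := by
    interval_cases s <;> interval_cases k <;> constructor <;> omega
  refine ⟨key.1, ?_⟩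
  by_contra hc
  push Not at hc
  have h1 := Nat.mul_le_mul_left (m' + 5) hc
  have h2 := Nat.mul_le_mul_left (m' + 3) key.2
  nlinarith [h1, h2, hk, hk1]

end Cfsg.Agent.Quad
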