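import Cfsg.Agent.Lib.Quad.GenBasic
import Cfsg.Agent.Lib.Quad.PoleCount

/-!
Over a finite field the group `gam k C` is all of `SL₂` (pole counting on the projective line).
-/

set_option autoImplicit false

namespace Cfsg.Agent.Quad

open Matrix Module MulAction OnePoint
open scoped Pointwise

variable {K : Type*} [Field K]

local notation "L" => AlgebraicClosure K

/-- `SL₂(K)` acting on the projective line over the algebraic closure. -/
noncomputable def toGLL : Matrix.SpecialLinearGroup (Fin 2) K →* GL (Fin 2) L :=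
  Matrix.SpecialLinearGroup.toGL.comp (Matrix.SpecialLinearGroup.map (algebraMap K L))

theorem toGLL_apply (g : Matrix.SpecialLinearGroup (Fin 2) K) (i j : Fin 2) :
    (toGLL g : Matrix (Fin 2) (Fin 2) L) i j = algebraMap K L (g.1 i j) := rfl

attribute [local instance] Classical.propDecidable

/-- The action of `SL₂(K)` on the projective line over the algebraic closure. -/
noncomputable def act (g : Matrix.SpecialLinearGroup (Fin 2) K) (x : OnePoint L) : OnePoint L :=
  toGLL g • x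

theorem act_one (x : OnePoint L) : act (1 : Matrix.SpecialLinearGroup (Fin 2) K) x = x := by
  rw [act, map_one, one_smul]

theorem act_mul (g h : Matrix.SpecialLinearGroup (Fin 2) K) (x : OnePoint L) :
    act (g * h) x = act g (act h x) := by rw [act, act, act, map_mul, mul_smul]

theorem act_infty (g : Matrix.SpecialLinearGroup (Fin 2) K) :
    act g ∞ = if g.1 1 0 = 0 then ∞ else ((algebraMap K L (g.1 0 0) / algebraMap K L (g.1 1 0) : L) : OnePoint L) := by
  rw [act, OnePoint.smul_infty_eq_ite]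
  simp only [toGLL_apply, map_eq_zero]

theorem act_infty_iff (g : Matrix.SpecialLinearGroup (Fin 2) K) : act g ∞ = ∞ ↔ g.1 1 0 = 0 := by
  rw [act_infty]
  split_ifs with h <;> simp [h]

theorem act_coe_iff (g : Matrix.SpecialLinearGroup (Fin 2) K) (z : L) :
    act g z = z ↔ algebraMap K L (g.1 1 0) * z ^ 2 +
      (algebraMap K L (g.1 1 1) - algebraMap K L (g.1 0 0)) * z - algebraMap K L (g.1 0 1) = 0 := by
  rw [act, OnePoint.smul_some_eq_ite]
  simp only [toGLL_apply]
  have hd : algebraMap K L (g.1 0 0) * algebraMap K L (g.1 1 1) -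
      algebraMap K L (g.1 0 1) * algebraMap K L (g.1 1 0) = 1 := by
    rw [← map_mul, ← map_mul, ← map_sub, det_eq, map_one]
  by_cases h : algebraMap K L (g.1 1 0) * z + algebraMap K L (g.1 1 1) = 0
  · simp only [h, ↓reduceIte]
    refine ⟨fun e => absurd e (OnePoint.infty_ne_coe _), fun e => ?_⟩
    exfalso
    have : (1 : L) = 0 := by
      linear_combination -hd + algebraMap K L (g.1 0 0) * h + algebraMap K L (g.1 1 0) * e -
        algebraMap K L (g.1 1 0) * z * h
    exact one_ne_zero this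
  · simp only [h, ↓reduceIte]
    rw [OnePoint.coe_eq_coe, div_eq_iff h]
    constructor <;> intro e <;> linear_combination -e

/-- The scalar elements. -/
def IsScalar2 (g : Matrix.SpecialLinearGroup (Fin 2) K) : Prop :=
  g.1 1 0 = 0 ∧ g.1 0 1 = 0 ∧ g.1 0 0 = g.1 1 1

theorem act_scalar {g : Matrix.SpecialLinearGroup (Fin 2) K} (hg : IsScalar2 g) (x : OnePoint L) :
    act g x = x := by
  cases x with
  | infty => exact (act_infty_iff g).2 hg.1
  | coe z => rw [act_coe_iff, hg.1, hg.2.1, hg.2.2]; simp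

/-- Fixed points of a non-scalar element. -/
theorem card_fix (h2 : (2 : K) ≠ 0) {g : Matrix.SpecialLinearGroup (Fin 2) K} (hg : ¬ IsScalar2 g) :
    Nat.card {x : OnePoint L | act g x = x} = if (g.1 0 0 + g.1 1 1) ^ 2 = 4 then 1 else 2 := by
  have hd := det_eq g
  rw [Nat.card_coe_set_eq]
  by_cases hc : g.1 1 0 = 0
  · rw [hc, mul_zero, sub_zero] at hd
    by_cases had : g.1 0 0 = g.1 1 1
    · rw [if_pos (by linear_combination 4 * hd + (g.1 0 0 - g.1 1 1) * had)]
      have hb : g.1 0 1 ≠ 0 := fun hb => hg ⟨hc, hb, had⟩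
      rw [show {x : OnePoint L | act g x = x} = {∞} from ?_, Set.ncard_singleton]
      ext x
      cases x with
      | infty => simp [(act_infty_iff g).2 hc]
      | coe z => simp [act_coe_iff, hc, had, hb]
    · rw [if_neg fun e => had ?_]
      · set z₀ : L := algebraMap K L (g.1 0 1 / (g.1 1 1 - g.1 0 0))
        have hne : g.1 1 1 - g.1 0 0 ≠ 0 := sub_ne_zero.2 (Ne.symm had)
        have hne' : algebraMap K L (g.1 1 1) - algebraMap K L (g.1 0 0) ≠ 0 := by
          rw [← map_sub]; exact (map_ne_zero _).2 hne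
        rw [show {x : OnePoint L | act g x = x} = {∞, (z₀ : OnePoint L)} from ?_, Set.ncard_pair (OnePoint.infty_ne_coe _)]
        ext x
        cases x with
        | infty => simp [(act_infty_iff g).2 hc]
        | coe z =>
          simp only [Set.mem_ofPred_eq, act_coe_iff, hc, map_zero, zero_mul, zero_add, Set.mem_insert_iff,
            Set.mem_singleton_iff, OnePoint.coe_ne_infty, false_or, OnePoint.coe_eq_coe]
          rw [sub_eq_zero, show z₀ = algebraMap K L (g.1 0 1) / (algebraMap K L (g.1 1 1) - algebraMap K L (g.1 0 0)) by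
            simp [z₀, map_div₀, map_sub], eq_div_iff hne', mul_comm]
      · have h4 : (g.1 0 0 - g.1 1 1) ^ 2 = 0 := by linear_combination e - 4 * hd
        exact sub_eq_zero.1 (pow_eq_zero_iff two_ne_zero |>.1 h4)
  · set c := algebraMap K L (g.1 1 0)
    set e := algebraMap K L (g.1 1 1) - algebraMap K L (g.1 0 0)
    have hc' : c ≠ 0 := by simpa [c] using hc
    obtain ⟨s, hs⟩ := IsAlgClosed.exists_eq_mul_self (k := L) (discrim c e (-algebraMap K L (g.1 0 1)))
    have hdisc : discrim c e (-algebraMap K L (g.1 0 1)) = algebraMap K L ((g.1 0 0 + g.1 1 1) ^ 2 - 4) := by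
      simp only [discrim, c, e, map_sub, map_pow, map_add, map_ofNat]
      have := congrArg (algebraMap K L) hd
      simp only [map_sub, map_mul, map_one] at this
      linear_combination -4 * this
    have h2L : NeZero (2 : L) := ⟨by
      rw [← map_ofNat (algebraMap K L) 2]; simpa using h2⟩
    have hset : {x : OnePoint L | act g x = x} =
        {(((-e + s) / (2 * c) : L) : OnePoint L), (((-e - s) / (2 * c) : L) : OnePoint L)} := by
      ext x
      cases x with
      | infty => simp [act_infty_iff, hc]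
      | coe z =>
        simp only [Set.mem_ofPred_eq, act_coe_iff, Set.mem_insert_iff, Set.mem_singleton_iff, OnePoint.coe_eq_coe]
        rw [← quadratic_eq_zero_iff hc' hs z]
        constructor <;> intro h <;> linear_combination h
    rw [hset]
    split_ifs with h4
    · have hs0 : s = 0 := by
        rw [h4, sub_self, map_zero] at hdisc
        rw [hdisc] at hs
        exact mul_self_eq_zero.1 hs.symm
      rw [hs0]; simp
    · refine Set.ncard_pair fun he => h4 ?_
      rw [OnePoint.coe_eq_coe, div_left_inj' (mul_ne_zero (NeZero.ne 2) hc')] at he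
      have hs0 : s = 0 := by
        have : (2 : L) * s = 0 := by linear_combination he
        rcases mul_eq_zero.1 this with h | h
        · exact absurd h (NeZero.ne 2)
        · exact h
      rw [hs0, mul_zero, hdisc] at hs
      exact sub_eq_zero.1 ((map_eq_zero _).1 hs)

variable {k : Type*} [Field k] [Algebra k K]

/-- Over a finite field the group is everything. -/
theorem gam_eq_top_of_finite [Finite K] (hk2 : (2 : k) ≠ 0) (hk5 : 5 ≤ Nat.card k) {C : K} (hC : C ≠ 0)
    (hgen : Algebra.adjoin k {C} = ⊤) : gam k C = ⊤ := by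
  refine gam_eq_top hC ?_
  have h2 : (2 : K) ≠ 0 := by
    rw [← map_ofNat (algebraMap k K) 2]; simpa using hk2
  have : Fintype K := Fintype.ofFinite K
  obtain ⟨p, hp⟩ := CharP.exists K
  have hpp : Fact p.Prime := ⟨CharP.char_is_prime K p⟩
  set Γ := gam k C with hΓ
  set X := upperParam k C with hX
  set m := Nat.card X with hm
  have hm5 : 5 ≤ m := le_trans hk5 (Nat.card_le_card_of_injective
    (fun s : k => (⟨s • 1, X.smul_mem s (one_mem_upperParam C)⟩ : X))
    (fun s t e => smul_left_injective k one_ne_zero (congrArg Subtype.val e)))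
  -- the poles
  set S : Set (OnePoint L) := {x | ∃ g ∈ Γ, ¬ IsScalar2 g ∧ act g x = x} with hS
  have hnsu : ∀ {x : K}, x ≠ 0 → ¬ IsScalar2 (uG x) := fun {x} hx h => hx h.2.1
  have hu1 : ¬ IsScalar2 (uG (1 : K)) := hnsu one_ne_zero
  have hSfin : S.Finite := by
    have e : S = ⋃ g ∈ {g | g ∈ Γ ∧ ¬ IsScalar2 g}, {x | act g x = x} := by
      ext x; simp [hS, and_assoc]
    rw [e]
    refine (Set.toFinite _).biUnion fun g hg => Set.finite_of_ncard_pos ?_
    rw [← Nat.card_coe_set_eq, card_fix h2 hg.2]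
    split_ifs <;> norm_num
  have : Finite S := hSfin.to_subtype
  have hSinv : ∀ g ∈ Γ, ∀ x ∈ S, act g x ∈ S := by
    rintro g hg x ⟨h, hh, hns, hx⟩
    refine ⟨g * h * g⁻¹, mul_mem (mul_mem hg hh) (inv_mem hg), fun hs => hns ?_, ?_⟩
    · have hz : ∀ y, (g * h * g⁻¹) * y = y * (g * h * g⁻¹) := by
        intro y
        refine sl_ext ?_ ?_ ?_ ?_ <;> simp only [sl_mul_apply y, sl_mul_apply _ y, hs.1, hs.2.1, hs.2.2] <;> ring
      have : h = g * h * g⁻¹ := by
        calc h = g⁻¹ * ((g * h * g⁻¹) * g) := by group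
          _ = g * h * g⁻¹ := by rw [hz, ← mul_assoc, inv_mul_cancel, one_mul]
      rw [this]; exact hs
    · rw [← act_mul, show g * h * g⁻¹ * g = g * h by group, act_mul, hx]
  have hinf : (∞ : OnePoint L) ∈ S := ⟨uG 1, uG_one_mem k C, hu1, (act_infty_iff _).2 rfl⟩
  -- the permutation group on the poles
  let ρ : Γ →* Equiv.Perm S :=
    { toFun := fun g =>
        { toFun := fun x => ⟨act g.1 x.1, hSinv _ g.2 _ x.2⟩
          invFun := fun x => ⟨act g.1⁻¹ x.1, hSinv _ (inv_mem g.2) _ x.2⟩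
          left_inv := fun x => Subtype.ext (by simp [← act_mul, act_one])
          right_inv := fun x => Subtype.ext (by simp [← act_mul, act_one]) }
      map_one' := by ext x; exact act_one _
      map_mul' := fun g h => by ext x; exact act_mul _ _ _ }
  have hρ : ∀ (g : Γ) (x : S), ((ρ g x : S) : OnePoint L) = act g.1 x.1 := fun _ _ => rfl
  have hact : ∀ x : K, ∀ z : L, act (uG x) (z : OnePoint L) = ((z + algebraMap K L x : L) : OnePoint L) := by
    intro x z
    rw [act, OnePoint.smul_some_eq_ite]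
    simp [toGLL_apply]
  have hker : ∀ g : Γ, ρ g = 1 ↔ IsScalar2 g.1 := by
    intro g
    refine ⟨fun h => ?_, fun h => Equiv.ext fun x => Subtype.ext (act_scalar h _)⟩
    by_contra hns
    -- the orbit of `∞` has more than two points
    have hlC : lG C ∈ Γ := lG_C_mem k C
    have hz : ((algebraMap K L C⁻¹ : L) : OnePoint L) ∈ S := by
      have := hSinv _ hlC _ hinf
      rwa [act_infty, if_neg (by simpa using hC), lG_00, map_one, lG_10, one_div, ← map_inv₀] at this
    have h3 : ∀ x ∈ X, act g.1 ((algebraMap K L (C⁻¹ + x) : L) : OnePoint L) =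
        ((algebraMap K L (C⁻¹ + x) : L) : OnePoint L) := by
      intro x hx
      have h1 := hSinv _ hx _ hz
      rw [hact, ← map_add] at h1
      exact congrArg Subtype.val (Equiv.ext_iff.1 h ⟨_, h1⟩)
    have h4 := card_fix h2 hns
    have h5 : m ≤ Nat.card {x : OnePoint L | act g.1 x = x} := by
      have : Finite {x : OnePoint L | act g.1 x = x} := Nat.finite_of_card_ne_zero (by
        rw [h4]; split_ifs <;> norm_num)
      refine Nat.card_le_card_of_injective (fun x : X => ⟨_, h3 x.1 x.2⟩) fun x y e => Subtype.ext ?_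
      simpa using e
    rw [h4] at h5
    split_ifs at h5 <;> omega
  set Gb := ρ.range with hGb
  let x₀ : S := ⟨∞, hinf⟩
  have hfixeq : ∀ g : Γ, ¬ IsScalar2 g.1 → Nat.card (fixedBy S (⟨ρ g, ⟨g, rfl⟩⟩ : Gb)) =
      if (g.1.1 0 0 + g.1.1 1 1) ^ 2 = 4 then 1 else 2 := by
    intro g hg
    rw [← card_fix h2 hg]
    exact Nat.card_congr
      { toFun := fun x => ⟨x.1.1, congrArg Subtype.val x.2⟩
        invFun := fun x => ⟨⟨x.1, g.1, g.2, hg, x.2⟩, Subtype.ext x.2⟩
        left_inv := fun _ => rfl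
        right_inv := fun _ => rfl }
  -- unipotent elements fixing `∞`
  have hub : ∀ g ∈ Γ, g.1 1 0 = 0 → g.1 0 0 = g.1 1 1 → ∃ x ∈ X, ∃ z, IsScalar2 z ∧ g = z * uG x := by
    intro g hg hc had
    have hd := det_eq g
    rw [hc, mul_zero, sub_zero, ← had] at hd
    obtain ⟨z, z00, z01, z10, z11⟩ : ∃ z : Matrix.SpecialLinearGroup (Fin 2) K,
        z.1 0 0 = g.1 0 0 ∧ z.1 0 1 = 0 ∧ z.1 1 0 = 0 ∧ z.1 1 1 = g.1 0 0 :=
      ⟨⟨!![g.1 0 0, 0; 0, g.1 0 0], by rw [Matrix.det_fin_two_of]; simpa using hd⟩, rfl, rfl, rfl, rfl⟩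
    refine ⟨g.1 0 0 * g.1 0 1, ?_, z, ⟨z10, z01, z00.trans z11.symm⟩, ?_⟩
    · have e : g * g = uG (2 * (g.1 0 0 * g.1 0 1)) := by
        refine sl_ext ?_ ?_ ?_ ?_ <;> simp [sl_mul_apply, hc, ← had, hd] <;> ring
      have h := X.smul_mem (2⁻¹ : k) (mem_upperParam.2 (e ▸ mul_mem hg hg))
      rw [Algebra.smul_def, map_inv₀, map_ofNat, inv_mul_cancel_left₀ h2] at h
      exact h
    · refine sl_ext ?_ ?_ ?_ ?_
      · simp [sl_mul_apply, z00, z01]
      · simp [sl_mul_apply, z00, z01, ← mul_assoc, hd]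
      · simp [sl_mul_apply, z10, hc]
      · simp [sl_mul_apply, z10, z11, had]
  -- squares of the diagonal entries
  let T : Set K := {t | ∃ g ∈ Γ, g.1 1 0 = 0 ∧ g.1 0 0 ^ 2 = t}
  set r := Nat.card T with hr
  have hTX : ∀ t ∈ T, ∀ x ∈ X, t * x ∈ X := by
    rintro t ⟨g, hg, hc, rfl⟩ x hx
    exact sq_mul_mem_upperParam hg hc hx
  have hT0 : ∀ t ∈ T, t ≠ 0 := by
    rintro t ⟨g, -, hc, rfl⟩
    exact pow_ne_zero 2 (ne_zero_of_upper hc)
  have hr0 : 0 < r := by
    have : Nonempty T := ⟨⟨1, 1, one_mem _, by simp, by simp⟩⟩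
    exact Nat.card_pos
  have hrm : r ≤ m - 1 := by
    have h1 : Nat.card {x : X // x ≠ 0} = m - 1 := by
      have : Fintype X := Fintype.ofFinite X
      rw [hm, Nat.card_eq_fintype_card, Nat.card_eq_fintype_card, Fintype.card_subtype_compl,
        Fintype.card_subtype_eq]
    rw [← h1]
    refine Nat.card_le_card_of_injective (fun t : T =>
      ⟨⟨t.1, by simpa using hTX t.1 t.2 1 (one_mem_upperParam C)⟩, fun e => hT0 t.1 t.2 (congrArg Subtype.val e)⟩)
      fun a b e => Subtype.ext (congrArg (fun x => (x.1 : K)) e)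
  have hst : ∀ g : Γ, (⟨ρ g, ⟨g, rfl⟩⟩ : Gb) ∈ stabilizer Gb x₀ ↔ g.1.1 1 0 = 0 := fun g => by
    rw [mem_stabilizer_iff, ← act_infty_iff]
    exact ⟨fun h => congrArg Subtype.val h, fun h => Subtype.ext h⟩
  have hstab : Nat.card (stabilizer Gb x₀) = m * r := by
    have hσ : ∀ t : T, ∃ g : Γ, g.1.1 1 0 = 0 ∧ g.1.1 0 0 ^ 2 = t.1 :=
      fun ⟨t, g, hg, hc, ht⟩ => ⟨⟨g, hg⟩, hc, ht⟩
    choose σ hσ1 hσ2 using hσ
    let f : X × T → stabilizer Gb x₀ := fun q =>
      ⟨⟨ρ (⟨uG q.1.1, q.1.2⟩ * σ q.2), ⟨_, rfl⟩⟩, (hst _).2 (by simp [sl_mul_apply, hσ1])⟩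
    rw [hr, hm, ← Nat.card_prod]
    refine (Nat.card_eq_of_bijective f ⟨fun q q' e => ?_, fun s => ?_⟩).symm
    · have e' : ρ (⟨uG q.1.1, q.1.2⟩ * σ q.2) = ρ (⟨uG q'.1.1, q'.1.2⟩ * σ q'.2) :=
        congrArg (fun z : stabilizer Gb x₀ => (z.1.1 : Equiv.Perm S)) e
      rw [← div_eq_one, ← map_div, hker, div_eq_mul_inv, _root_.mul_inv_rev] at e'
      simp only [Subgroup.coe_mul, Subgroup.coe_inv] at e'
      set z : Matrix.SpecialLinearGroup (Fin 2) K :=
        uG q.1.1 * (σ q.2).1 * ((σ q'.2).1⁻¹ * (uG q'.1.1)⁻¹) with hz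
      have hzz : uG q.1.1 * (σ q.2).1 = z * (uG q'.1.1 * (σ q'.2).1) := by rw [hz]; group
      have hd := det_eq z
      rw [e'.1, e'.2.1, ← e'.2.2, mul_zero, sub_zero] at hd
      have h00 := congrArg (fun g : Matrix.SpecialLinearGroup (Fin 2) K => g.1 0 0) hzz
      have h01 := congrArg (fun g : Matrix.SpecialLinearGroup (Fin 2) K => g.1 0 1) hzz
      have h11 := congrArg (fun g : Matrix.SpecialLinearGroup (Fin 2) K => g.1 1 1) hzz
      simp only [sl_mul_apply, uG_00, uG_01, uG_10, uG_11, hσ1, e'.1, e'.2.1, ← e'.2.2, one_mul,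
        zero_mul, mul_zero, add_zero, zero_add] at h00 h01 h11
      have ht : q.2 = q'.2 := Subtype.ext (by
        rw [← hσ2, ← hσ2, h00]
        linear_combination (σ q'.2).1.1 0 0 ^ 2 * hd)
      rw [ht] at h00 h01 h11
      have hz1 : z.1 0 0 = 1 := by
        refine mul_right_cancel₀ (ne_zero_of_upper (hσ1 q'.2)) ?_
        rw [one_mul]; exact h00.symm
      have hne : (σ q'.2).1.1 1 1 ≠ 0 := fun e => by
        have := det_eq (σ q'.2).1
        simp [e, hσ1] at this
      refine Prod.ext (Subtype.ext (mul_right_cancel₀ hne ?_)) ht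
      linear_combination h01 + ((σ q'.2).1.1 1 1 * q'.1.1 + (σ q'.2).1.1 0 1) * hz1
    · obtain ⟨⟨_, g, rfl⟩, hs⟩ := s
      have hc := (hst g).1 hs
      let t : T := ⟨g.1.1 0 0 ^ 2, g.1, g.2, hc, rfl⟩
      set h : Γ := g * (σ t)⁻¹ with hh
      have hσc := hσ1 t
      have hinv : ((σ t).1⁻¹).1 1 0 = 0 ∧ ((σ t).1⁻¹).1 0 0 = (σ t).1.1 1 1 ∧ ((σ t).1⁻¹).1 1 1 = (σ t).1.1 0 0 := by
        rw [Matrix.SpecialLinearGroup.coe_inv, Matrix.adjugate_fin_two]
        simp [hσc]
      have hc' : h.1.1 1 0 = 0 := by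
        simp [hh, sl_mul_apply, hc, hinv.1]
      have hd' : h.1.1 0 0 = h.1.1 1 1 := by
        simp only [hh, Subgroup.coe_mul, Subgroup.coe_inv, sl_mul_apply, hc, hinv.1, hinv.2.1, hinv.2.2]
        have d1 := det_eq g.1
        have d2 := det_eq (σ t).1
        rw [hc, mul_zero, sub_zero] at d1
        rw [hσc, mul_zero, sub_zero] at d2
        linear_combination (-(g.1.1 0 0) * (σ t).1.1 1 1) * d1 + (g.1.1 1 1 * (σ t).1.1 0 0) * d2 -
          g.1.1 1 1 * (σ t).1.1 1 1 * (hσ2 t)
      obtain ⟨x, hx, z, hz, hzx⟩ := hub h.1 h.2 hc' hd'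
      refine ⟨(⟨x, hx⟩, t), Subtype.ext (Subtype.ext (Equiv.ext fun y => Subtype.ext ?_))⟩
      show act (uG x * (σ t).1) y.1 = act g.1 y.1
      rw [← act_scalar hz (act (uG x * (σ t).1) y.1), ← act_mul, ← mul_assoc, ← hzx]
      simp [hh]
  set n := Nat.card (orbit Gb x₀) with hn
  -- the Sylow subgroup
  let P0 : Subgroup Γ :=
    { carrier := {g | ∃ x ∈ X, g.1 = uG x}
      one_mem' := ⟨0, X.zero_mem, uG_zero.symm⟩
      mul_mem' := fun {a b} ⟨x, hx, hx'⟩ ⟨y, hy, hy'⟩ => ⟨x + y, X.add_mem hx hy, by simp [hx', hy', uG_mul]⟩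
      inv_mem' := fun {a} ⟨x, hx, hx'⟩ => ⟨-x, X.neg_mem hx, by simp [hx', uG_inv]⟩ }
  have hupow : ∀ (x : K) (j : ℕ), uG x ^ j = uG (j • x) := by
    intro x j
    induction j with
    | zero => simp [uG_zero]
    | succ j ih => rw [pow_succ, ih, uG_mul, succ_nsmul]
  have hP0 : IsPGroup p P0 := fun g => ⟨1, by
    obtain ⟨x, -, hx⟩ := g.2
    refine Subtype.ext (Subtype.ext ?_)
    simp only [pow_one, SubmonoidClass.coe_pow, hx, hupow, nsmul_eq_mul, CharP.cast_eq_zero, zero_mul, uG_zero]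
    rfl⟩
  obtain ⟨Q, hQ⟩ := hP0.exists_le_sylow
  have hQeq : (Q : Subgroup Γ) = P0 := by
    refine le_antisymm ?_ hQ
    by_contra hlt
    have hnil : Group.IsNilpotent (Q : Subgroup Γ) := Q.isPGroup'.isNilpotent
    set P' := P0.subgroupOf (Q : Subgroup Γ)
    have hP' : P' < ⊤ := lt_top_iff_ne_top.2 fun e => hlt (Subgroup.subgroupOf_eq_top.1 e)
    have hN := Group.normalizerCondition_of_isNilpotent P' hP'
    obtain ⟨g, hgN, hgP⟩ := SetLike.exists_of_lt hN
    have hu : (⟨⟨uG 1, uG_one_mem k C⟩, hQ ⟨1, one_mem_upperParam C, rfl⟩⟩ : (Q : Subgroup Γ)) ∈ P' :=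
      Subgroup.mem_subgroupOf.2 ⟨1, one_mem_upperParam C, rfl⟩
    obtain ⟨x, hx, hx'⟩ := Subgroup.mem_subgroupOf.1 ((Subgroup.mem_normalizer_iff.1 hgN _).1 hu)
    set G' : Matrix.SpecialLinearGroup (Fin 2) K := (g : Γ).1 with hG'
    have he : G' * uG 1 = uG x * G' := by
      rw [← hx', hG']; simp
    have hc : G'.1 1 0 = 0 := by
      have := congrArg (fun g : Matrix.SpecialLinearGroup (Fin 2) K => g.1 1 1) he
      simpa [sl_mul_apply] using this
    obtain ⟨e, he'⟩ := Q.isPGroup' g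
    have hpow : ∀ j, (G' ^ j).1 1 0 = 0 ∧ (G' ^ j).1 0 0 = G'.1 0 0 ^ j := by
      intro j
      induction j with
      | zero => simp
      | succ j ih => simp [pow_succ, sl_mul_apply, ih.1, ih.2, hc]
    have ha : G'.1 0 0 ^ p ^ e = 1 := by
      rw [← (hpow _).2, hG', ← SubmonoidClass.coe_pow, ← SubmonoidClass.coe_pow, he']
      rfl
    have ha1 : G'.1 0 0 = 1 := by
      have : (G'.1 0 0 - 1) ^ p ^ e = 0 := by rw [sub_pow_char_pow, one_pow, ha, sub_self]
      exact sub_eq_zero.1 (pow_eq_zero_iff (pow_ne_zero _ hpp.1.ne_zero) |>.1 this)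
    have hG'u : G' = uG (G'.1 0 1) := by
      have hd := det_eq G'
      rw [hc, ha1, one_mul, mul_zero, sub_zero] at hd
      refine sl_ext ?_ ?_ ?_ ?_ <;> simp [hc, ha1, hd]
    exact hgP (Subgroup.mem_subgroupOf.2 ⟨G'.1 0 1, mem_upperParam.2 (hG'u ▸ (g : Γ).2), hG'u⟩)
  have hone : ∀ g : Gb, g ≠ 1 → Nat.card (fixedBy S g) = 1 → ∃ x ∈ orbit Gb x₀, g • x = x := by
    rintro ⟨_, g, rfl⟩ hg1 hcard
    have hns : ¬ IsScalar2 g.1 := fun h => hg1 (Subtype.ext ((hker g).2 h))
    rw [hfixeq g hns] at hcard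
    have htr : (g.1.1 0 0 + g.1.1 1 1) ^ 2 = 4 := by
      by_contra h
      rw [if_neg h] at hcard
      exact absurd hcard (by norm_num)
    have hd := det_eq g.1
    have hsq : (g.1 * g.1).1 0 0 + (g.1 * g.1).1 1 1 = 2 := by
      simp only [sl_mul_apply]
      linear_combination htr - 2 * hd
    have hnsq : ¬ IsScalar2 (g.1 * g.1) := by
      intro h
      simp only [IsScalar2, sl_mul_apply] at h
      have ht0 : g.1.1 0 0 + g.1.1 1 1 ≠ 0 := fun e => by
        rw [e] at htr
        exact mul_ne_zero h2 h2 (by linear_combination -htr)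
      refine hns ⟨?_, ?_, ?_⟩
      · exact (mul_eq_zero.1 (show (g.1.1 0 0 + g.1.1 1 1) * g.1.1 1 0 = 0 by linear_combination h.1)).resolve_left ht0
      · exact (mul_eq_zero.1 (show (g.1.1 0 0 + g.1.1 1 1) * g.1.1 0 1 = 0 by linear_combination h.2.1)).resolve_left ht0
      · exact sub_eq_zero.1 ((mul_eq_zero.1 (show (g.1.1 0 0 + g.1.1 1 1) * (g.1.1 0 0 - g.1.1 1 1) = 0 by
          linear_combination h.2.2)).resolve_left ht0)
    have hpow : (g * g) ^ p = 1 := by
      refine Subtype.ext (Subtype.ext ?_)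
      set A : Matrix (Fin 2) (Fin 2) K := (g.1 * g.1).1
      have hN : (A - 1) ^ 2 = 0 := by
        have hdA := det_eq (g.1 * g.1)
        rw [pow_two]
        refine Matrix.ext fun i j => ?_
        simp only [Matrix.mul_apply, Fin.sum_univ_two, Matrix.sub_apply, Matrix.one_apply, Matrix.zero_apply]
        fin_cases i <;> fin_cases j <;> simp
        · linear_combination (A 0 0) * hsq - hdA
        · linear_combination A 0 1 * hsq
        · linear_combination A 1 0 * hsq
        · linear_combination (A 1 1) * hsq - hdA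
      show A ^ p = 1
      have : (A - 1) ^ p = 0 := by
        rw [← Nat.sub_add_cancel hpp.1.two_le, pow_add, hN, mul_zero]
      have hcomm := sub_pow_char_of_commute (p := p) (Commute.one_right A)
      rw [this, one_pow] at hcomm
      exact sub_eq_zero.1 hcomm.symm
    have hpg : IsPGroup p (Subgroup.zpowers (g * g)) := by
      refine IsPGroup.of_card (n := 1) ?_
      rw [pow_one, Nat.card_zpowers]
      refine orderOf_eq_prime hpow fun h => hnsq ?_
      rw [show g.1 * g.1 = 1 from congrArg Subtype.val h]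
      exact ⟨by simp, by simp, by simp⟩
    obtain ⟨Q', hQ'⟩ := hpg.exists_le_sylow
    obtain ⟨γ, hγ⟩ := MulAction.exists_smul_eq Γ Q Q'
    have hmem := hQ' (Subgroup.mem_zpowers (g * g))
    rw [← hγ] at hmem
    change g * g ∈ (MulAut.conj γ • (Q : Subgroup Γ)) at hmem
    rw [Subgroup.mem_pointwise_smul_iff_inv_smul_mem, hQeq] at hmem
    obtain ⟨x, -, hx'⟩ := hmem
    refine ⟨(⟨ρ γ, ⟨γ, rfl⟩⟩ : Gb) • x₀, ⟨_, rfl⟩, Subtype.ext ?_⟩
    show act g.1 (act γ.1 ∞) = act γ.1 ∞
    have hgg : g.1 * g.1 = γ.1 * uG x * γ.1⁻¹ := by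
      rw [← hx']; simp [mul_assoc]
    have hfix2 : act (g.1 * g.1) (act γ.1 ∞) = act γ.1 ∞ := by
      rw [hgg, ← act_mul, show γ.1 * uG x * γ.1⁻¹ * γ.1 = γ.1 * uG x by group, act_mul,
        (act_infty_iff (uG x)).2 rfl]
    have hc1 : Nat.card {y : OnePoint L | act g.1 y = y} = 1 := by rw [card_fix h2 hns, if_pos htr]
    have hc2 : Nat.card {y : OnePoint L | act (g.1 * g.1) y = y} = 1 := by
      rw [card_fix h2 hnsq, if_pos (by rw [hsq]; norm_num)]
    obtain ⟨-, ⟨y, hy⟩⟩ := Nat.card_eq_one_iff_unique.1 hc1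
    obtain ⟨hsub, -⟩ := Nat.card_eq_one_iff_unique.1 hc2
    have hy2 : act (g.1 * g.1) y = y := by rw [act_mul, hy, hy]
    have := congrArg Subtype.val (hsub.elim ⟨y, hy2⟩ ⟨_, hfix2⟩)
    simp only at this
    rw [← this]; exact hy
  have hfix : ∀ g : Gb, g ≠ 1 → Nat.card (fixedBy S g) = 1 ∨ Nat.card (fixedBy S g) = 2 := by
    rintro ⟨_, g, rfl⟩ hg1
    rw [hfixeq g fun h => hg1 (Subtype.ext ((hker g).2 h))]
    split_ifs <;> simp
  have hpole : ∀ x : S, stabilizer Gb x ≠ ⊥ := by
    rintro ⟨x, g, hg, hns, hx⟩ e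
    have : (⟨ρ ⟨g, hg⟩, ⟨_, rfl⟩⟩ : Gb) = 1 := by
      rw [← Subgroup.mem_bot, ← e]
      exact mem_stabilizer_iff.2 (Subtype.ext hx)
    exact hns ((hker ⟨g, hg⟩).1 (congrArg Subtype.val this))
  have hcnt : Nat.card {g : Gb | g ∈ stabilizer Gb x₀ ∧ g ≠ 1 ∧ Nat.card (fixedBy S g) = 1} = m - 1 := by
    let f : {x : X // x ≠ 0} → {g : Gb | g ∈ stabilizer Gb x₀ ∧ g ≠ 1 ∧ Nat.card (fixedBy S g) = 1} :=
      fun x => ⟨⟨ρ ⟨uG x.1.1, x.1.2⟩, ⟨_, rfl⟩⟩, (hst _).2 rfl,
        fun e => hnsu (fun h => x.2 (Subtype.ext h)) ((hker _).1 (congrArg Subtype.val e)), by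
          rw [hfixeq _ (hnsu fun h => x.2 (Subtype.ext h)), if_pos (by norm_num)]⟩
    have : Fintype X := Fintype.ofFinite X
    rw [← Nat.card_eq_of_bijective f ⟨fun x y e => ?_, fun s => ?_⟩, hm, Nat.card_eq_fintype_card,
      Nat.card_eq_fintype_card, Fintype.card_subtype_compl, Fintype.card_subtype_eq]
    · have e' : ρ ⟨uG x.1.1, x.1.2⟩ = ρ ⟨uG y.1.1, y.1.2⟩ := congrArg (fun z => (z.1.1 : Equiv.Perm S)) e
      have := (hker (⟨uG x.1.1, x.1.2⟩ / ⟨uG y.1.1, y.1.2⟩)).1 (by rw [map_div, e', div_self'])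
      rw [div_eq_mul_inv] at this
      simp only [Subgroup.coe_mul, Subgroup.coe_inv, uG_inv, uG_mul] at this
      refine Subtype.ext (Subtype.ext ?_)
      have h0 := this.2.1
      rw [uG_01] at h0
      linear_combination h0
    · obtain ⟨⟨_, g, rfl⟩, hs1, hs2, hs3⟩ := s
      have hc := (hst g).1 hs1
      have hns : ¬ IsScalar2 g.1 := fun h => hs2 (Subtype.ext ((hker g).2 h))
      rw [hfixeq g hns] at hs3
      have htr : (g.1.1 0 0 + g.1.1 1 1) ^ 2 = 4 := by
        by_contra h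
        rw [if_neg h] at hs3
        exact absurd hs3 (by norm_num)
      have hd := det_eq g.1
      rw [hc, mul_zero, sub_zero] at hd
      have had : g.1.1 0 0 = g.1.1 1 1 := sub_eq_zero.1 (pow_eq_zero_iff two_ne_zero |>.1
        (show (g.1.1 0 0 - g.1.1 1 1) ^ 2 = 0 by linear_combination htr - 4 * hd))
      obtain ⟨x, hx, z, hz, hzx⟩ := hub g.1 g.2 hc had
      have hx0 : (⟨x, hx⟩ : X) ≠ 0 := fun e => hns (by
        have : x = 0 := congrArg Subtype.val e
        rw [hzx, this, uG_zero, mul_one]; exact hz)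
      refine ⟨⟨⟨x, hx⟩, hx0⟩, Subtype.ext (Subtype.ext (Equiv.ext fun y => Subtype.ext ?_))⟩
      show act (uG x) y.1 = act g.1 y.1
      rw [hzx, act_mul, act_scalar hz]
  -- the orbit of `∞`
  set Ω : Set L := {z | ∃ g ∈ Γ, act g ∞ = (z : OnePoint L)} with hΩdef
  have hΩX : ∀ z ∈ Ω, ∀ x ∈ X, z + algebraMap K L x ∈ Ω := by
    rintro z ⟨g, hg, hgz⟩ x hx
    exact ⟨uG x * g, mul_mem hx hg, by rw [act_mul, hgz, hact]⟩
  have hlC : lG C ∈ Γ := lG_C_mem k C
  have hinfC : algebraMap K L C⁻¹ ∈ Ω := ⟨lG C, hlC, by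
    rw [act_infty, if_neg (by simpa using hC), lG_00, map_one, lG_10, one_div, map_inv₀]⟩
  have hnΩ : n = Nat.card Ω + 1 := by
    let e : Option Ω → orbit Gb x₀ := fun o => match o with
      | Option.none => ⟨x₀, mem_orbit_self x₀⟩
      | Option.some z => ⟨⟨((z.1 : L) : OnePoint L), by
            obtain ⟨g, hg, hgz⟩ := z.2
            exact hgz ▸ hSinv g hg _ hinf⟩, by
          obtain ⟨g, hg, hgz⟩ := z.2
          exact ⟨⟨ρ ⟨g, hg⟩, ⟨_, rfl⟩⟩, Subtype.ext hgz⟩⟩
    have : Finite Ω := by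
      refine Finite.of_injective (fun z : Ω => (⟨((z.1 : L) : OnePoint L), by
        obtain ⟨g, hg, hgz⟩ := z.2
        exact hgz ▸ hSinv g hg _ hinf⟩ : S)) fun a b e => Subtype.ext ?_
      simpa using e
    rw [hn, ← Finite.card_option]
    refine (Nat.card_eq_of_bijective e ⟨?_, ?_⟩).symm
    · rintro (_ | a) (_ | b) h
      · rfl
      · have h' : (∞ : OnePoint L) = ((b.1 : L) : OnePoint L) :=
          congrArg (fun z : orbit Gb x₀ => (z.1.1 : OnePoint L)) h
        exact absurd h' (OnePoint.infty_ne_coe _)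
      · have h' : ((a.1 : L) : OnePoint L) = (∞ : OnePoint L) :=
          congrArg (fun z : orbit Gb x₀ => (z.1.1 : OnePoint L)) h
        exact absurd h' (OnePoint.coe_ne_infty _)
      · have h' : ((a.1 : L) : OnePoint L) = ((b.1 : L) : OnePoint L) :=
          congrArg (fun z : orbit Gb x₀ => (z.1.1 : OnePoint L)) h
        exact congrArg Option.some (Subtype.ext (OnePoint.coe_injective h'))
    · rintro ⟨⟨y, hy⟩, hyo⟩
      cases y with
      | infty => exact ⟨Option.none, rfl⟩
      | coe z =>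
        obtain ⟨⟨_, g, rfl⟩, hg⟩ := hyo
        exact ⟨Option.some ⟨z, g.1, g.2, congrArg Subtype.val hg⟩, rfl⟩
  have hΩfin : Ω.Finite := by
    refine (hSfin.preimage OnePoint.coe_injective.injOn).subset fun z hz => ?_
    obtain ⟨g, hg, hgz⟩ := hz
    show ((z : L) : OnePoint L) ∈ S
    exact hgz ▸ hSinv g hg _ hinf
  have : Fintype X := Fintype.ofFinite X
  set φ := (algebraMap K L).toAddMonoidHom.comp X.subtype.toAddMonoidHom with hφ
  have hdvd : m ∣ Nat.card Ω := by
    rw [Nat.card_coe_set_eq, Set.ncard_eq_toFinset_card _ hΩfin,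
      Finset.card_eq_sum_card_image (fun z : L => (QuotientAddGroup.mk z : L ⧸ φ.range))]
    refine Finset.dvd_sum fun q hq => ?_
    obtain ⟨z, hz, rfl⟩ := Finset.mem_image.1 hq
    rw [Set.Finite.mem_toFinset] at hz
    refine dvd_of_eq ?_
    rw [hm, Nat.card_eq_fintype_card, ← Finset.card_univ]
    refine Finset.card_bij (fun x _ => z + φ x) (fun x _ => ?_) (fun a _ b _ e => ?_) fun w hw => ?_
    · rw [Finset.mem_filter, Set.Finite.mem_toFinset, QuotientAddGroup.eq]
      exact ⟨hΩX z hz x.1 x.2, -x, by rw [map_neg]; abel⟩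
    · exact Subtype.ext ((algebraMap K L).injective (add_left_cancel e))
    · rw [Finset.mem_filter, QuotientAddGroup.eq] at hw
      obtain ⟨-, x, hx⟩ := hw
      exact ⟨-x, Finset.mem_univ _, by rw [map_neg, hx]; abel⟩
  have hΩne : 0 < Nat.card Ω := by
    have := hΩfin.to_subtype
    have : Nonempty Ω := ⟨⟨_, hinfC⟩⟩
    exact Nat.card_pos
  have hn1 : n % m = 1 := by
    obtain ⟨j, hj⟩ := hdvd
    rw [hnΩ, hj, Nat.add_mod, Nat.mul_mod_right, zero_add, Nat.mod_mod, Nat.mod_eq_of_lt (by omega)]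
  obtain ⟨d, hd⟩ := pole_count (G := Gb) x₀ m r n (by omega) hstab hn.symm (by omega) hfix hone hpole hcnt
  obtain ⟨hnm, h4r⟩ := pole_arith hm5 hr0 hrm (by omega) hn1 hd
  -- the orbit is `∞` and `X`
  have hΩcard : Nat.card Ω = m := by omega
  have h0 : (0 : L) ∈ Ω := by
    have hpdvd : p ∣ m := by
      rw [hm]
      have : ∃ e, Nat.card X = p ^ e := (IsPGroup.of_surjective hP0
        { toFun := fun g => Multiplicative.ofAdd (⟨(g.1.1).1 0 1, by
              obtain ⟨x, hx, hx'⟩ := g.2; rw [hx']; exact hx⟩ : X)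
          map_one' := by apply Multiplicative.toAdd.injective; exact Subtype.ext (by simp)
          map_mul' := fun a b => by
            obtain ⟨x, hx, hx'⟩ := a.2
            obtain ⟨y, hy, hy'⟩ := b.2
            apply Multiplicative.toAdd.injective
            exact Subtype.ext (by simp [hx', hy', uG_mul]) }
        (fun x => ⟨⟨⟨uG (Multiplicative.toAdd x).1, (Multiplicative.toAdd x).2⟩, _, (Multiplicative.toAdd x).2, rfl⟩,
          rfl⟩)).exists_card_eq.imp fun e he => (Nat.card_congr Multiplicative.ofAdd).trans he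
      obtain ⟨e, he⟩ := this
      rw [he]
      refine dvd_pow_self p fun h0 => ?_
      rw [h0, pow_zero] at he
      omega
    have hnp : ¬ p ∣ Nat.card (orbit Gb x₀) := by
      rw [← hn, hnm]
      intro h
      have := (Nat.dvd_add_iff_right hpdvd).2 h
      exact hpp.1.one_lt.ne' (Nat.dvd_one.1 this)
    let lc : Γ := ⟨lG C, hlC⟩
    have hlp : IsPGroup p (Subgroup.zpowers (⟨ρ lc, ⟨lc, rfl⟩⟩ : Gb)) := by
      refine IsPGroup.of_card (n := 1) ?_
      rw [pow_one, Nat.card_zpowers]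
      refine orderOf_eq_prime ?_ fun e => ?_
      · refine Subtype.ext ?_
        have hlpow : ∀ j : ℕ, lG C ^ j = lG (j • C) := by
          intro j
          induction j with
          | zero => simp [lG_zero]
          | succ j ih => rw [pow_succ, ih, lG_mul, succ_nsmul]
        rw [SubmonoidClass.coe_pow, ← map_pow]
        show ρ _ = 1
        rw [hker]
        simp [lc, IsScalar2, hlpow]
      · exact hC ((hker lc).1 (congrArg Subtype.val e)).1
    have := hΩfin.to_subtype
    obtain ⟨⟨y, hy⟩, hfy⟩ := hlp.nonempty_fixed_point_of_prime_not_dvd_card (orbit Gb x₀) hnp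
    have hl : act (lG C) y.1 = y.1 :=
      congrArg (fun z => (z.1.1 : OnePoint L)) (hfy ⟨_, Subgroup.mem_zpowers _⟩)
    obtain ⟨⟨_, g, rfl⟩, hg⟩ := hy
    have hgy : act g.1 ∞ = y.1 := congrArg Subtype.val hg
    generalize hy' : (y.1 : OnePoint L) = w at hl hgy
    cases w with
    | infty => exact absurd ((act_infty_iff _).1 hl) hC
    | coe z =>
      rw [act_coe_iff] at hl
      simp only [lG_10, lG_11, lG_00, lG_01, map_one, sub_self, zero_mul, add_zero, map_zero, sub_zero,
        mul_eq_zero, pow_eq_zero_iff two_ne_zero] at hl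
      rcases hl with h | h
      · exact absurd ((map_eq_zero _).1 h) hC
      · rw [← h]; exact ⟨g.1, g.2, hgy⟩
  have hCX : C⁻¹ ∈ X := by
    have := hΩfin.to_subtype
    let f : X → Ω := fun x => ⟨0 + algebraMap K L x.1, hΩX 0 h0 x.1 x.2⟩
    have hf : Function.Injective f := fun a b e => Subtype.ext ((algebraMap K L).injective (by
      simpa [f] using congrArg Subtype.val e))
    have hsurj := hf.bijective_of_nat_card_le (by omega)
    obtain ⟨x, hx⟩ := hsurj.2 ⟨_, hinfC⟩
    have h := congrArg Subtype.val hx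
    simp only [f, zero_add] at h
    rw [← (algebraMap K L).injective h]
    exact x.2
  -- the multipliers of `X`
  let k₀ : Subalgebra k K :=
    { carrier := {c | ∀ x ∈ X, c * x ∈ X}
      mul_mem' := fun {a b} ha hb x hx => by rw [mul_assoc]; exact ha _ (hb x hx)
      add_mem' := fun {a b} ha hb x hx => by rw [add_mul]; exact X.add_mem (ha x hx) (hb x hx)
      algebraMap_mem' := fun c x hx => by rw [← Algebra.smul_def]; exact X.smul_mem c hx }
  have hk₀X : ∀ c ∈ k₀, c ∈ X := fun c hc => by simpa using hc 1 (one_mem_upperParam C)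
  have hXk₀ : ∀ x ∈ X, x ∈ k₀ := by
    intro x hx
    by_contra hxk
    have hinj : Function.Injective (fun q : k₀ × k₀ =>
        (⟨q.1.1 + q.2.1 * x, X.add_mem (hk₀X _ q.1.2) (q.2.2 x hx)⟩ : X)) := by
      intro q q' e
      have e' : q.1.1 + q.2.1 * x = q'.1.1 + q'.2.1 * x := congrArg Subtype.val e
      by_cases hb : q.2 = q'.2
      · refine Prod.ext (Subtype.ext ?_) hb
        rw [hb] at e'
        exact add_right_cancel e'
      · exfalso
        refine hxk ?_
        have hne : q.2.1 - q'.2.1 ≠ 0 := sub_ne_zero.2 fun h => hb (Subtype.ext h)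
        have hx' : x = (q'.1.1 - q.1.1) * (q.2.1 - q'.2.1)⁻¹ := by
          field_simp
          linear_combination e'
        rw [hx']
        exact mul_mem (sub_mem q'.1.2 q.1.2)
          (Subalgebra.inv_mem_of_algebraic k₀ (x := ⟨_, sub_mem q.2.2 q'.2.2⟩)
            (Algebra.IsAlgebraic.isAlgebraic _))
    have h1 := Nat.card_le_card_of_injective _ hinj
    rw [Nat.card_prod, ← hm] at h1
    have h2' : r + 1 ≤ Nat.card k₀ := by
      have hi : Function.Injective (fun o : Option T =>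
          ((o.elim ⟨0, zero_mem k₀⟩ fun t => ⟨t.1, hTX t.1 t.2⟩ : k₀))) := by
        rintro (_ | a) (_ | b) e
        · rfl
        · exact absurd (congrArg Subtype.val e).symm (hT0 b.1 b.2)
        · exact absurd (congrArg Subtype.val e) (hT0 a.1 a.2)
        · exact congrArg Option.some (Subtype.ext (congrArg (fun z : k₀ => (z.1 : K)) e))
      have := Nat.card_le_card_of_injective _ hi
      rwa [Finite.card_option] at this
    have h3 := Nat.mul_le_mul h2' h2'
    nlinarith
  have hCk : C ∈ k₀ := by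
    have := Subalgebra.inv_mem_of_algebraic k₀ (x := ⟨_, hXk₀ _ hCX⟩) (Algebra.IsAlgebraic.isAlgebraic _)
    simpa using this
  rw [eq_top_iff]
  intro x _
  refine hk₀X x ?_
  have : Algebra.adjoin k {C} ≤ k₀ := Algebra.adjoin_le (Set.singleton_subset_iff.2 hCk)
  exact this (hgen ▸ Algebra.mem_top)

end Cfsg.Agent.Quad
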