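import Cfsg.Agent.Lib.Quad.PairField

/-!
Normalised partners: `a b a = a`, `b a b = b`.
-/

set_option autoImplicit false

namespace Cfsg.Agent.Quad

open Module Polynomial

variable {k : Type*} [Field k] {M : Type*} [AddCommGroup M] [Module k M] [FiniteDimensional k M]
variable {G : Subgroup (LinearMap.GeneralLinearGroup k M)} {a b : End k M}

/-- The two maps are partners of each other. -/
structure Nrm (a b : End k M) : Prop where
  aba : a * b * a = a
  bab : b * a * b = b

theorem exists_pairField (hk2 : ringChar k ≠ 2) (hk3 : Nat.card k ≠ 3) (ha : IsMinQ G a) (hb : IsMinQ G b)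
    (hn : ¬ IsNilpotent (a * b)) : ∃ f, PairField G a b f := by
  obtain ⟨j, f, E, S⟩ := exists_split a b
  obtain ⟨hirr, h1, h2⟩ := exists_pairField_left hk2 hk3 ha hb hn S
  have hn' : ¬ IsNilpotent (b * a) := fun h => hn ((isNilpotent_anticomm_iff ha.sq hb.sq).1 (by
    rw [add_comm]; exact (isNilpotent_anticomm_iff hb.sq ha.sq).2 h))
  obtain ⟨-, h3, h4⟩ := exists_pairField_left hk2 hk3 hb ha hn' S.symm
  rw [add_comm (b * a)] at h3
  exact ⟨f, hirr, S.monic, S.not_dvd, h1, h3, h2, fun q => by have := h4 q; rwa [add_comm (b * a)] at this⟩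

/-- A non-nilpotent pair can be normalised inside the space of the second map. -/
theorem exists_nrm (hk2 : ringChar k ≠ 2) (hk3 : Nat.card k ≠ 3) (ha : IsMinQ G a) (hb : IsMinQ G b)
    (hn : ¬ IsNilpotent (a * b)) : ∃ b' ∈ amod hb, Nrm a b' := by
  obtain ⟨f, P⟩ := exists_pairField hk2 hk3 ha hb hn
  obtain ⟨hca, hcb⟩ := commute_anticomm ha.sq hb.sq
  obtain ⟨u, v, huv⟩ := (Prime.coprime_iff_not_dvd prime_X).2 P.not_dvd
  set c := a * b + b * a with hc
  have hka : ∀ q : k[X], Commute (aeval c q) a := fun q => (commute_ev hca q).symm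
  have hkb : ∀ q : k[X], Commute (aeval c q) b := fun q => (commute_ev hcb q).symm
  have e1 : aeval c (u * X) * a = a := by
    have : u * X = 1 - v * f := by linear_combination huv
    rw [this, map_sub, map_one, sub_mul, one_mul, map_mul, mul_assoc, P.killed_left, mul_zero, sub_zero]
  have e2 : aeval c (u * X) * b = b := by
    have : u * X = 1 - v * f := by linear_combination huv
    rw [this, map_sub, map_one, sub_mul, one_mul, map_mul, mul_assoc, P.killed_right, mul_zero, sub_zero]
  have haba : a * b * a = c * a := by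
    rw [hc]; linear_combination (norm := noncomm_ring) -b * ha.sq
  have hbab : b * a * b = c * b := by
    rw [hc]; linear_combination (norm := noncomm_ring) -a * hb.sq
  refine ⟨aeval c u * b, ⟨P.qe_right u, ?_, fun m hm => ?_⟩, ?_, ?_⟩
  · rw [(hkb u).eq]; exact LinearMap.range_comp_le_range _ _
  · rw [LinearMap.mem_ker, Module.End.mul_apply, LinearMap.mem_ker.1 hm, map_zero]
  · calc a * (aeval c u * b) * a = aeval c u * (a * b * a) := by
          rw [← mul_assoc, ← (hka u).eq]; simp only [mul_assoc]
      _ = aeval c (u * X) * a := by rw [haba, map_mul, aeval_X, mul_assoc]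
      _ = a := e1
  · calc aeval c u * b * a * (aeval c u * b) = aeval c u * (aeval c u * (b * a * b)) := by
          rw [mul_assoc _ b a, mul_assoc (aeval c u), ← mul_assoc (b * a), ← ((hkb u).mul_right (hka u)).eq]
          simp only [mul_assoc]
      _ = aeval c u * (aeval c (u * X) * b) := by rw [hbab, map_mul, aeval_X, mul_assoc]
      _ = aeval c u * b := by rw [e2]

end Cfsg.Agent.Quad
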