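import Cfsg.Agent.Lib.Quad.Weight
import Cfsg.Agent.Lib.Quad.Gen

/-!
A non-nilpotent pair of minimal quadratic maps: `c = a b + b a` has a single non-zero root up to
conjugacy, is semisimple on the images, and all multiples `q(c) a` lie in the space of `a`.
-/

set_option autoImplicit false

namespace Cfsg.Agent.Quad

open Module Polynomial

variable {k : Type*} [Field k] {M : Type*} [AddCommGroup M] [Module k M]
variable {G : Subgroup (LinearMap.GeneralLinearGroup k M)}

theorem pow_mul_self_anticomm {x y : End k M} (hx : x * x = 0) (hy : y * y = 0) :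
    ∀ n : ℕ, (x * y) ^ (n + 1) = (x * y + y * x) ^ n * (x * y) ∧
      (x * y + y * x) ^ (n + 1) = (x * y) ^ (n + 1) + (y * x) ^ (n + 1) := by
  intro n
  induction n with
  | zero => simp
  | succ n ih =>
    refine ⟨?_, ?_⟩
    · have hc : Commute (x * y) ((x * y + y * x) ^ n) :=
        ((commute_anticomm hx hy).1.mul_left (commute_anticomm hx hy).2).pow_right n
      have h2 : (x * y) * (x * y) = (x * y + y * x) * (x * y) := by
        linear_combination (norm := noncomm_ring) -(y * hx * y)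
      rw [pow_succ', ih.1, ← mul_assoc, hc.eq, mul_assoc, h2, ← mul_assoc, ← pow_succ]
    · have h1 : ∀ i : ℕ, (x * y) ^ (i + 1) * (y * x) = 0 := fun i => by
        rw [pow_succ, mul_assoc, mul_assoc x y, ← mul_assoc y y x, hy, zero_mul, mul_zero, mul_zero]
      have h2 : ∀ i : ℕ, (y * x) ^ (i + 1) * (x * y) = 0 := fun i => by
        rw [pow_succ, mul_assoc, mul_assoc y x, ← mul_assoc x x y, hx, zero_mul, mul_zero, mul_zero]
      rw [pow_succ, ih.2, add_mul, mul_add, mul_add, h1, h2, ← pow_succ, ← pow_succ, add_zero, zero_add]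

theorem isNilpotent_anticomm_iff {x y : End k M} (hx : x * x = 0) (hy : y * y = 0) :
    IsNilpotent (x * y + y * x) ↔ IsNilpotent (x * y) := by
  constructor
  · rintro ⟨n, hn⟩
    exact ⟨n + 1, by rw [(pow_mul_self_anticomm hx hy n).1, hn, zero_mul]⟩
  · rintro ⟨n, hn⟩
    refine ⟨n + 2, ?_⟩
    have h1 : (x * y) ^ (n + 1) = 0 := by rw [pow_succ, hn, zero_mul]
    have h2 : (y * x) ^ (n + 2) = 0 := by
      have : ∀ i, (y * x) ^ (i + 1) = y * (x * y) ^ i * x := by
        intro i
        induction i with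
        | zero => simp
        | succ i ih => rw [pow_succ, ih, pow_succ]; simp only [mul_assoc]
      rw [this, h1, mul_zero, zero_mul]
    rw [(pow_mul_self_anticomm hx hy (n + 1)).2, h2, pow_succ, h1, zero_mul, add_zero]

/-- `c = a b + b a` is injective on the image of `a`. -/
def Full (a b : End k M) : Prop := ∀ v ∈ LinearMap.range a, (a * b + b * a) v = 0 → v = 0

variable [FiniteDimensional k M]

/-- The data of the decomposition along the invertible part of `c`. -/
structure SplitData (a b : End k M) (j : ℕ) (f E : k[X]) : Prop where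
  not_dvd : ¬ X ∣ f
  monic : f.Monic
  killed : aeval (a * b + b * a) (X ^ j * f) = 0
  minimal : ∀ q : k[X], aeval (a * b + b * a) q = 0 → f ∣ q
  bezout : ∃ u v : k[X], u * X ^ j + v * f = 1 ∧ E = u * X ^ j

theorem exists_split (a b : End k M) : ∃ j f E, SplitData a b j f E := by
  set c := a * b + b * a
  have hint : IsIntegral k c := Algebra.IsIntegral.isIntegral c
  obtain ⟨f, hf, hnd⟩ :=
    (minpoly k c).exists_eq_pow_rootMultiplicity_mul_and_not_dvd (minpoly.ne_zero hint) 0
  rw [map_zero, sub_zero] at hf hnd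
  have hcop : IsCoprime (X ^ (minpoly k c).rootMultiplicity 0 : k[X]) f :=
    ((Prime.coprime_iff_not_dvd prime_X).2 hnd).pow_left
  obtain ⟨u, v, huv⟩ := hcop
  refine ⟨_, f, _, hnd, ?_, ?_, fun q hq => ?_, u, v, huv, rfl⟩
  · exact (monic_X_pow _).of_mul_monic_left (hf ▸ minpoly.monic hint)
  · rw [← hf, minpoly.aeval]
  · exact (Dvd.intro_left _ hf.symm).trans (minpoly.dvd k c hq)

variable {a b : End k M} {j : ℕ} {f E : k[X]}

theorem SplitData.mul_eps (S : SplitData a b j f E) {q : k[X]} (h : f ∣ q) :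
    aeval (a * b + b * a) q * aeval (a * b + b * a) E = 0 := by
  obtain ⟨u, v, -, rfl⟩ := S.bezout
  obtain ⟨r, rfl⟩ := h
  rw [← map_mul, show f * r * (u * X ^ j) = r * u * (X ^ j * f) by ring, map_mul, S.killed, mul_zero]

theorem SplitData.pow_mul_one_sub (S : SplitData a b j f E) :
    aeval (a * b + b * a) (X ^ j : k[X]) * (1 - aeval (a * b + b * a) E) = 0 := by
  obtain ⟨u, v, huv, rfl⟩ := S.bezout
  rw [show (1 : End k M) = aeval (a * b + b * a) (1 : k[X]) from (map_one _).symm, ← map_sub, ← map_mul,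
    show X ^ j * (1 - u * X ^ j) = v * (X ^ j * f) by linear_combination -(X ^ j) * huv,
    map_mul, S.killed, mul_zero]

theorem SplitData.eps_idem (S : SplitData a b j f E) :
    aeval (a * b + b * a) E * aeval (a * b + b * a) E = aeval (a * b + b * a) E := by
  obtain ⟨u, v, huv, hE⟩ := S.bezout
  have h0 := S.pow_mul_one_sub
  have h1 : aeval (a * b + b * a) E * (1 - aeval (a * b + b * a) E) = 0 := by
    conv_lhs => arg 1; rw [hE, map_mul]
    rw [mul_assoc, h0, mul_zero]
  rw [mul_sub, mul_one, sub_eq_zero] at h1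
  exact h1.symm

theorem SplitData.dvd_of_killed (S : SplitData a b j f E) {q : k[X]}
    (h : aeval (a * b + b * a) q * aeval (a * b + b * a) E = 0) : f ∣ q := by
  obtain ⟨u, v, huv, rfl⟩ := S.bezout
  rw [← map_mul] at h
  have h1 : f ∣ q * (u * X ^ j) := S.minimal _ h
  have h2 : q = q * (u * X ^ j) + q * (v * f) := by linear_combination -q * huv
  rw [h2]
  exact dvd_add h1 (dvd_mul_of_dvd_right (dvd_mul_left f v) q)

theorem SplitData.coprime_X (S : SplitData a b j f E) : IsCoprime (X : k[X]) f :=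
  (Prime.coprime_iff_not_dvd prime_X).2 S.not_dvd

theorem SplitData.dvd_of_X_mul (S : SplitData a b j f E) {q : k[X]} (h : f ∣ q * X) : f ∣ q :=
  S.coprime_X.symm.dvd_of_dvd_mul_right h

/-- `f` divides what kills `a` on the invertible part. -/
theorem SplitData.dvd_of_killed_a (S : SplitData a b j f E) (haa : a * a = 0) (hbb : b * b = 0) {q : k[X]}
    (h : aeval (a * b + b * a) q * (aeval (a * b + b * a) E * a) = 0) : f ∣ q := by
  obtain ⟨-, hcb⟩ := commute_anticomm haa hbb
  refine S.dvd_of_X_mul (S.dvd_of_killed ?_)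
  rw [← mul_assoc] at h
  have hx : ∀ p : k[X], Commute b (aeval (a * b + b * a) p) := fun p => commute_ev hcb p
  calc aeval (a * b + b * a) (q * X) * aeval (a * b + b * a) E
      = aeval (a * b + b * a) q * aeval (a * b + b * a) E * (a * b + b * a) := by
        rw [← map_mul, show q * X * E = q * E * X by ring, map_mul, map_mul, aeval_X]
    _ = aeval (a * b + b * a) q * aeval (a * b + b * a) E * a * b +
          b * (aeval (a * b + b * a) q * aeval (a * b + b * a) E * a) := by
        rw [mul_add, ← mul_assoc b, ← ((hx q).mul_right (hx E)).symm.eq]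
        simp only [mul_assoc]
    _ = 0 := by rw [h, zero_mul, mul_zero, add_zero]

theorem finrank_split (ε : End k M) (a : End k M) (hid : ε * ε = ε) (hc : Commute a ε) :
    finrank k (LinearMap.range (ε * a)) + finrank k (LinearMap.range ((1 - ε) * a)) ≤
      finrank k (LinearMap.range a) := by
  have hdisj : LinearMap.range (ε * a) ⊓ LinearMap.range ((1 - ε) * a) = ⊥ := by
    rw [eq_bot_iff]
    rintro v ⟨⟨m, hm⟩, ⟨m', hm'⟩⟩
    have h1 : ε v = v := by rw [← hm, ← Module.End.mul_apply, ← mul_assoc, hid]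
    have h2 : ε v = 0 := by
      rw [← hm', ← Module.End.mul_apply, ← mul_assoc, mul_sub, mul_one, hid, sub_self, zero_mul]
      rfl
    rw [Submodule.mem_bot, ← h1, h2]
  have hle : LinearMap.range (ε * a) ⊔ LinearMap.range ((1 - ε) * a) ≤ LinearMap.range a := by
    refine sup_le ?_ ?_
    · rw [← hc.eq]; exact LinearMap.range_comp_le_range _ _
    · rw [sub_mul, one_mul, ← hc.eq]
      rintro _ ⟨m, rfl⟩
      exact sub_mem (LinearMap.mem_range_self a m) (LinearMap.mem_range_self a (ε m))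
  have h := Submodule.finrank_sup_add_finrank_inf_eq (LinearMap.range (ε * a)) (LinearMap.range ((1 - ε) * a))
  rw [hdisj, finrank_bot, add_zero] at h
  rw [← h]
  exact Submodule.finrank_mono hle

theorem finrank_lt_of_nilpotent (Q T : End k M) (hQT : Commute Q T) (hT : T ≠ 0) {n : ℕ}
    (h : Q ^ n * T = 0) : finrank k (LinearMap.range (Q * T)) < finrank k (LinearMap.range T) := by
  rw [← finrank_range_mul_add Q T]
  refine Nat.lt_add_of_pos_right (Nat.pos_of_ne_zero fun h0 => hT ?_)
  rw [Submodule.finrank_eq_zero] at h0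
  have key : ∀ i, ∀ v ∈ LinearMap.range T, (Q ^ i) v = 0 → v = 0 := by
    intro i
    induction i with
    | zero => intro v _ hv; simpa using hv
    | succ i ih =>
      intro v hv hq
      have hmem : Q v ∈ LinearMap.range T := by
        obtain ⟨m, rfl⟩ := hv
        exact ⟨Q m, (LinearMap.congr_fun hQT.eq m).symm⟩
      have h1 : Q v = 0 := ih _ hmem (by rwa [pow_succ, Module.End.mul_apply] at hq)
      have : v ∈ LinearMap.range T ⊓ LinearMap.ker Q := ⟨hv, h1⟩
      rwa [h0, Submodule.mem_bot] at this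
  exact LinearMap.ext fun m => key n _ (LinearMap.mem_range_self T m) (LinearMap.congr_fun h m)

theorem aeval_mul_comm (c : End k M) (p q : k[X]) : Commute (aeval c p) (aeval c q) := by
  rw [commute_iff_eq, ← map_mul, ← map_mul, mul_comm]

theorem dvd_of_dvd_sq {γ : Matrix.SpecialLinearGroup (Fin 2) k[X]} {f : k[X]} {u w : k[X]}
    (hu : u = γ.1 0 0 ∧ w = γ.1 1 0 ∨ u = γ.1 1 0 ∧ w = γ.1 0 0)
    (h1 : f ∣ u * u) (h2 : f ∣ γ.1 0 0 * γ.1 1 0) : f ∣ u := by
  have hd := det_eq γ
  rcases hu with ⟨rfl, rfl⟩ | ⟨rfl, rfl⟩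
  · rw [show γ.1 0 0 = γ.1 0 0 * γ.1 0 0 * γ.1 1 1 - γ.1 0 1 * (γ.1 0 0 * γ.1 1 0) by
      linear_combination -γ.1 0 0 * hd]
    exact dvd_sub (dvd_mul_of_dvd_left h1 _) (dvd_mul_of_dvd_right h2 _)
  · rw [show γ.1 1 0 = γ.1 1 1 * (γ.1 0 0 * γ.1 1 0) - γ.1 0 1 * (γ.1 1 0 * γ.1 1 0) by
      linear_combination -γ.1 1 0 * hd]
    exact dvd_sub (dvd_mul_of_dvd_right h2 _) (dvd_mul_of_dvd_right h1 _)

variable (hk : (2 : k) ≠ 0)
include hk

/-- The conjugate forms a unipotent pair with `a`: its lower entry vanishes on the invertible part. -/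
theorem SplitData.dvd_lower (S : SplitData a b j f E) (ha : IsMinQ G a) (hb : IsMinQ G b)
    (hf : ¬ f ∣ 1) {γ : Matrix.SpecialLinearGroup (Fin 2) k[X]} (hγ : γ ∈ gam k (X : k[X]))
    (hn : IsNilpotent (aeval (a * b + b * a) (γ.1 1 0 * γ.1 1 0))) : f ∣ γ.1 1 0 := by
  obtain ⟨a', C, ha', hC, e1, e2, -, -, hcq, g, hg, hgc, hconj⟩ := conj_data ha hb.qe hγ
  obtain ⟨hca, hcb⟩ := commute_anticomm ha.sq hb.sq
  set c := a * b + b * a with hc
  set Q := γ.1 0 0 * γ.1 1 0 with hQ
  have hanti : a * a' + a' * a = -aeval c (γ.1 1 0 * γ.1 1 0) := by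
    have hPc : aeval c (C * C * X * X) = aeval c (C * C * X) * (a * b) + aeval c (C * C * X) * (b * a) := by
      rw [map_mul (aeval c) (C * C * X) X, aeval_X, hc, mul_add]
    rw [e1, e2, hC, show X * C * (X * C) = C * C * X * X by ring, hPc, neg_add, neg_mul, neg_mul]
    abel
  have hnil : IsNilpotent (a * a') :=
    (isNilpotent_anticomm_iff ha.sq ha'.sq).1 (hanti ▸ hn.neg)
  obtain ⟨t1, t2⟩ := triple_eq_zero hk ha ha' hnil
  have hU : UPair a a' := ⟨t1, t2⟩
  have hka : ∀ q : k[X], Commute (aeval c q) a := fun q => (commute_ev hca q).symm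
  have hkb : ∀ q : k[X], Commute (aeval c q) b := fun q => (commute_ev hcb q).symm
  have haba : a * b * a = c * a := by
    rw [hc]; linear_combination (norm := noncomm_ring) -b * ha.sq
  have hsq : aeval c (γ.1 1 0 * γ.1 1 0) * a = 0 := by
    have : a * a' * a = 0 := t1
    rw [e1, add_mul, mul_assoc _ a a, ha.sq, mul_zero, add_zero, mul_assoc, haba, ← mul_assoc, neg_mul,
      neg_mul, neg_eq_zero] at this
    rw [hC, show X * C * (X * C) = C * C * X * X by ring, map_mul, aeval_X]
    exact this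
  have hfγ : f ∣ γ.1 1 0 * γ.1 1 0 := S.dvd_of_killed_a ha.sq hb.sq (by
    rw [← mul_assoc, (aeval_mul_comm c _ _).eq, mul_assoc, hsq, mul_zero])
  have hfP : f ∣ C * C * X := S.dvd_of_X_mul (by
    rw [show C * C * X * X = X * C * (X * C) by ring, ← hC]; exact hfγ)
  obtain ⟨ε, hε⟩ : ∃ ε, ε = aeval c E := ⟨_, rfl⟩
  have hid : ε * ε = ε := by rw [hε]; exact S.eps_idem
  have hεa : Commute a ε := by rw [hε]; exact commute_ev hca E
  set z := a * a' - a' * a with hz
  have hεz : ε * z = aeval c (2 * Q) * (ε * a) := by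
    have k1 : ε * (aeval c (C * C * X) * (a * b)) = 0 := by
      rw [← mul_assoc, hε, ← (aeval_mul_comm c _ E).eq, S.mul_eps hfP, zero_mul]
    have k2 : ε * (aeval c (C * C * X) * (b * a)) = 0 := by
      rw [← mul_assoc, hε, ← (aeval_mul_comm c _ E).eq, S.mul_eps hfP, zero_mul]
    have k3 : Commute ε (aeval c Q) := by rw [hε]; exact aeval_mul_comm c _ _
    rw [hz, e1, e2, map_mul _ (2 : k[X]), map_ofNat]
    linear_combination (norm := noncomm_ring) -k1 + k2 + 2 • (k3.eq * a)
  have hεa0 : ε * a ≠ 0 := fun h0 => hf (S.dvd_of_killed_a ha.sq hb.sq (by rw [map_one, one_mul, ← hε, h0]))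
  have hzero : z = 0 := by
    by_contra hne
    have hzq := hU.isMinQ ha ha' (sub_ne_zero.1 hne)
    have r1 : finrank k (LinearMap.range (ε * z)) < finrank k (LinearMap.range (ε * a)) := by
      rw [hεz]
      refine finrank_lt_of_nilpotent _ _ ?_ hεa0 (n := 2) ?_
      · rw [hε]; exact (aeval_mul_comm c (2 * Q) E).mul_right (hka _)
      · rw [← map_pow, ← mul_assoc, hε, S.mul_eps, zero_mul]
        rw [show (2 * Q) ^ 2 = γ.1 1 0 * γ.1 1 0 * (4 * γ.1 0 0 ^ 2) by rw [hQ]; ring]
        exact dvd_mul_of_dvd_left hfγ _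
    have r2 : finrank k (LinearMap.range ((1 - ε) * z)) ≤ finrank k (LinearMap.range ((1 - ε) * a)) := by
      have q1 : Commute (1 - ε) a := ((Commute.one_right a).sub_right hεa).symm
      have q2 : Commute (1 - ε) a' := (Commute.one_left _).sub_left (by rw [hε]; exact hcq E)
      have hid' : (1 - ε) * (1 - ε) = 1 - ε := by linear_combination (norm := noncomm_ring) hid
      have hP : ∀ x y : End k M, Commute (1 - ε) x → Commute (1 - ε) y →
          ((1 - ε) * x) * ((1 - ε) * y) = (1 - ε) * (x * y) := fun x y hx _ => by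
        rw [mul_assoc, ← mul_assoc x, ← hx.eq, ← mul_assoc, ← mul_assoc, hid', mul_assoc]
      have hU' : UPair ((1 - ε) * a) ((1 - ε) * a') := by
        refine ⟨?_, ?_⟩
        · rw [hP _ _ q1 q2, hP _ _ (q1.mul_right q2) q1, t1, mul_zero]
        · rw [hP _ _ q2 q1, hP _ _ (q2.mul_right q1) q2, t2, mul_zero]
      have := hU'.rank_le
      rw [hP _ _ q1 q2, hP _ _ q2 q1, ← mul_sub] at this
      refine this.trans (le_of_eq ?_)
      rw [hconj, ← mul_assoc, ← mul_assoc, ((Commute.one_left _).sub_left (by rw [hε]; exact hgc E) :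
        Commute (1 - ε) (g : End k M)).eq, mul_assoc (g : End k M) (1 - ε) a]
      exact finrank_range_conj g _
    have r3 := finrank_split ε a hid hεa
    have r4 : finrank k (LinearMap.range z) ≤
        finrank k (LinearMap.range (ε * z)) + finrank k (LinearMap.range ((1 - ε) * z)) := by
      refine le_trans (Submodule.finrank_mono ?_) (Submodule.finrank_add_le_finrank_add_finrank _ _)
      rintro _ ⟨m, rfl⟩
      rw [show z m = (ε * z) m + ((1 - ε) * z) m by
        rw [← LinearMap.add_apply, ← add_mul, add_sub_cancel, one_mul]]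
      exact Submodule.add_mem_sup (LinearMap.mem_range_self _ m) (LinearMap.mem_range_self _ m)
    have r5 : finrank k (LinearMap.range z) = finrank k (LinearMap.range a) := hzq.rank_eq ha
    omega
  rw [hzero, mul_zero] at hεz
  have h2 : f ∣ 2 * Q := S.dvd_of_killed_a ha.sq hb.sq (by rw [← hε]; exact hεz.symm)
  have h2u : IsUnit (2 : k[X]) := by
    rw [show (2 : k[X]) = Polynomial.C 2 from (map_ofNat _ 2).symm]
    exact isUnit_C.2 hk.isUnit
  rw [IsUnit.dvd_mul_left h2u] at h2
  exact dvd_of_dvd_sq (Or.inr ⟨rfl, rfl⟩) hfγ h2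

theorem SplitData.not_dvd_one (S : SplitData a b j f E) (ha : IsMinQ G a) (hb : IsMinQ G b)
    (hn : ¬ IsNilpotent (a * b)) : ¬ f ∣ 1 := fun h => hn ((isNilpotent_anticomm_iff ha.sq hb.sq).1
  ⟨j, by
    obtain ⟨r, hr⟩ := h
    rw [← aeval_X (R := k) (a * b + b * a), ← map_pow,
      show (X ^ j : k[X]) = X ^ j * f * r by rw [mul_assoc, ← hr, mul_one], map_mul, S.killed, zero_mul]⟩)

variable (hk2 : ringChar k ≠ 2) (hk3 : Nat.card k ≠ 3)
include hk2 hk3

omit [FiniteDimensional k M] in
/-- Every element of `SL₂` over a residue field lifts to the group. -/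
theorem exists_lift {f1 : k[X]} (hirr : Irreducible f1) (hX : ¬ X ∣ f1) [Fact (Irreducible f1)]
    (g : Matrix.SpecialLinearGroup (Fin 2) (AdjoinRoot f1)) :
    ∃ γ ∈ gam k (X : k[X]), Matrix.SpecialLinearGroup.map (AdjoinRoot.mk f1) γ = g := by
  have h0 : AdjoinRoot.root f1 ≠ 0 := by
    rw [← AdjoinRoot.mk_X, Ne, AdjoinRoot.mk_eq_zero]
    exact fun h => hX (hirr.associated_of_dvd irreducible_X h).symm.dvd
  have htop := gam_top (K := AdjoinRoot f1) hk2 hk3 h0
    ((AdjoinRoot.isAlgebraic_root hirr.ne_zero).isIntegral) AdjoinRoot.adjoinRoot_eq_top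
  have h1 := map_gam k (AdjoinRoot.mkₐ f1) (X : k[X])
  rw [show (AdjoinRoot.mkₐ f1).toRingHom = AdjoinRoot.mk f1 from rfl] at h1
  rw [show (AdjoinRoot.mkₐ f1) X = AdjoinRoot.root f1 from AdjoinRoot.mk_X, htop] at h1
  have : g ∈ (gam k (X : k[X])).map (Matrix.SpecialLinearGroup.map (AdjoinRoot.mk f1)) := h1 ▸ Subgroup.mem_top g
  obtain ⟨γ, hγ, he⟩ := this
  exact ⟨γ, hγ, he⟩

omit hk [FiniteDimensional k M] in
theorem exists_sq_ne_one : ∃ t : k, t ≠ 0 ∧ t ^ 2 ≠ 1 := by
  classical
  by_contra hc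
  push Not at hc
  have hsub : ∀ t : k, t ∈ ({0, 1, -1} : Finset k) := fun t => by
    by_cases h : t = 0
    · simp [h]
    · rcases sq_eq_one_iff.1 (hc t h) with h | h <;> simp [h]
  have : Fintype k := ⟨{0, 1, -1}, hsub⟩
  have h1 : Nat.card k ≤ 3 := by
    rw [Nat.card_eq_fintype_card, ← Finset.card_univ]
    exact (Finset.card_le_card fun t _ => hsub t).trans Finset.card_le_three
  have := five_le_card hk2 hk3
  omega

/-- `c` is injective on the image of `a`. -/
theorem full_of_not_nilpotent (ha : IsMinQ G a) (hb : IsMinQ G b) (hn : ¬ IsNilpotent (a * b)) :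
    Full a b := by
  set N := finrank k M with hN
  induction hr : finrank k (LinearMap.range ((a * b + b * a) ^ N)) using Nat.strong_induction_on
    generalizing a b with
  | _ r ih =>
  obtain ⟨j, f, E, S⟩ := exists_split a b
  have hf1 := S.not_dvd_one hk ha hb hn
  obtain ⟨f1, hirr, hdvd⟩ := WfDvdMonoid.exists_irreducible_factor
    (fun hu => hf1 (isUnit_iff_dvd_one.1 hu)) S.monic.ne_zero
  have hX1 : ¬ X ∣ f1 := fun h => S.not_dvd (h.trans hdvd)
  have : Fact (Irreducible f1) := ⟨hirr⟩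
  obtain ⟨hca, hcb⟩ := commute_anticomm ha.sq hb.sq
  have hmeq : ∀ q : k[X], Commute (aeval (a * b + b * a) q) a := fun q => (commute_ev hca q).symm
  obtain ⟨t, ht0, ht1⟩ := exists_sq_ne_one hk2 hk3
  obtain ⟨γ, hγ, hγt⟩ := exists_lift hk hk2 hk3 hirr hX1
    ⟨!![algebraMap k (AdjoinRoot f1) t, 0; 0, algebraMap k (AdjoinRoot f1) t⁻¹],
      by rw [Matrix.det_fin_two_of, mul_zero, sub_zero, ← map_mul, mul_inv_cancel₀ ht0, map_one]⟩
  have hres10 : f1 ∣ γ.1 1 0 := AdjoinRoot.mk_eq_zero.1
    (congrArg (fun g : Matrix.SpecialLinearGroup (Fin 2) (AdjoinRoot f1) => g.1 1 0) hγt)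
  have hres00 : AdjoinRoot.mk f1 (γ.1 0 0) = algebraMap k (AdjoinRoot f1) t :=
    congrArg (fun g : Matrix.SpecialLinearGroup (Fin 2) (AdjoinRoot f1) => g.1 0 0) hγt
  by_cases hnil : IsNilpotent (aeval (a * b + b * a) (γ.1 1 0 * γ.1 1 0))
  swap
  · -- the new pair has smaller support
    exfalso
    obtain ⟨a', C, ha', hC, e1, e2, -, -, hcq, g, hg, hgc, hconj⟩ := conj_data ha hb.qe hγ
    obtain ⟨c, hc⟩ : ∃ c, c = a * b + b * a := ⟨_, rfl⟩
    rw [← hc] at e1 e2 hcq hgc hnil hr
    have hanti : a * a' + a' * a = -aeval c (γ.1 1 0 * γ.1 1 0) := by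
      have hPc : aeval c (C * C * X * X) = aeval c (C * C * X) * (a * b) + aeval c (C * C * X) * (b * a) := by
        rw [map_mul (aeval c) (C * C * X) X, aeval_X, hc, mul_add]
      rw [e1, e2, hC, show X * C * (X * C) = C * C * X * X by ring, hPc, neg_add, neg_mul, neg_mul]
      abel
    have hn' : ¬ IsNilpotent (a * a') := fun h => hnil (by
      have h2 := (isNilpotent_anticomm_iff ha.sq ha'.sq).2 h
      rw [hanti] at h2
      simpa using h2.neg)
    -- a non-zero vector of `range a` killed by `f1`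
    obtain ⟨q', hq'⟩ := hdvd
    have hw : ∃ m, aeval c (X ^ j * q') m ≠ 0 := by
      by_contra hcon
      push Not at hcon
      have h1 : f1 * q' ∣ q' := by
        rw [← hq']
        refine (S.coprime_X.pow_left (m := j)).symm.dvd_of_dvd_mul_left ?_
        exact S.minimal _ (hc ▸ LinearMap.ext fun m => hcon m)
      have hq0 : q' ≠ 0 := fun e => S.monic.ne_zero (by rw [hq', e, mul_zero])
      exact hirr.not_isUnit (isUnit_of_mul_isUnit_left (x := f1) (y := 1) (by
        rw [mul_one]; exact isUnit_of_dvd_one ((mul_dvd_mul_iff_right hq0).1 (by rwa [one_mul]))))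
    obtain ⟨m, hm⟩ := hw
    set w := aeval c (X ^ j * q') m with hwdef
    have hw1 : aeval c f1 w = 0 := by
      rw [hwdef, ← Module.End.mul_apply, ← map_mul, show f1 * (X ^ j * q') = X ^ j * f by rw [hq']; ring, hc,
        S.killed]
      rfl
    obtain ⟨u, v, huv⟩ := ((Prime.coprime_iff_not_dvd prime_X).2 hX1).pow_left (m := N + 1)
    have hwu : w = aeval c (X ^ (N + 1) * u) w := by
      have h := LinearMap.congr_fun (congrArg (aeval c) huv) w
      rw [map_one, Module.End.one_apply, map_add, LinearMap.add_apply, map_mul _ v f1,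
        Module.End.mul_apply, hw1, map_zero, add_zero, mul_comm] at h
      exact h.symm
    -- strict decrease
    have hlt : finrank k (LinearMap.range ((a * a' + a' * a) ^ N)) < r := by
      rw [hanti, neg_pow, ← map_pow, hC]
      rw [show (X * C * (X * C)) ^ N = C ^ N * C ^ N * X ^ N * X ^ N by ring, map_mul _ _ (X ^ N),
        map_pow _ X, aeval_X, ← mul_assoc]
      have key : finrank k (LinearMap.range (aeval c (C ^ N * C ^ N * X ^ N) * c ^ N)) < r := by
        rw [← hr, ← finrank_range_mul_add (aeval c (C ^ N * C ^ N * X ^ N)) (c ^ N)]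
        refine Nat.lt_add_of_pos_right (Nat.pos_of_ne_zero fun h0 => ?_)
        rw [Submodule.finrank_eq_zero] at h0
        have hwN : w ∈ LinearMap.range (c ^ N) := ⟨aeval c (X * u) w, by
          conv_rhs => rw [hwu]
          rw [← Module.End.mul_apply, show c ^ N = aeval c (X ^ N : k[X]) by rw [map_pow, aeval_X], ← map_mul]
          congr 2
          ring⟩
        have hN1 : 1 ≤ N := by
          rw [hN, Nat.one_le_iff_ne_zero]
          intro h
          have : Subsingleton M := Module.finrank_zero_iff.1 h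
          exact ha.ne_zero (LinearMap.ext fun m => Subsingleton.elim _ _)
        have hwk : w ∈ LinearMap.ker (aeval c (C ^ N * C ^ N * X ^ N)) := by
          have h1 : f1 ∣ C := (hirr.prime.dvd_or_dvd (hC ▸ hres10)).resolve_left fun h =>
            hX1 (hirr.associated_of_dvd irreducible_X h).symm.dvd
          obtain ⟨s, hs⟩ : f1 ∣ C ^ N * C ^ N * X ^ N :=
            dvd_mul_of_dvd_left (dvd_mul_of_dvd_left (dvd_pow h1 (by omega)) _) _
          rw [LinearMap.mem_ker, hs, mul_comm, map_mul, Module.End.mul_apply, hw1, map_zero]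
        have : w ∈ LinearMap.range (c ^ N) ⊓ LinearMap.ker (aeval c (C ^ N * C ^ N * X ^ N)) := ⟨hwN, hwk⟩
        rw [h0, Submodule.mem_bot] at this
        exact hm this
      refine lt_of_le_of_lt (le_of_eq ?_) key
      rcases neg_one_pow_eq_or (End k M) N with h | h <;> rw [h]
      · rw [one_mul]
      · rw [neg_one_mul, neg_mul, LinearMap.range_neg]
    have hfull := ih _ hlt (a := a) (b := a') ha ha' hn' rfl
    have hkill : ∀ v ∈ LinearMap.range a, aeval c f1 v = 0 → v = 0 := by
      intro v hv hv0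
      refine hfull v hv ?_
      rw [hanti, LinearMap.neg_apply, neg_eq_zero]
      obtain ⟨s, hs⟩ := dvd_mul_of_dvd_left hres10 (γ.1 1 0)
      rw [hs, mul_comm, map_mul, Module.End.mul_apply, hv0, map_zero]
    have hf1a : ∀ x : M, aeval c f1 (a x) = a (aeval c f1 x) := fun x =>
      LinearMap.congr_fun (hc ▸ hmeq f1).eq x
    have haw : a w = 0 := hkill _ (LinearMap.mem_range_self a w) (by rw [hf1a, hw1, map_zero])
    have habw : a (b w) = 0 := hkill _ (LinearMap.mem_range_self a (b w)) (by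
      rw [hf1a, ← Module.End.mul_apply (aeval c f1) b, (hc ▸ (commute_ev hcb f1).symm :
        Commute (aeval c f1) b).eq, Module.End.mul_apply, hw1, map_zero, map_zero])
    have hcw : c w = 0 := by
      rw [hc, LinearMap.add_apply, Module.End.mul_apply, Module.End.mul_apply, habw, haw, map_zero, add_zero]
    refine hm ?_
    rw [hwu, mul_comm, map_mul, Module.End.mul_apply, map_pow, aeval_X, pow_succ, Module.End.mul_apply,
      hcw, map_zero, map_zero]
  -- the upper triangular element: `1 + k x ⊆ G` for `x` supported on the invertible part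
  have hf10 := S.dvd_lower hk ha hb hf1 hγ hnil
  obtain ⟨c, hc⟩ : ∃ c, c = a * b + b * a := ⟨_, rfl⟩
  obtain ⟨ε, hε⟩ : ∃ ε, ε = aeval c E := ⟨_, rfl⟩
  have hεa : Commute a ε := by rw [hε, hc]; exact commute_ev hca E
  have hεb : Commute b ε := by rw [hε, hc]; exact commute_ev hcb E
  let φ : k[X] →+* AdjoinRoot f := AdjoinRoot.mk f
  let Φ := Matrix.SpecialLinearGroup.map (n := Fin 2) φ
  have hup : (Φ γ).1 1 0 = 0 := AdjoinRoot.mk_eq_zero.2 hf10
  set u := φ (γ.1 0 0) ^ 2 - 1 with hu
  have hiter : ∀ (s : k) (m : ℕ), ∃ δ ∈ gam k (X : k[X]), Φ δ = uG (u ^ m * φ (Polynomial.C s)) ∧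
      ∃ (h : LinearMap.GeneralLinearGroup k M) (A C D : k[X]), h ∈ G ∧
        δ.1 0 0 = 1 + X * A ∧ δ.1 1 0 = X * C ∧ δ.1 1 1 = 1 + X * D ∧
        (h : End k M) = theta a b A (δ.1 0 1) C D ∧
        Wgt a b (m + 1) ((h : End k M) - 1) ∧
        Wgt a b 1 (((h⁻¹ : LinearMap.GeneralLinearGroup k M) : End k M) - 1) := by
    intro s m
    have hinv : ∀ δ ∈ gam k (X : k[X]), ∀ (h : LinearMap.GeneralLinearGroup k M) (A C D : k[X]),
        δ.1 0 0 = 1 + X * A → δ.1 1 0 = X * C → δ.1 1 1 = 1 + X * D →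
        (h : End k M) = theta a b A (δ.1 0 1) C D →
        Wgt a b 1 (((h⁻¹ : LinearMap.GeneralLinearGroup k M) : End k M) - 1) := by
      intro δ _ h A C D d1 d2 d3 hh
      have hd := det_eq δ
      rw [d1, d2, d3] at hd
      have e : theta a b D (-δ.1 0 1) (-C) A * theta a b A (δ.1 0 1) C D = 1 := by
        rw [theta_mul ha.sq hb.sq]
        have z1 : D + A + X * D * A + -δ.1 0 1 * C = 0 :=
          mul_left_cancel₀ (X_ne_zero (R := k)) (by linear_combination hd)
        have z2 : (1 + X * D) * δ.1 0 1 + -δ.1 0 1 * (1 + X * D) = 0 := by ring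
        have z3 : -C * (1 + X * A) + (1 + X * A) * C = 0 := by ring
        have z4 : A + D + X * A * D + -C * δ.1 0 1 = 0 :=
          mul_left_cancel₀ (X_ne_zero (R := k)) (by linear_combination hd)
        rw [z1, z2, z3, z4, theta_zero]
      have h2 : ((h⁻¹ : LinearMap.GeneralLinearGroup k M) : End k M) = theta a b D (-δ.1 0 1) (-C) A := by
        calc ((h⁻¹ : LinearMap.GeneralLinearGroup k M) : End k M)
            = theta a b D (-δ.1 0 1) (-C) A * theta a b A (δ.1 0 1) C D *
              ((h⁻¹ : LinearMap.GeneralLinearGroup k M) : End k M) := by rw [e, one_mul]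
          _ = _ := by rw [← hh, mul_assoc, Units.mul_inv, mul_one]
      rw [h2]; exact wgt_one _ _ _ _
    induction m with
    | zero =>
      obtain ⟨A, C, D, d1, d2, d3, h, hG, hh⟩ := rep_of_mem ha.qe hb.qe (uG_mem_gam k (X : k[X]) s)
      refine ⟨_, uG_mem_gam k _ s, ?_, h, A, C, D, hG, d1, d2, d3, hh, by rw [hh]; exact wgt_one _ _ _ _,
        hinv _ (uG_mem_gam k _ s) h A C D d1 d2 d3 hh⟩
      rw [pow_zero, one_mul]
      exact map_uG φ _
    | succ m ihm =>
      obtain ⟨δ, hδ, hΦ, h, A, C, D, hG, d1, d2, d3, hh, hw, hw'⟩ := ihm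
      obtain ⟨A0, C0, D0, g1, g2, g3, g, hgG, hg'⟩ := rep_of_mem ha.qe hb.qe hγ
      have hmem : γ * δ * γ⁻¹ * δ⁻¹ ∈ gam k (X : k[X]) :=
        mul_mem (mul_mem (mul_mem hγ hδ) (inv_mem hγ)) (inv_mem hδ)
      refine ⟨_, hmem, ?_, ?_⟩
      · rw [map_mul, map_mul, map_mul, map_inv, map_inv, hΦ, conj_uG hup, uG_inv, uG_mul, pow_succ,
          hu]
        congr 1
        show φ (γ.1 0 0) ^ 2 * _ + _ = _
        ring
      · obtain ⟨A', C', D', k1, k2, k3, -⟩ := rep_of_mem ha.qe hb.qe hmem
        have hval : ((g * h * g⁻¹ * h⁻¹ : LinearMap.GeneralLinearGroup k M) : End k M) =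
            theta a b A' ((γ * δ * γ⁻¹ * δ⁻¹).1 0 1) C' D' := by
          obtain ⟨F, hF⟩ : ∃ F : Matrix.SpecialLinearGroup (Fin 2) k[X] → End k M → Prop,
              F = fun δ x => ∀ A C D : k[X], δ.1 0 0 = 1 + X * A → δ.1 1 0 = X * C → δ.1 1 1 = 1 + X * D →
                x = theta a b A (δ.1 0 1) C D := ⟨_, rfl⟩
          have hex : ∀ δ x A C D, δ.1 0 0 = 1 + X * A → δ.1 1 0 = X * C → δ.1 1 1 = 1 + X * D →
              x = theta a b A (δ.1 0 1) C D → F δ x := by
            intro δ x A C D x1 x2 x3 hx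
            rw [hF]
            intro A' C' D' y1 y2 y3
            have hA : A' = A := mul_left_cancel₀ (X_ne_zero (R := k)) (by linear_combination x1 - y1)
            have hC : C' = C := mul_left_cancel₀ (X_ne_zero (R := k)) (by linear_combination x2 - y2)
            have hD : D' = D := mul_left_cancel₀ (X_ne_zero (R := k)) (by linear_combination x3 - y3)
            rw [hA, hC, hD]; exact hx
          have hmul : ∀ δ δ' x y, δ ∈ gam k (X : k[X]) → δ' ∈ gam k (X : k[X]) → F δ x → F δ' y →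
              F (δ * δ') (x * y) := by
            intro δ δ' x y m1 m2 f1 f2
            obtain ⟨A, C, D, x1, x2, x3, -⟩ := rep_of_mem ha.qe hb.qe m1
            obtain ⟨A', C', D', y1, y2, y3, -⟩ := rep_of_mem ha.qe hb.qe m2
            rw [hF] at f1 f2
            refine hex _ _ (A + A' + X * A * A' + δ.1 0 1 * C') (C * (1 + X * A') + (1 + X * D) * C')
              (D + D' + X * D * D' + C * δ'.1 0 1) ?_ ?_ ?_ ?_
            · rw [sl_mul_apply, x1, y1, y2]; ring
            · rw [sl_mul_apply, x2, y1, x3, y2]; ring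
            · rw [sl_mul_apply, x2, x3, y3]; ring
            · rw [f1 A C D x1 x2 x3, f2 A' C' D' y1 y2 y3, theta_mul ha.sq hb.sq, sl_mul_apply, x1, y3]
          have hinv' : ∀ δ (x : LinearMap.GeneralLinearGroup k M), δ ∈ gam k (X : k[X]) → F δ x →
              F δ⁻¹ ((x⁻¹ : LinearMap.GeneralLinearGroup k M) : End k M) := by
            intro δ x m1 f1
            obtain ⟨A, C, D, x1, x2, x3, -⟩ := rep_of_mem ha.qe hb.qe m1
            obtain ⟨A', C', D', y1, y2, y3, z, -, hz⟩ := rep_of_mem ha.qe hb.qe (inv_mem m1)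
            have f2 := hex _ _ A' C' D' y1 y2 y3 hz
            have h12 := hmul _ _ _ _ (inv_mem m1) m1 f2 f1
            rw [inv_mul_cancel, hF] at h12
            have h1 := h12 0 0 0 (by simp) (by simp) (by simp)
            rw [Matrix.SpecialLinearGroup.coe_one, Matrix.one_apply_ne (by decide), theta_zero] at h1
            have : x⁻¹ = z := inv_eq_of_mul_eq_one_left (Units.ext (by rw [Units.val_mul, h1, Units.val_one]))
            rw [this]; exact f2
          have hFg : F γ g := hex _ _ A0 C0 D0 g1 g2 g3 hg'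
          have hFh : F δ h := hex _ _ A C D d1 d2 d3 hh
          have := hmul _ _ _ _ (mul_mem (mul_mem hγ hδ) (inv_mem hγ)) (inv_mem hδ)
            (hmul _ _ _ _ (mul_mem hγ hδ) (inv_mem hγ) (hmul _ _ _ _ hγ hδ hFg hFh) (hinv' _ _ hγ hFg))
            (hinv' _ _ hδ hFh)
          rw [hF] at this
          simpa only [Units.val_mul] using this A' C' D' k1 k2 k3
        refine ⟨g * h * g⁻¹ * h⁻¹, A', C', D', G.mul_mem (G.mul_mem (G.mul_mem hgG hG) (G.inv_mem hgG))
          (G.inv_mem hG), k1, k2, k3, hval, ?_, hinv _ hmem _ A' C' D' k1 k2 k3 hval⟩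
        exact Wgt.commutator ha.sq hb.sq (by omega) (by rw [hg']; exact wgt_one _ _ _ _)
          (hinv γ hγ g A0 C0 D0 g1 g2 g3 hg') hw hw'
  set x := aeval c ((γ.1 0 0 ^ 2 - 1) ^ (2 * j + 1)) * (ε * a) with hx
  have hxq : Qe G x := by
    have hcc : ∀ p : k[X], Commute (aeval c p) (ε * a) := fun p => by
      rw [hε, hc]; exact (aeval_mul_comm _ p E).mul_right (hmeq p)
    refine ⟨?_, fun s => ?_⟩
    · rw [hx, mul_assoc, ← mul_assoc (ε * a), ← (hcc _).eq, mul_assoc, show ε * a * (ε * a) = 0 by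
        rw [mul_assoc, ← mul_assoc a, hεa.eq, mul_assoc ε a a, ha.sq, mul_zero, mul_zero], mul_zero, mul_zero]
    obtain ⟨δ, -, hΦ, h, A, C, D, hG, d1, d2, d3, hh, hw, -⟩ := hiter s (2 * j + 1)
    refine ⟨h, hG, ?_⟩
    set B := δ.1 0 1 with hB
    have k00 : φ (1 + X * A) = 1 := by
      rw [← d1]; exact congrArg (fun g : Matrix.SpecialLinearGroup (Fin 2) (AdjoinRoot f) => g.1 0 0) hΦ
    have k10 : φ (X * C) = 0 := by
      rw [← d2]; exact congrArg (fun g : Matrix.SpecialLinearGroup (Fin 2) (AdjoinRoot f) => g.1 1 0) hΦ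
    have k11 : φ (1 + X * D) = 1 := by
      rw [← d3]; exact congrArg (fun g : Matrix.SpecialLinearGroup (Fin 2) (AdjoinRoot f) => g.1 1 1) hΦ
    have k01 : φ B = u ^ (2 * j + 1) * φ (Polynomial.C s) :=
      congrArg (fun g : Matrix.SpecialLinearGroup (Fin 2) (AdjoinRoot f) => g.1 0 1) hΦ
    rw [map_add, map_one, add_eq_left] at k00 k11
    have dX : ∀ P : k[X], φ (X * P) = 0 → f ∣ P := fun P h => S.dvd_of_X_mul (by
      rw [mul_comm]; exact AdjoinRoot.mk_eq_zero.1 h)
    have hBf : f ∣ B - (γ.1 0 0 ^ 2 - 1) ^ (2 * j + 1) * Polynomial.C s := by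
      refine AdjoinRoot.mk_eq_zero.1 ?_
      show φ _ = 0
      rw [map_sub, map_mul, map_pow, map_sub, map_pow, map_one, k01, ← hu, sub_self]
    have keps : ∀ P : k[X], f ∣ P → ε * aeval c P = 0 := fun P hP => by
      rw [hε, hc, (aeval_mul_comm _ E P).eq, S.mul_eps hP]
    have h1ε : ((h : End k M) - 1) * (1 - ε) = 0 :=
      hw.mul_eq_zero (j := j) (by omega) (by rw [hε, hc]; exact S.pow_mul_one_sub)
        ((Commute.one_right a).sub_right hεa) ((Commute.one_right b).sub_right hεb)
    have hεh : ε * ((h : End k M) - 1) = s • x := by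
      rw [hh, theta, ← hc, add_sub_cancel_left, mul_add, mul_add, mul_add, ← mul_assoc ε (aeval c A),
        keps A (dX A k00), ← mul_assoc ε (aeval c C), keps C (dX C k10), ← mul_assoc ε (aeval c D),
        keps D (dX D k11), zero_mul, zero_mul, zero_mul, zero_add, add_zero, add_zero]
      have h2 := keps _ hBf
      rw [map_sub, mul_sub, sub_eq_zero] at h2
      rw [← mul_assoc, h2, map_mul, aeval_C, Algebra.algebraMap_eq_smul_one, mul_smul_comm, mul_one,
        mul_smul_comm, smul_mul_assoc, hx, ← mul_assoc,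
        (hε ▸ aeval_mul_comm c E _ : Commute ε (aeval c ((γ.1 0 0 ^ 2 - 1) ^ (2 * j + 1)))).eq]
    have hcomm : Commute ε ((h : End k M) - 1) := by
      rw [hh, theta, ← hc, add_sub_cancel_left, hε]
      have k1 : ∀ p, Commute (aeval c E) (aeval c p) := fun p => aeval_mul_comm c E p
      have ka : Commute (aeval c E) a := hc ▸ hmeq E
      have kb : Commute (aeval c E) b := by rw [hc]; exact (commute_ev hcb E).symm
      exact ((((k1 A).mul_right (ka.mul_right kb)).add_right ((k1 _).mul_right ka)).add_right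
        ((k1 C).mul_right kb)).add_right ((k1 D).mul_right (kb.mul_right ka))
    calc (h : End k M) = 1 + (((h : End k M) - 1) * (1 - ε) + ((h : End k M) - 1) * ε) := by noncomm_ring
      _ = 1 + s • x := by rw [h1ε, ← hcomm.eq, hεh, zero_add]
  have hx0 : x ≠ 0 := by
    intro h0
    have h1 : f ∣ (γ.1 0 0 ^ 2 - 1) ^ (2 * j + 1) := S.dvd_of_killed_a ha.sq hb.sq (by
      rw [← hc, ← hε]; exact h0)
    have h2 : f1 ∣ γ.1 0 0 ^ 2 - 1 := hirr.prime.dvd_of_dvd_pow (hdvd.trans h1)
    have h3 := AdjoinRoot.mk_eq_zero.2 h2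
    rw [map_sub, map_pow, map_one, hres00, ← map_pow, ← map_one (algebraMap k (AdjoinRoot f1)), ← map_sub,
      _root_.map_eq_zero] at h3
    exact ht1 (sub_eq_zero.1 h3)
  have hid : ε * ε = ε := by rw [hε, hc]; exact S.eps_idem
  have hle := ha.le x hxq hx0
  have hle2 : finrank k (LinearMap.range x) ≤ finrank k (LinearMap.range (ε * a)) := by
    rw [hx, show LinearMap.range (aeval c ((γ.1 0 0 ^ 2 - 1) ^ (2 * j + 1)) * (ε * a)) =
      (LinearMap.range (ε * a)).map (aeval c ((γ.1 0 0 ^ 2 - 1) ^ (2 * j + 1))) from LinearMap.range_comp _ _]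
    exact Submodule.finrank_map_le _ _
  have hsplit := finrank_split ε a hid hεa
  have hzero : (1 - ε) * a = 0 := LinearMap.range_eq_bot.1 (Submodule.finrank_eq_zero.1 (by omega))
  intro v hv hcv
  rw [← hc] at hcv
  have hεv : ε v = v := by
    obtain ⟨m, rfl⟩ := hv
    have := LinearMap.congr_fun hzero m
    rw [Module.End.mul_apply, LinearMap.sub_apply, Module.End.one_apply, LinearMap.zero_apply,
      sub_eq_zero] at this
    exact this.symm
  have hfv : aeval c f v = 0 := by
    rw [← hεv, ← Module.End.mul_apply, hε, hc, S.mul_eps dvd_rfl]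
    rfl
  obtain ⟨g, hg⟩ : X ∣ f - Polynomial.C (f.coeff 0) := by rw [X_dvd_iff]; simp
  rw [show f = g * X + Polynomial.C (f.coeff 0) by linear_combination hg, map_add, map_mul, aeval_X,
    aeval_C, LinearMap.add_apply, Module.End.mul_apply, hcv, map_zero, zero_add,
    Module.algebraMap_end_apply, smul_eq_zero] at hfv
  exact hfv.resolve_left fun h => S.not_dvd (X_dvd_iff.2 h)

end Cfsg.Agent.Quad
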