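import Cfsg.Agent.Lib.Quad.Pair

/-!
For a non-nilpotent pair, `c = a b + b a` satisfies an irreducible equation on the images and every
`q(c) a` acts like `a`.
-/

set_option autoImplicit false

namespace Cfsg.Agent.Quad

open Module Polynomial

variable {k : Type*} [Field k] {M : Type*} [AddCommGroup M] [Module k M] [FiniteDimensional k M]
variable {G : Subgroup (LinearMap.GeneralLinearGroup k M)}

/-- The properties of a non-nilpotent pair. -/
structure PairField (G : Subgroup (LinearMap.GeneralLinearGroup k M)) (a b : End k M) (f : k[X]) : Prop where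
  irreducible : Irreducible f
  monic : f.Monic
  not_dvd : ¬ X ∣ f
  killed_left : aeval (a * b + b * a) f * a = 0
  killed_right : aeval (a * b + b * a) f * b = 0
  qe_left : ∀ q : k[X], Qe G (aeval (a * b + b * a) q * a)
  qe_right : ∀ q : k[X], Qe G (aeval (a * b + b * a) q * b)

variable {a b : End k M} {j : ℕ} {f E : k[X]}

theorem SplitData.symm (S : SplitData a b j f E) : SplitData b a j f E :=
  ⟨S.not_dvd, S.monic, by rw [add_comm]; exact S.killed,
    fun q h => S.minimal q (by rwa [add_comm] at h), S.bezout⟩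

theorem SplitData.killed_of_full (S : SplitData a b j f E) (haa : a * a = 0) (hbb : b * b = 0)
    (h : Full a b) : aeval (a * b + b * a) f * a = 0 ∧ aeval (a * b + b * a) E * a = a := by
  obtain ⟨hca, -⟩ := commute_anticomm haa hbb
  have hinj : ∀ i, ∀ v ∈ LinearMap.range a, ((a * b + b * a) ^ i) v = 0 → v = 0 := by
    intro i
    induction i with
    | zero => intro v _ hv; simpa using hv
    | succ i ih =>
      intro v hv hq
      rw [pow_succ, Module.End.mul_apply] at hq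
      refine h v hv (ih _ ?_ hq)
      obtain ⟨m, rfl⟩ := hv
      exact ⟨(a * b + b * a) m, LinearMap.congr_fun hca.eq m⟩
  have hE : (1 - aeval (a * b + b * a) E) * a = 0 := LinearMap.ext fun m => by
    refine hinj j _ ?_ ?_
    · have he : Commute a (1 - aeval (a * b + b * a) E) :=
        (Commute.one_right a).sub_right (commute_ev hca E)
      exact ⟨(1 - aeval (a * b + b * a) E) m, LinearMap.congr_fun he.eq m⟩
    · have := LinearMap.congr_fun (congrArg (· * a) S.pow_mul_one_sub) m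
      simp only [map_pow, aeval_X, zero_mul, LinearMap.zero_apply] at this
      rwa [mul_assoc, Module.End.mul_apply] at this
  rw [sub_mul, one_mul, sub_eq_zero] at hE
  refine ⟨?_, hE.symm⟩
  calc aeval (a * b + b * a) f * a
      = aeval (a * b + b * a) f * (aeval (a * b + b * a) E * a) := by rw [← hE]
    _ = 0 := by rw [← mul_assoc, S.mul_eps dvd_rfl, zero_mul]

variable (hk2 : ringChar k ≠ 2) (hk3 : Nat.card k ≠ 3)
include hk2 hk3

theorem exists_pairField_left (ha : IsMinQ G a) (hb : IsMinQ G b) (hn : ¬ IsNilpotent (a * b))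
    (S : SplitData a b j f E) :
    Irreducible f ∧ aeval (a * b + b * a) f * a = 0 ∧ ∀ q : k[X], Qe G (aeval (a * b + b * a) q * a) := by
  have hk : (2 : k) ≠ 0 := Ring.two_ne_zero hk2
  have hnc : ¬ IsNilpotent (a * b + b * a) := fun h => hn ((isNilpotent_anticomm_iff ha.sq hb.sq).1 h)
  have hn' : ¬ IsNilpotent (b * a) := fun h => hnc (by
    rw [add_comm]; exact (isNilpotent_anticomm_iff hb.sq ha.sq).2 h)
  have hF := full_of_not_nilpotent hk hk2 hk3 ha hb hn
  have hF' := full_of_not_nilpotent hk hk2 hk3 hb ha hn'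
  obtain ⟨hfa, hEa⟩ := S.killed_of_full ha.sq hb.sq hF
  have hfb : aeval (a * b + b * a) f * b = 0 := by
    have := (S.symm.killed_of_full hb.sq ha.sq hF').1
    rwa [add_comm (b * a)] at this
  obtain ⟨hca, hcb⟩ := commute_anticomm ha.sq hb.sq
  have hEb : aeval (a * b + b * a) E * b = b := by
    have := (S.symm.killed_of_full hb.sq ha.sq hF').2
    rwa [add_comm (b * a)] at this
  obtain ⟨c, hc⟩ : ∃ c, c = a * b + b * a := ⟨_, rfl⟩
  rw [← hc] at hfa hEa hfb hEb ⊢
  have hka : ∀ q : k[X], Commute (aeval c q) a := fun q => hc ▸ (commute_ev hca q).symm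
  have hkb : ∀ q : k[X], Commute (aeval c q) b := fun q => hc ▸ (commute_ev hcb q).symm
  have dvdA : ∀ q : k[X], aeval c q * a = 0 → f ∣ q := fun q h =>
    S.dvd_of_killed_a ha.sq hb.sq (by rw [← hc, hEa, h])
  have dvdB : ∀ q : k[X], aeval c q * b = 0 → f ∣ q := fun q h =>
    S.symm.dvd_of_killed_a hb.sq ha.sq (by rw [add_comm, ← hc, hEb, h])
  have killA : ∀ q : k[X], f ∣ q → aeval c q * a = 0 := by
    rintro _ ⟨r, rfl⟩
    rw [mul_comm, map_mul, mul_assoc, hfa, mul_zero]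
  have killB : ∀ q : k[X], f ∣ q → aeval c q * b = 0 := by
    rintro _ ⟨r, rfl⟩
    rw [mul_comm, map_mul, mul_assoc, hfb, mul_zero]
  have hf1 := S.not_dvd_one hk ha hb hn
  obtain ⟨f1, hirr, hdvd⟩ := WfDvdMonoid.exists_irreducible_factor
    (fun hu => hf1 (isUnit_iff_dvd_one.1 hu)) S.monic.ne_zero
  have hX1 : ¬ X ∣ f1 := fun h => S.not_dvd (h.trans hdvd)
  have : Fact (Irreducible f1) := ⟨hirr⟩
  obtain ⟨f', hf'⟩ := hdvd
  have hf'n : ¬ f ∣ f' := by
    intro h
    have hne : f' ≠ 0 := fun e => S.monic.ne_zero (by rw [hf', e, mul_zero])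
    exact hirr.not_isUnit (isUnit_of_dvd_one ((mul_dvd_mul_iff_right hne).1 (by rw [one_mul, ← hf']; exact h)))
  have hwa : ∃ v ∈ LinearMap.range a, v ≠ 0 ∧ ∀ q, f1 ∣ q → aeval c q v = 0 := by
    obtain ⟨m, hm⟩ : ∃ m, (aeval c f' * a) m ≠ 0 := by
      by_contra hcon
      push Not at hcon
      exact hf'n (dvdA _ (LinearMap.ext fun m => hcon m))
    refine ⟨(aeval c f' * a) m, ?_, hm, fun q hq => ?_⟩
    · rw [(hka f').eq]; exact ⟨_, rfl⟩
    · obtain ⟨r, rfl⟩ := hq
      rw [← Module.End.mul_apply, ← mul_assoc, ← map_mul, show f1 * r * f' = r * f by rw [hf']; ring,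
        killA _ (dvd_mul_left f r), LinearMap.zero_apply]
  have hwb : ∃ v ∈ LinearMap.range b, v ≠ 0 ∧ ∀ q, f1 ∣ q → aeval c q v = 0 := by
    obtain ⟨m, hm⟩ : ∃ m, (aeval c f' * b) m ≠ 0 := by
      by_contra hcon
      push Not at hcon
      exact hf'n (dvdB _ (LinearMap.ext fun m => hcon m))
    refine ⟨(aeval c f' * b) m, ?_, hm, fun q hq => ?_⟩
    · rw [(hkb f').eq]; exact ⟨_, rfl⟩
    · obtain ⟨r, rfl⟩ := hq
      rw [← Module.End.mul_apply, ← mul_assoc, ← map_mul, show f1 * r * f' = r * f by rw [hf']; ring,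
        killB _ (dvd_mul_left f r), LinearMap.zero_apply]
  -- exactness of the lower left entry
  have lower : ∀ γ ∈ gam k (X : k[X]), f1 ∣ γ.1 1 0 → f ∣ γ.1 1 0 := by
    intro γ hγ h1
    refine S.dvd_lower hk ha hb hf1 hγ (Classical.byContradiction fun hnil => ?_)
    obtain ⟨a', C, ha', hC, e1, e2, -, -, -, -⟩ := conj_data ha hb.qe hγ
    rw [← hc] at e1 e2 hnil
    have hanti : a * a' + a' * a = -aeval c (γ.1 1 0 * γ.1 1 0) := by
      have hPc : aeval c (C * C * X * X) = aeval c (C * C * X) * (a * b) + aeval c (C * C * X) * (b * a) := by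
        rw [map_mul (aeval c) (C * C * X) X, aeval_X, hc, mul_add]
      rw [e1, e2, hC, show X * C * (X * C) = C * C * X * X by ring, hPc, neg_add, neg_mul, neg_mul]
      abel
    have hna : ¬ IsNilpotent (a * a') := fun h => hnil (by
      have h2 := (isNilpotent_anticomm_iff ha.sq ha'.sq).2 h
      rw [hanti] at h2
      simpa using h2.neg)
    obtain ⟨v, hv, hv0, hvk⟩ := hwa
    refine hv0 (full_of_not_nilpotent hk hk2 hk3 ha ha' hna v hv ?_)
    rw [hanti, LinearMap.neg_apply, hvk _ (dvd_mul_of_dvd_left h1 _), neg_zero]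
  -- exactness of the upper left entry
  have upper : ∀ γ ∈ gam k (X : k[X]), f1 ∣ γ.1 0 0 → f ∣ γ.1 0 0 := by
    intro γ hγ h1
    obtain ⟨a', C, ha', hC, -, -, e3, e4, -, g, hg, hgc, hconj⟩ := conj_data ha hb.qe hγ
    rw [← hc] at e3 e4
    have hnil : IsNilpotent (b * a') := Classical.byContradiction fun hnb => by
      obtain ⟨v, hv, hv0, hvk⟩ := hwb
      refine hv0 (full_of_not_nilpotent hk hk2 hk3 hb ha' hnb v hv ?_)
      rw [add_comm, e3, hvk _ (dvd_mul_of_dvd_left (dvd_mul_of_dvd_left h1 _) _)]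
    obtain ⟨t1, t2⟩ := triple_eq_zero hk hb ha' hnil
    have hU : UPair a' b := ⟨t2, t1⟩
    have hsq : f ∣ γ.1 0 0 * γ.1 0 0 := by
      refine S.dvd_of_X_mul (dvdB _ ?_)
      rw [← e3, add_mul, mul_assoc b a' b, ← mul_assoc b a' b, t1, add_zero, mul_assoc, hb.sq, mul_zero]
    set Q := γ.1 0 0 * γ.1 1 0 with hQ
    have hz : a' * b - b * a' = aeval c (2 * Q) * b := by
      have h2 : b * a' = aeval c (γ.1 0 0 * γ.1 0 0 * X) - a' * b := eq_sub_of_add_eq' e3
      have k1 : aeval c (γ.1 0 0 * γ.1 0 0) * (a * b) = 0 := by rw [← mul_assoc, killA _ hsq, zero_mul]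
      have k2 : aeval c (γ.1 0 0 * γ.1 0 0 * X) = 0 := by
        rw [map_mul _ _ X, aeval_X, hc, mul_add, ← mul_assoc, ← mul_assoc, ← hc, killA _ hsq, killB _ hsq,
          zero_mul, zero_mul, add_zero]
      rw [h2, k2, zero_sub, sub_neg_eq_add, e4, k1, zero_add, map_mul _ (2 : k[X]), map_ofNat, mul_assoc,
        two_mul]
    have hzero : a' * b - b * a' = 0 := by
      by_contra hne
      have h5 := (hU.isMinQ ha' hb (sub_ne_zero.1 hne)).rank_eq hb
      rw [hz] at h5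
      have h6 := finrank_lt_of_nilpotent (aeval c (2 * Q)) b (hkb _) hb.ne_zero (n := 2) (by
        rw [← map_pow, show (2 * Q) ^ 2 = γ.1 0 0 * γ.1 0 0 * (4 * γ.1 1 0 ^ 2) by rw [hQ]; ring]
        exact killB _ (dvd_mul_of_dvd_left hsq _))
      omega
    rw [hzero] at hz
    have h2 : f ∣ 2 * Q := dvdB _ hz.symm
    have h2u : IsUnit (2 : k[X]) := by
      rw [show (2 : k[X]) = Polynomial.C 2 from (map_ofNat _ 2).symm]
      exact isUnit_C.2 hk.isUnit
    rw [IsUnit.dvd_mul_left h2u] at h2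
    exact dvd_of_dvd_sq (Or.inl ⟨rfl, rfl⟩) hsq h2
  -- the upper parameters form a field mapping onto the residue field
  set 𝕏 := upperParam k (AdjoinRoot.root f) with h𝕏
  have hgam : gam k (AdjoinRoot.root f) =
      (gam k (X : k[X])).map (Matrix.SpecialLinearGroup.map (AdjoinRoot.mk f)) := by
    have h1 := map_gam k (AdjoinRoot.mkₐ f) (X : k[X])
    rw [show (AdjoinRoot.mkₐ f).toRingHom = AdjoinRoot.mk f from rfl,
      show (AdjoinRoot.mkₐ f) X = AdjoinRoot.root f from AdjoinRoot.mk_X] at h1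
    exact h1.symm
  have hqe : ∀ q : k[X], AdjoinRoot.mk f q ∈ 𝕏 → Qe G (aeval c q * a) := by
    intro q hq
    refine ⟨?_, fun s => ?_⟩
    · rw [mul_assoc, ← mul_assoc a, ← (hka q).eq, mul_assoc _ a a, ha.sq, mul_zero, mul_zero]
    have hs : uG (s • AdjoinRoot.mk f q) ∈ gam k (AdjoinRoot.root f) := 𝕏.smul_mem s hq
    rw [hgam] at hs
    obtain ⟨δ, hδ, hδe⟩ := hs
    obtain ⟨A, C, D, d1, d2, d3, h, hG, hh⟩ := rep_of_mem ha.qe hb.qe hδ
    refine ⟨h, hG, ?_⟩
    have k00 : AdjoinRoot.mk f (1 + X * A) = 1 := by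
      rw [← d1]; exact congrArg (fun g : Matrix.SpecialLinearGroup (Fin 2) (AdjoinRoot f) => g.1 0 0) hδe
    have k10 : AdjoinRoot.mk f (X * C) = 0 := by
      rw [← d2]; exact congrArg (fun g : Matrix.SpecialLinearGroup (Fin 2) (AdjoinRoot f) => g.1 1 0) hδe
    have k11 : AdjoinRoot.mk f (1 + X * D) = 1 := by
      rw [← d3]; exact congrArg (fun g : Matrix.SpecialLinearGroup (Fin 2) (AdjoinRoot f) => g.1 1 1) hδe
    have k01 : AdjoinRoot.mk f (δ.1 0 1) = s • AdjoinRoot.mk f q :=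
      congrArg (fun g : Matrix.SpecialLinearGroup (Fin 2) (AdjoinRoot f) => g.1 0 1) hδe
    rw [map_add, map_one, add_eq_left] at k00 k11
    have dX : ∀ P : k[X], AdjoinRoot.mk f (X * P) = 0 → f ∣ P := fun P h => S.dvd_of_X_mul (by
      rw [mul_comm]; exact AdjoinRoot.mk_eq_zero.1 h)
    have hB : f ∣ δ.1 0 1 - Polynomial.C s * q := AdjoinRoot.mk_eq_zero.1 (by
      rw [map_sub, k01, map_mul, AdjoinRoot.mk_C, Algebra.smul_def, AdjoinRoot.algebraMap_eq, sub_self])
    have h2 := killA _ hB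
    rw [map_sub, sub_mul, sub_eq_zero] at h2
    rw [hh, theta, ← hc, ← mul_assoc _ a b, killA A (dX A k00), zero_mul, killB C (dX C k10),
      ← mul_assoc _ b a, killB D (dX D k11), zero_mul, zero_add, add_zero, add_zero, h2, map_mul, aeval_C,
      mul_assoc, Algebra.algebraMap_eq_smul_one, smul_mul_assoc, one_mul]
  let π : AdjoinRoot f →ₐ[k] AdjoinRoot f1 := AdjoinRoot.algHomOfDvd k f f1 ⟨f', hf'⟩
  have hπ : ∀ q, π (AdjoinRoot.mk f q) = AdjoinRoot.mk f1 q := by
    intro q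
    have hr : π (AdjoinRoot.root f) = AdjoinRoot.root f1 := by simp [π, AdjoinRoot.algHomOfDvd]
    rw [← AdjoinRoot.aeval_eq, ← aeval_algHom_apply, hr, AdjoinRoot.aeval_eq]
  have hinj : ∀ x ∈ 𝕏, π x = 0 → x = 0 := by
    intro x hx h0
    obtain ⟨q, rfl⟩ := AdjoinRoot.mk_surjective x
    rw [hπ, AdjoinRoot.mk_eq_zero] at h0
    refine AdjoinRoot.mk_eq_zero.2 (dvdA _ (Classical.byContradiction fun hne => ?_))
    obtain ⟨v, hv, hv0, hvk⟩ := hwa
    have e := finrank_range_mul_add (aeval c q) a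
    have hle := ha.le _ (hqe q hx) hne
    have hpos : 0 < finrank k ↥(LinearMap.range a ⊓ LinearMap.ker (aeval c q)) := by
      refine Nat.pos_of_ne_zero fun h => hv0 ?_
      rw [Submodule.finrank_eq_zero] at h
      have : v ∈ LinearMap.range a ⊓ LinearMap.ker (aeval c q) := ⟨hv, hvk q h0⟩
      rwa [h, Submodule.mem_bot] at this
    omega
  have hinj' : ∀ x ∈ 𝕏, ∀ y ∈ 𝕏, π x = π y → x = y := fun x hx y hy h =>
    sub_eq_zero.1 (hinj _ (sub_mem hx hy) (by rw [map_sub, h, sub_self]))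
  have hsq : ∀ t : AdjoinRoot f1, t ≠ 0 → ∃ x ∈ 𝕏, π x = t ^ 2 ∧ ∀ z ∈ 𝕏, x * z ∈ 𝕏 := by
    intro t ht
    obtain ⟨γ, hγ, hγt⟩ := exists_lift hk hk2 hk3 hirr hX1
      ⟨!![t, 0; 0, t⁻¹], by rw [Matrix.det_fin_two_of, mul_zero, sub_zero, mul_inv_cancel₀ ht]⟩
    have h10 : f ∣ γ.1 1 0 := lower γ hγ (AdjoinRoot.mk_eq_zero.1
      (congrArg (fun g : Matrix.SpecialLinearGroup (Fin 2) (AdjoinRoot f1) => g.1 1 0) hγt))
    have h00 : AdjoinRoot.mk f1 (γ.1 0 0) = t :=
      congrArg (fun g : Matrix.SpecialLinearGroup (Fin 2) (AdjoinRoot f1) => g.1 0 0) hγt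
    set g := Matrix.SpecialLinearGroup.map (AdjoinRoot.mk f) γ
    have hg : g ∈ gam k (AdjoinRoot.root f) := hgam ▸ Subgroup.mem_map_of_mem _ hγ
    have hg10 : g.1 1 0 = 0 := AdjoinRoot.mk_eq_zero.2 h10
    refine ⟨g.1 0 0 ^ 2, ?_, ?_, fun z hz => sq_mul_mem_upperParam hg hg10 hz⟩
    · simpa using sq_mul_mem_upperParam hg hg10 (one_mem_upperParam (k := k) (AdjoinRoot.root f))
    · rw [map_pow]
      exact congrArg (· ^ 2) ((hπ _).trans h00)
  -- surjectivity onto the residue field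
  have hsurj : ∀ t : AdjoinRoot f1, ∃ x ∈ 𝕏, π x = t ∧ ∀ z ∈ 𝕏, x * z ∈ 𝕏 := by
    intro t
    have hsq' : ∀ t : AdjoinRoot f1, ∃ x ∈ 𝕏, π x = t ^ 2 ∧ ∀ z ∈ 𝕏, x * z ∈ 𝕏 := fun t => by
      rcases eq_or_ne t 0 with rfl | ht
      · exact ⟨0, zero_mem _, by simp, fun z _ => by rw [zero_mul]; exact zero_mem _⟩
      · exact hsq t ht
    obtain ⟨x, hx, hx1, hx2⟩ := hsq' (t + 1)
    obtain ⟨y, hy, hy1, hy2⟩ := hsq' (t - 1)
    refine ⟨(4 : k)⁻¹ • (x - y), 𝕏.smul_mem _ (sub_mem hx hy), ?_, fun z hz => ?_⟩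
    · rw [map_smul, map_sub, hx1, hy1, inv_smul_eq_iff₀ (by
        have := mul_ne_zero hk hk; norm_num at this; exact this), Algebra.smul_def, map_ofNat]
      ring
    · rw [smul_mul_assoc, sub_mul]
      exact 𝕏.smul_mem _ (sub_mem (hx2 z hz) (hy2 z hz))
  have hmul : ∀ x ∈ 𝕏, ∀ z ∈ 𝕏, x * z ∈ 𝕏 := by
    intro x hx z hz
    obtain ⟨x', hx', hxe, hxm⟩ := hsurj (π x)
    rw [← hinj' x' hx' x hx hxe]
    exact hxm z hz
  -- the root lies among the parameters
  have hroot : AdjoinRoot.root f ∈ 𝕏 := by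
    have hC1 : AdjoinRoot.root f1 ≠ 0 := by
      rw [← AdjoinRoot.mk_X, Ne, AdjoinRoot.mk_eq_zero]
      exact fun h => hX1 (hirr.associated_of_dvd irreducible_X h).symm.dvd
    obtain ⟨y, hy, hy1, -⟩ := hsurj (AdjoinRoot.root f1)⁻¹
    obtain ⟨z, hz, hz1, -⟩ := hsurj (AdjoinRoot.root f1)
    have hy' : uG y ∈ (gam k (X : k[X])).map (Matrix.SpecialLinearGroup.map (AdjoinRoot.mk f)) := hgam ▸ hy
    obtain ⟨δ, hδ, hδe⟩ := hy'
    set n := δ * (lG (X : k[X]))⁻¹ * δ with hn_def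
    have hnm : n ∈ gam k (X : k[X]) := mul_mem (mul_mem hδ (inv_mem (lG_C_mem k _))) hδ
    have hr : π (AdjoinRoot.root f) = AdjoinRoot.root f1 := by rw [← AdjoinRoot.mk_X, hπ, AdjoinRoot.mk_X]
    have hne : AdjoinRoot.mk f (n.1 0 0) = 1 - y * AdjoinRoot.root f := by
      have hmap : Matrix.SpecialLinearGroup.map (AdjoinRoot.mk f) n = uG y * lG (-AdjoinRoot.root f) * uG y := by
        rw [hn_def, map_mul, map_mul, map_inv, hδe, map_lG, AdjoinRoot.mk_X, lG_inv]
      calc AdjoinRoot.mk f (n.1 0 0) = (Matrix.SpecialLinearGroup.map (AdjoinRoot.mk f) n).1 0 0 := rfl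
        _ = _ := by rw [hmap, sl_mul_apply, sl_mul_apply, sl_mul_apply]; simp; ring
    have h1 : f ∣ n.1 0 0 := upper n hnm (AdjoinRoot.mk_eq_zero.1 (by
      rw [← hπ, hne, map_sub, map_one, map_mul, hy1, hr, inv_mul_cancel₀ hC1, sub_self]))
    have hyC : y * AdjoinRoot.root f = 1 := by
      have := AdjoinRoot.mk_eq_zero.2 h1
      rw [hne, sub_eq_zero] at this
      exact this.symm
    have hyz : y * z = 1 := hinj' _ (hmul y hy z hz) 1 (one_mem_upperParam _) (by
      rw [map_mul, hy1, hz1, inv_mul_cancel₀ hC1, map_one])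
    have : AdjoinRoot.root f = z := by
      calc AdjoinRoot.root f = AdjoinRoot.root f * (y * z) := by rw [hyz, mul_one]
        _ = z := by rw [← mul_assoc, mul_comm _ y, hyC, one_mul]
    rw [this]; exact hz
  have hall : ∀ x : AdjoinRoot f, x ∈ 𝕏 := by
    intro x
    obtain ⟨q, rfl⟩ := AdjoinRoot.mk_surjective x
    rw [← AdjoinRoot.aeval_eq]
    induction q using Polynomial.induction_on with
    | C r => rw [aeval_C, Algebra.algebraMap_eq_smul_one]; exact 𝕏.smul_mem r (one_mem_upperParam _)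
    | add p q hp hq => rw [map_add]; exact add_mem hp hq
    | monomial n r ih =>
      rw [pow_succ, ← mul_assoc, map_mul, aeval_X]
      exact hmul _ ih _ hroot
  refine ⟨?_, hfa, fun q => hqe q (hall _)⟩
  have hff : f ∣ f1 := AdjoinRoot.mk_eq_zero.1 (hinj _ (hall _) (by rw [hπ, AdjoinRoot.mk_self]))
  exact (associated_of_dvd_dvd ⟨f', hf'⟩ hff).irreducible hirr

end Cfsg.Agent.Quad
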