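import Cfsg.Agent.Lib.Quad.RootPair
import Cfsg.Agent.Lib.Root.RankOne

/-!
A non-nilpotent pair of members of `Σ` is a special rank one pair.
-/

set_option autoImplicit false

namespace Cfsg.Agent.Quad

open Cfsg Module

variable {k : Type*} [Field k] {M : Type*} [AddCommGroup M] [Module k M] [FiniteDimensional k M]
variable {G : Subgroup (LinearMap.GeneralLinearGroup k M)} {σ τ : LinearMap.GeneralLinearGroup k M}

omit [FiniteDimensional k M] in
theorem nilpotent_of_comm {a b : End k M} (haa : a * a = 0) (h : a * b = b * a) : IsNilpotent (a * b) :=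
  nilpotent_of_triple (by rw [h, mul_assoc, haa, mul_zero])

/-- Not being nilpotent depends only on the spaces. -/
theorem not_nilpotent_amod (hk : (2 : k) ≠ 0) {a b x y : End k M} {ha : IsMinQ G a} {hb : IsMinQ G b}
    (hn : ¬ IsNilpotent (a * b)) (hx : x ∈ amod ha) (hx0 : x ≠ 0) (hy : y ∈ amod hb) (hy0 : y ≠ 0) :
    ¬ IsNilpotent (x * y) := by
  intro h
  have hX := isMinQ_of_amod hx hx0
  have hY := isMinQ_of_amod hy hy0
  obtain ⟨p, q⟩ := triple_eq_zero hk hX hY h
  refine hn (nilpotent_of_triple (UPair.amod (ha := hX) (hb := hY) hk ⟨p, q⟩ ?_ ?_).aba)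
  · rw [amod_eq hx hx0]; exact self_mem_amod ha
  · rw [amod_eq hy hy0]; exact self_mem_amod hb

/-- Conjugation by the Weyl element. -/
theorem Nrm.weyl_conj {a b : End k M} (h : Nrm a b) {ha : IsMinQ G a} {hb : IsMinQ G b} {x : End k M}
    (hx : x ∈ amod hb) :
    (1 + a) * (1 - b) * (1 + a) * x * ((1 - a) * (1 + b) * (1 - a)) = -(a * x * a) := by
  have e1 : b * a * x = x := h.symm.left_id hx
  have e2 : x * (a * b) = x := h.symm.right_id hx
  have e3 : b * x = 0 := mul_zero_of_mem (self_mem_amod hb) hx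
  have e4 : x * b = 0 := mul_zero_of_mem hx (self_mem_amod hb)
  have k1 : (1 + a) * (1 - b) * (1 + a) * x = a * x := by
    linear_combination (norm := noncomm_ring) -a * e1 - e1 - e3 - a * e3 + ha.sq * x
  have k2 : x * ((1 - a) * (1 + b) * (1 - a)) = -(x * a) := by
    linear_combination (norm := noncomm_ring) -e2 + e4 - e4 * a + e2 * a + x * ha.sq
  rw [k1, mul_assoc, k2, mul_neg, ← mul_assoc]

theorem sameAction_isMulCommutative (hσ : σ ∈ minimalQuadraticElements G) :
    IsMulCommutative (sameActionSubgroup G σ) :=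
  ⟨⟨fun x y => Subtype.ext (RootLib.bracket_eq_bot_iff.1 (sameAction_comm hσ) x x.2 y y.2)⟩⟩

theorem sameAction_nilpotent (hσ : σ ∈ minimalQuadraticElements G) :
    Group.IsNilpotent (sameActionSubgroup G σ) := by
  have := sameAction_isMulCommutative hσ
  let : CommGroup (sameActionSubgroup G σ) := IsMulCommutative.instCommGroup
  exact CommGroup.isNilpotent

theorem conj_val_of {g u : LinearMap.GeneralLinearGroup k M} {p q z : End k M} (hg : (g : End k M) = p)
    (hg' : ((g⁻¹ : LinearMap.GeneralLinearGroup k M) : End k M) = q) (hu : (u : End k M) = 1 + z) :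
    ((g * u * g⁻¹ : LinearMap.GeneralLinearGroup k M) : End k M) - 1 = p * z * q := by
  have e : p * q = 1 := by rw [← hg, ← hg', Units.mul_inv]
  rw [Units.val_mul, Units.val_mul, hg, hg', hu, mul_add, add_mul, mul_one, e, add_sub_cancel_left]

/-- The Weyl element maps `E(τ)` onto `E(σ)`. -/
theorem conjBy_weyl (hσ : σ ∈ minimalQuadraticElements G) (hτ : τ ∈ minimalQuadraticElements G)
    {x y : End k M} (hx : x ∈ amod (isMinQ_of_mem hσ)) (hy : y ∈ amod (isMinQ_of_mem hτ)) (hx0 : x ≠ 0)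
    (N : Nrm x y) :
    conjBy (sameActionSubgroup G τ) (oneAdd x hx.1.1 * (oneAdd y hy.1.1)⁻¹ * oneAdd x hx.1.1) =
      sameActionSubgroup G σ := by
  have hy0 : y ≠ 0 := fun e => hx0 (by rw [← N.aba, e, mul_zero, zero_mul])
  set hX := isMinQ_of_amod hx hx0 with hXdef
  set hY := isMinQ_of_amod hy hy0 with hYdef
  have eX : amod hX = amod (isMinQ_of_mem hσ) := amod_eq hx hx0 hX
  have eY : amod hY = amod (isMinQ_of_mem hτ) := amod_eq hy hy0 hY
  set w := oneAdd x hx.1.1 * (oneAdd y hy.1.1)⁻¹ * oneAdd x hx.1.1 with hw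
  have v1 : (w : End k M) = (1 + x) * (1 - y) * (1 + x) := by
    rw [hw, Units.val_mul, Units.val_mul, oneAdd_val, oneAdd_inv_val]
  have v2 : ((w⁻¹ : LinearMap.GeneralLinearGroup k M) : End k M) = (1 - x) * (1 + y) * (1 - x) := by
    rw [hw, mul_inv_rev, mul_inv_rev, inv_inv, Units.val_mul, Units.val_mul, oneAdd_val, oneAdd_inv_val, mul_assoc]
  ext g
  constructor
  · rintro ⟨u, hu, rfl⟩
    have hu' : (u : End k M) - 1 ∈ amod hY := eY.symm ▸ (mem_sameAction_iff hτ).1 hu
    refine (mem_sameAction_iff hσ).2 ?_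
    show ((w * u * w⁻¹ : LinearMap.GeneralLinearGroup k M) : End k M) - 1 ∈ _
    rw [conj_val_of v1 v2 (add_sub_cancel _ _).symm, N.weyl_conj (ha := hX) hu', ← eX]
    exact neg_mem (N.qe_sandwich hu')
  · intro hg
    have hg' : (g : End k M) - 1 ∈ amod hX := eX.symm ▸ (mem_sameAction_iff hσ).1 hg
    set z := -(y * ((g : End k M) - 1) * y) with hz
    have hzm : z ∈ amod hY := neg_mem (N.symm.qe_sandwich hg')
    refine ⟨oneAdd z hzm.1.1, (mem_sameAction_iff hτ).2 (by
      rw [oneAdd_val, add_sub_cancel_left, ← eY]; exact hzm), Units.ext (sub_left_injective (b := (1 : End k M)) ?_)⟩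
    show ((w * oneAdd z hzm.1.1 * w⁻¹ : LinearMap.GeneralLinearGroup k M) : End k M) - 1 = (g : End k M) - 1
    rw [conj_val_of v1 v2 (oneAdd_val _ _), N.weyl_conj (ha := hX) hzm, hz]
    calc -(x * -(y * ((g : End k M) - 1) * y) * x) = x * y * ((g : End k M) - 1) * (y * x) := by noncomm_ring
      _ = (g : End k M) - 1 := by rw [N.left_id hg', N.right_id hg']

variable (hk2 : ringChar k ≠ 2) (hk3 : Nat.card k ≠ 3)
include hk2 hk3

theorem exists_weyl_partner (hσ : σ ∈ minimalQuadraticElements G) (hτ : τ ∈ minimalQuadraticElements G)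
    (hn : ¬ IsNilpotent (((σ : End k M) - 1) * ((τ : End k M) - 1))) {e : LinearMap.GeneralLinearGroup k M}
    (he : e ∈ sameActionSubgroup G σ) (he1 : e ≠ 1) :
    ∃ (y : End k M) (hy : y ∈ amod (isMinQ_of_mem hτ)), Nrm ((e : End k M) - 1) y ∧
      oneAdd y hy.1.1 ∈ sameActionSubgroup G τ ∧ oneAdd y hy.1.1 ≠ 1 ∧
      conjBy (sameActionSubgroup G σ) (oneAdd y hy.1.1)⁻¹ = conjBy (sameActionSubgroup G τ) e⁻¹ := by
  have hk := Ring.two_ne_zero hk2
  have hx := (mem_sameAction_iff hσ).1 he
  have hx0 : (e : End k M) - 1 ≠ 0 := fun h => he1 (Units.ext (sub_eq_zero.1 h))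
  have hX := isMinQ_of_amod hx hx0
  have hb := isMinQ_of_mem hτ
  obtain ⟨y, hy, N⟩ := exists_nrm hk2 hk3 hX hb
    (not_nilpotent_amod hk hn hx hx0 (self_mem_amod hb) hb.ne_zero)
  have hy0 : y ≠ 0 := fun h => hx0 (by rw [← N.aba, h, mul_zero, zero_mul])
  refine ⟨y, hy, N, (mem_sameAction_iff hτ).2 (by rw [oneAdd_val, add_sub_cancel_left]; exact hy), fun h => ?_, ?_⟩
  · refine hy0 ?_
    have := congrArg Units.val h
    simpa using this
  have N' : Nrm (-((e : End k M) - 1)) (-y) :=
    ⟨by simp only [neg_mul, mul_neg, neg_neg, N.aba], by simp only [neg_mul, mul_neg, neg_neg, N.bab]⟩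
  have hW := conjBy_weyl hσ hτ (neg_mem hx) (neg_mem hy) (neg_ne_zero.2 hx0) N'
  have e1 : oneAdd (-((e : End k M) - 1)) (neg_mem hx).1.1 = e⁻¹ := Units.ext (by
    rw [oneAdd_val, inv_val_of_val hx.1.1 (add_sub_cancel _ _).symm]; abel)
  have e2 : (oneAdd (-y) (neg_mem hy).1.1)⁻¹ = oneAdd y hy.1.1 := Units.ext (by
    rw [oneAdd_inv_val, oneAdd_val, sub_neg_eq_add])
  rw [e1, e2] at hW
  have h3 := congrArg (fun A => conjBy A ((oneAdd y hy.1.1)⁻¹ * e)) hW
  simp only [RootLib.conjBy_conjBy] at h3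
  rw [show (oneAdd y hy.1.1)⁻¹ * e * (e⁻¹ * oneAdd y hy.1.1 * e⁻¹) = e⁻¹ by group,
    ← RootLib.conjBy_conjBy _ (oneAdd y hy.1.1)⁻¹ e, RootLib.conjBy_eq_self_of_mem he] at h3
  exact h3.symm

theorem rankOneCondition (hσ : σ ∈ minimalQuadraticElements G) (hτ : τ ∈ minimalQuadraticElements G)
    (hn : ¬ IsNilpotent (((σ : End k M) - 1) * ((τ : End k M) - 1))) :
    RankOneCondition (sameActionSubgroup G σ) (sameActionSubgroup G τ) := fun e he he1 => by
  obtain ⟨y, hy, -, h1, h2, h3⟩ := exists_weyl_partner hk2 hk3 hσ hτ hn he he1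
  exact ⟨_, h1, h2, h3⟩

omit hk3 in
theorem sameAction_ne (hσ : σ ∈ minimalQuadraticElements G) (hτ : τ ∈ minimalQuadraticElements G)
    (hn : ¬ IsNilpotent (((σ : End k M) - 1) * ((τ : End k M) - 1))) :
    sameActionSubgroup G σ ≠ sameActionSubgroup G τ := by
  intro h
  have hmem : σ ∈ sameActionSubgroup G τ := h ▸ self_mem_sameAction hσ
  refine hn ⟨1, ?_⟩
  rw [pow_one, mul_eq_zero_of_amod ((mem_sameAction_iff hτ).1 hmem) (self_mem_amod _)]

theorem isSpecialRankOnePair (hσ : σ ∈ minimalQuadraticElements G) (hτ : τ ∈ minimalQuadraticElements G)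
    (hn : ¬ IsNilpotent (((σ : End k M) - 1) * ((τ : End k M) - 1))) :
    IsSpecialRankOnePair (sameActionSubgroup G σ) (sameActionSubgroup G τ) := by
  have hk := Ring.two_ne_zero hk2
  have ha := isMinQ_of_mem hσ
  have hb := isMinQ_of_mem hτ
  have hn' : ¬ IsNilpotent (((τ : End k M) - 1) * ((σ : End k M) - 1)) := fun h =>
    hn (nilpotent_of_triple (triple_eq_zero hk hb ha h).2)
  refine ⟨⟨sameAction_ne hk2 hσ hτ hn, sameAction_nilpotent hσ, sameAction_nilpotent hτ,
    rankOneCondition hk2 hk3 hσ hτ hn, rankOneCondition hk2 hk3 hτ hσ hn'⟩, fun e he he1 f hf hf1 heq => ?_⟩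
  obtain ⟨y, hy, N, hf', -, heq'⟩ := exists_weyl_partner hk2 hk3 hσ hτ hn he he1
  set f0 := oneAdd y hy.1.1 with hf0
  have hd : f0 = f := by
    by_contra hne
    have hfix : conjBy (sameActionSubgroup G σ) (f0 * f⁻¹) = sameActionSubgroup G σ := by
      rw [← RootLib.conjBy_conjBy, heq, ← heq', RootLib.conjBy_cancel_inv]
    have hg := (mem_sameAction_iff hτ).1 (mul_mem hf' (inv_mem hf))
    have hg0 : ((f0 * f⁻¹ : LinearMap.GeneralLinearGroup k M) : End k M) - 1 ≠ 0 :=
      fun h => hne (mul_inv_eq_one.1 (Units.ext (sub_eq_zero.1 h)))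
    set g := f0 * f⁻¹ with hgdef
    have hm : g * σ * g⁻¹ ∈ sameActionSubgroup G σ := by
      have := RootLib.conjBy_mem_conjBy (g := g) (self_mem_sameAction hσ)
      rwa [hfix] at this
    have h4 := (mem_sameAction_iff hσ).1 hm
    rw [conj_val_of (z := (σ : End k M) - 1) (add_sub_cancel 1 (g : End k M)).symm
      (inv_val_of_val hg.1.1 (add_sub_cancel _ _).symm) (add_sub_cancel _ _).symm] at h4
    have hG := isMinQ_of_amod hg hg0
    refine not_nilpotent_amod hk hn' hg hg0 (self_mem_amod ha) ha.ne_zero ?_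
    exact nilpotent_of_comm hG.sq (exists_comm_of_normalizes hk hG ha h4)
  subst hd
  have hxx : ((e : End k M) - 1) * ((e : End k M) - 1) = 0 := ((mem_sameAction_iff hσ).1 he).1.1
  obtain ⟨x, hx⟩ : ∃ x, x = (e : End k M) - 1 := ⟨_, rfl⟩
  rw [← hx] at N hxx
  have hev : (e : End k M) = 1 + x := by rw [hx]; abel
  refine Units.ext ?_
  simp only [Units.val_mul, hf0, oneAdd_val, oneAdd_inv_val, hev, inv_val_of_val hxx hev]
  linear_combination (norm := noncomm_ring) -N.bab - N.aba + hxx - hy.1.1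

/-- The central involution and the splitting of the module. -/
theorem involution_split (hσ : σ ∈ minimalQuadraticElements G) (hτ : τ ∈ minimalQuadraticElements G)
    (hn : ¬ IsNilpotent (((σ : End k M) - 1) * ((τ : End k M) - 1))) :
    (∃! i : LinearMap.GeneralLinearGroup k M, i ∈ sameActionSubgroup G σ ⊔ sameActionSubgroup G τ ∧ i ≠ 1 ∧ i * i = 1 ∧
        (∀ x ∈ sameActionSubgroup G σ ⊔ sameActionSubgroup G τ, i * x = x * i) ∧
        (∀ m ∈ commutatorSubmodule (sameActionSubgroup G σ ⊔ sameActionSubgroup G τ), (i : M →ₗ[k] M) m = -m) ∧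
        (∀ m ∈ fixedSubmodule (sameActionSubgroup G σ ⊔ sameActionSubgroup G τ), (i : M →ₗ[k] M) m = m)) ∧
      IsCompl (fixedSubmodule (sameActionSubgroup G σ ⊔ sameActionSubgroup G τ))
        (commutatorSubmodule (sameActionSubgroup G σ ⊔ sameActionSubgroup G τ)) := by
  have hk := Ring.two_ne_zero hk2
  set a := (σ : End k M) - 1 with hadef
  have ha : IsMinQ G a := isMinQ_of_mem hσ
  have hb := isMinQ_of_mem hτ
  obtain ⟨b', hb', N⟩ := exists_nrm hk2 hk3 ha hb hn
  have hb'0 : b' ≠ 0 := fun e => ha.ne_zero (by rw [← N.aba, e, mul_zero, zero_mul])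
  have hB := isMinQ_of_amod hb' hb'0
  obtain ⟨P, hP⟩ : ∃ P, P = a * b' + b' * a := ⟨_, rfl⟩
  set X := sameActionSubgroup G σ ⊔ sameActionSubgroup G τ with hXdef
  have hPA : ∀ x ∈ amod ha, P * x = x ∧ x * P = x := fun x hx => by
    rw [hP]
    constructor
    · rw [add_mul, N.left_id hx, mul_assoc, mul_zero_of_mem (self_mem_amod ha) hx, mul_zero, add_zero]
    · rw [mul_add, ← mul_assoc, mul_zero_of_mem hx (self_mem_amod ha), zero_mul, zero_add, N.right_id hx]
  have hPB : ∀ y ∈ amod hb, P * y = y ∧ y * P = y := fun y hy => by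
    have hy' : y ∈ amod hB := by rw [amod_eq hb' hb'0]; exact hy
    rw [hP]
    constructor
    · rw [add_mul, mul_assoc, mul_zero_of_mem hb' hy, mul_zero, zero_add, N.symm.left_id hy']
    · rw [mul_add, ← mul_assoc y b' a, mul_zero_of_mem hy hb', zero_mul, add_zero, N.symm.right_id hy']
  have hPP : P * P = P := by
    nth_rewrite 2 [hP]
    rw [mul_add, ← mul_assoc, ← mul_assoc, (hPA a (self_mem_amod ha)).1, (hPB b' hb').1, hP]
  have hd : ∀ g ∈ X, P * ((g : End k M) - 1) = (g : End k M) - 1 ∧ ((g : End k M) - 1) * P = (g : End k M) - 1 := by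
    intro g hg
    rw [hXdef, Subgroup.sup_eq_closure] at hg
    induction hg using Subgroup.closure_induction with
    | mem g hg =>
      rcases hg with hg | hg
      · exact hPA _ ((mem_sameAction_iff hσ).1 hg)
      · exact hPB _ ((mem_sameAction_iff hτ).1 hg)
    | one => simp
    | mul u v _ _ hu hv =>
      have e : ((u * v : LinearMap.GeneralLinearGroup k M) : End k M) - 1 =
          ((u : End k M) - 1) + ((v : End k M) - 1) + ((u : End k M) - 1) * ((v : End k M) - 1) := by
        rw [Units.val_mul]; noncomm_ring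
      rw [e]
      constructor
      · rw [mul_add, mul_add, ← mul_assoc, hu.1, hv.1]
      · rw [add_mul, add_mul, mul_assoc, hu.2, hv.2]
    | inv u _ hu =>
      set ui := ((u⁻¹ : LinearMap.GeneralLinearGroup k M) : End k M) with hui
      have e1 : ui - 1 = -(((u : End k M) - 1) * ui) := by
        rw [sub_mul, Units.mul_inv, one_mul, neg_sub]
      have e2 : ui - 1 = -(ui * ((u : End k M) - 1)) := by
        rw [mul_sub, Units.inv_mul, mul_one, neg_sub]
      constructor
      · rw [e1, mul_neg, ← mul_assoc, hu.1]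
      · rw [e2, neg_mul, mul_assoc, hu.2]
  have hf : oneAdd b' hb'.1.1 ∈ sameActionSubgroup G τ :=
    (mem_sameAction_iff hτ).2 (by rw [oneAdd_val, add_sub_cancel_left]; exact hb')
  have hfix : fixedSubmodule X = LinearMap.ker P := by
    ext m
    simp only [fixedSubmodule, Submodule.mem_iInf, LinearMap.mem_ker]
    constructor
    · intro h
      have h1 := h σ (Subgroup.mem_sup_left (self_mem_sameAction hσ))
      have h2 := h _ (Subgroup.mem_sup_right hf)
      rw [← hadef] at h1
      rw [oneAdd_val, add_sub_cancel_left] at h2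
      rw [hP, LinearMap.add_apply, Module.End.mul_apply, Module.End.mul_apply, h1, h2, map_zero, map_zero, add_zero]
    · intro h g hg
      rw [← (hd g hg).2, Module.End.mul_apply, h, map_zero]
  have hcom : commutatorSubmodule X = LinearMap.range P := by
    refine le_antisymm (iSup₂_le fun g hg => ?_) ?_
    · rw [← (hd g hg).1]; exact LinearMap.range_comp_le_range _ _
    · rintro _ ⟨m, rfl⟩
      rw [hP, LinearMap.add_apply, Module.End.mul_apply, Module.End.mul_apply]
      refine add_mem (le_iSup₂ (f := fun g (_ : g ∈ X) => LinearMap.range ((g : End k M) - 1)) σ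
        (Subgroup.mem_sup_left (self_mem_sameAction hσ)) ⟨_, rfl⟩) ?_
      refine le_iSup₂ (f := fun g (_ : g ∈ X) => LinearMap.range ((g : End k M) - 1)) _
        (Subgroup.mem_sup_right hf) ?_
      rw [oneAdd_val, add_sub_cancel_left]
      exact LinearMap.mem_range_self _ _
  rw [hfix, hcom]
  have hPPv : ∀ m, P (P m) = P m := fun m => LinearMap.congr_fun hPP m
  refine ⟨?_, ?_⟩
  · set w := oneAdd a ha.sq * (oneAdd b' hb'.1.1)⁻¹ * oneAdd a ha.sq with hwdef
    have hw : w ∈ X := by
      have he : oneAdd a ha.sq ∈ X := Subgroup.mem_sup_left ((mem_sameAction_iff hσ).2 (by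
        rw [oneAdd_val, add_sub_cancel_left]; exact self_mem_amod ha))
      exact mul_mem (mul_mem he (inv_mem (Subgroup.mem_sup_right hf))) he
    have hwv : (w : End k M) = 1 - P + (a - b') := by
      rw [hwdef, Units.val_mul, Units.val_mul, oneAdd_val, oneAdd_inv_val, hP]
      linear_combination (norm := noncomm_ring) ha.sq - N.aba
    have hiv : ((w * w : LinearMap.GeneralLinearGroup k M) : End k M) = 1 - P - P := by
      obtain ⟨p1, p2⟩ := hPA a (self_mem_amod ha)
      obtain ⟨p3, p4⟩ := hPB b' hb'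
      rw [Units.val_mul, hwv]
      linear_combination (norm := noncomm_ring) hPP - p1 - p2 + p3 + p4 + ha.sq + hB.sq + hP
    have hm : ∀ m ∈ LinearMap.range P, ((w * w : LinearMap.GeneralLinearGroup k M) : End k M) m = -m := by
      rintro _ ⟨n, rfl⟩
      rw [hiv, LinearMap.sub_apply, LinearMap.sub_apply, Module.End.one_apply, hPPv]
      abel
    have hm' : ∀ m ∈ LinearMap.ker P, ((w * w : LinearMap.GeneralLinearGroup k M) : End k M) m = m := by
      intro m hm
      rw [hiv, LinearMap.sub_apply, LinearMap.sub_apply, Module.End.one_apply, LinearMap.mem_ker.1 hm, sub_zero,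
        sub_zero]
    refine ⟨w * w, ⟨mul_mem hw hw, fun h => ?_, ?_, fun g hg => ?_, hm, hm'⟩, ?_⟩
    · have h2 : (2 : k) • P = 0 := by
        have := congrArg Units.val h
        rw [hiv, Units.val_one] at this
        rw [two_smul]
        linear_combination (norm := noncomm_ring) -this
      have hP0 : P = 0 := (smul_eq_zero.1 h2).resolve_left hk
      exact ha.ne_zero (by rw [← (hPA a (self_mem_amod ha)).1, hP0, zero_mul])
    · refine Units.ext ?_
      rw [Units.val_mul, hiv, Units.val_one]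
      linear_combination (norm := noncomm_ring) 4 • hPP
    · refine Units.ext ?_
      obtain ⟨g1, g2⟩ := hd g hg
      rw [Units.val_mul _ g, Units.val_mul g, hiv]
      linear_combination (norm := noncomm_ring) -g1 - g1 + g2 + g2
    · rintro j ⟨-, -, -, -, hj, hj'⟩
      refine Units.ext (LinearMap.ext fun m => ?_)
      have hk' : m - P m ∈ LinearMap.ker P := by rw [LinearMap.mem_ker, map_sub, hPPv, sub_self]
      rw [← sub_add_cancel m (P m), map_add, map_add, hj' _ hk', hm' _ hk', hj _ ⟨m, rfl⟩, hm _ ⟨m, rfl⟩]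
  · rw [isCompl_iff, disjoint_iff, codisjoint_iff]
    constructor
    · rw [Submodule.eq_bot_iff]
      rintro _ ⟨h1, m, rfl⟩
      have h1' : P (P m) = 0 := h1
      rwa [hPPv] at h1'
    · rw [Submodule.eq_top_iff']
      exact fun m => Submodule.mem_sup.2 ⟨m - P m, by rw [LinearMap.mem_ker, map_sub, hPPv, sub_self], P m,
        ⟨m, rfl⟩, sub_add_cancel _ _⟩

end Cfsg.Agent.Quad
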