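import Cfsg.Agent.Lib.Quad.Commutator

/-!
Two members of `Σ` generating a unipotent group: they commute or their commutator subgroup is
again a member.
-/

set_option autoImplicit false

namespace Cfsg.Agent.Quad

open Cfsg Module
open scoped commutatorElement

section Groups

variable {X : Type*} [Group X]

theorem commutator_sup_le {E F L : Subgroup X} (hE : ⁅E, E⁆ ≤ L) (hF : ⁅F, F⁆ ≤ L) (hEF : ⁅E, F⁆ ≤ L)
    (hc : ∀ l ∈ L, ∀ g ∈ E ⊔ F, l * g = g * l) : ⁅E ⊔ F, E ⊔ F⁆ ≤ L := by
  have hfe : ⁅F, E⁆ ≤ L := (Subgroup.commutator_comm F E).le.trans hEF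
  have gen : ∀ x ∈ (E : Set X) ∪ F, ∀ y ∈ (E : Set X) ∪ F, ⁅x, y⁆ ∈ L := by
    rintro x (hx | hx) y (hy | hy)
    · exact hE (Subgroup.commutator_mem_commutator hx hy)
    · exact hEF (Subgroup.commutator_mem_commutator hx hy)
    · exact hfe (Subgroup.commutator_mem_commutator hx hy)
    · exact hF (Subgroup.commutator_mem_commutator hx hy)
  have left : ∀ y, (∀ x ∈ (E : Set X) ∪ F, ⁅x, y⁆ ∈ L) → ∀ x ∈ E ⊔ F, ⁅x, y⁆ ∈ L := by
    intro y h x hx
    rw [Subgroup.sup_eq_closure] at hx hc
    induction hx using Subgroup.closure_induction with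
    | mem x hx => exact h x hx
    | one => simp
    | mul a b ha _ iha ihb =>
      have e : ⁅a * b, y⁆ = a * ⁅b, y⁆ * a⁻¹ * ⁅a, y⁆ := by simp only [commutatorElement_def]; group
      rw [e, ← hc _ ihb a ha, mul_inv_cancel_right]
      exact L.mul_mem ihb iha
    | inv a ha iha =>
      have e : ⁅a⁻¹, y⁆ = a⁻¹ * ⁅a, y⁆⁻¹ * a := by simp only [commutatorElement_def]; group
      rw [e, ← hc _ (L.inv_mem iha) a⁻¹ (Subgroup.inv_mem _ ha), inv_mul_cancel_right]
      exact L.inv_mem iha
  refine Subgroup.commutator_le.2 fun x hx y hy => left y (fun u hu => ?_) x hx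
  have huH : u ∈ E ⊔ F := hu.elim (fun h => Subgroup.mem_sup_left h) fun h => Subgroup.mem_sup_right h
  have hyu : ⁅y, u⁆ ∈ L := left u (fun v hv => gen v hv u hu) y hy
  rw [← commutatorElement_inv]
  exact L.inv_mem hyu

end Groups

variable {k : Type*} [Field k] {M : Type*} [AddCommGroup M] [Module k M]
variable {G : Subgroup (LinearMap.GeneralLinearGroup k M)}

theorem amod_congr {a b : End k M} (h : a = b) (ha : IsMinQ G a) (hb : IsMinQ G b) :
    amod ha = amod hb := by subst h; rfl

/-- The commutator of `1 + x` and `1 + y`. -/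
theorem commutator_val_of {g h : LinearMap.GeneralLinearGroup k M} {x y : End k M} (hxx : x * x = 0)
    (hyy : y * y = 0) (hg : (g : End k M) = 1 + x) (hh : (h : End k M) = 1 + y) :
    ((g * h * g⁻¹ * h⁻¹ : LinearMap.GeneralLinearGroup k M) : End k M) =
      1 + (x * y - y * x + y * x * y - x * y * x + x * y * x * y) := by
  simp only [Units.val_mul, hg, hh, inv_val_of_val hxx hg, inv_val_of_val hyy hh]
  linear_combination (norm := noncomm_ring) -hxx + hxx * y - hyy - x * hyy

variable [FiniteDimensional k M]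
variable {σ τ : LinearMap.GeneralLinearGroup k M}

theorem commutator_pair_val (hk : (2 : k) ≠ 0) (hσ : σ ∈ minimalQuadraticElements G)
    (hτ : τ ∈ minimalQuadraticElements G) (hU : UPair ((σ : End k M) - 1) ((τ : End k M) - 1))
    {e f : LinearMap.GeneralLinearGroup k M} (he : e ∈ sameActionSubgroup G σ)
    (hf : f ∈ sameActionSubgroup G τ) :
    ((e * f * e⁻¹ * f⁻¹ : LinearMap.GeneralLinearGroup k M) : End k M) - 1 =
      ((e : End k M) - 1) * ((f : End k M) - 1) - ((f : End k M) - 1) * ((e : End k M) - 1) := by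
  have hx := (mem_sameAction_iff hσ).1 he
  have hy := (mem_sameAction_iff hτ).1 hf
  have hU' := hU.amod hk hx hy
  rw [commutator_val_of hx.1.1 hy.1.1 (add_sub_cancel _ _).symm (add_sub_cancel _ _).symm,
    hU'.commutator_val, add_sub_cancel_left]

theorem sameAction_le (hσ : σ ∈ minimalQuadraticElements G) : sameActionSubgroup G σ ≤ G :=
  (Subgroup.closure_le G).2 fun _ h => h.1.1.1

theorem self_mem_sameAction (hσ : σ ∈ minimalQuadraticElements G) : σ ∈ sameActionSubgroup G σ :=
  Subgroup.subset_closure ⟨hσ, rfl, rfl⟩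

theorem sameAction_comm (hσ : σ ∈ minimalQuadraticElements G) :
    ⁅sameActionSubgroup G σ, sameActionSubgroup G σ⁆ = ⊥ := by
  refine le_bot_iff.1 (Subgroup.commutator_le.2 fun e he f hf => ?_)
  rw [Subgroup.mem_bot, commutatorElement_eq_one_iff_mul_comm]
  have hx := (mem_sameAction_iff hσ).1 he
  have hy := (mem_sameAction_iff hσ).1 hf
  refine Units.ext ?_
  rw [Units.val_mul, Units.val_mul]
  linear_combination (norm := noncomm_ring) mul_eq_zero_of_amod hx hy - mul_eq_zero_of_amod hy hx

theorem commutator_eq_bot_of_comm (hk : (2 : k) ≠ 0) (hσ : σ ∈ minimalQuadraticElements G)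
    (hτ : τ ∈ minimalQuadraticElements G)
    (h : ((σ : End k M) - 1) * ((τ : End k M) - 1) = ((τ : End k M) - 1) * ((σ : End k M) - 1)) :
    ⁅sameActionSubgroup G σ, sameActionSubgroup G τ⁆ = ⊥ := by
  refine le_bot_iff.1 (Subgroup.commutator_le.2 fun e he f hf => ?_)
  rw [Subgroup.mem_bot, commutatorElement_eq_one_iff_mul_comm]
  have h' := comm_amod_amod hk (isMinQ_of_mem hσ) (isMinQ_of_mem hτ) h ((mem_sameAction_iff hσ).1 he)
    ((mem_sameAction_iff hτ).1 hf)
  refine Units.ext ?_
  rw [Units.val_mul, Units.val_mul]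
  linear_combination (norm := noncomm_ring) h'

theorem nilpotent_of_unipotent (hσ : σ ∈ minimalQuadraticElements G)
    (hτ : τ ∈ minimalQuadraticElements G)
    (hu : IsUnipotentOn (sameActionSubgroup G σ ⊔ sameActionSubgroup G τ)) :
    IsNilpotent (((σ : End k M) - 1) * ((τ : End k M) - 1)) := by
  obtain ⟨n, -, hn⟩ := RootLib.isUnipotentOn_iff.1 hu
  refine ⟨n, ?_⟩
  have h := Submodule.mul_mem_mul
    (RootLib.sub_one_mem_augSpan (Subgroup.mem_sup_left (self_mem_sameAction hσ) :
      σ ∈ sameActionSubgroup G σ ⊔ sameActionSubgroup G τ))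
    (RootLib.sub_one_mem_augSpan (Subgroup.mem_sup_right (self_mem_sameAction hτ) :
      τ ∈ sameActionSubgroup G σ ⊔ sameActionSubgroup G τ))
  have h' := Submodule.pow_mem_pow _ (RootLib.augSpan_mul_self h) n
  rwa [hn, Submodule.mem_bot] at h'

theorem augSpan_sameAction_le (hσ : σ ∈ minimalQuadraticElements G) :
    RootLib.augSpan (sameActionSubgroup G σ) ≤ amod (isMinQ_of_mem hσ) :=
  Submodule.span_le.2 (by rintro _ ⟨g, hg, rfl⟩; exact (mem_sameAction_iff hσ).1 hg)

theorem isUnipotentOn_of_upair (hk : (2 : k) ≠ 0) (hσ : σ ∈ minimalQuadraticElements G)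
    (hτ : τ ∈ minimalQuadraticElements G) (hU : UPair ((σ : End k M) - 1) ((τ : End k M) - 1)) :
    IsUnipotentOn (sameActionSubgroup G σ ⊔ sameActionSubgroup G τ) := by
  set A := amod (isMinQ_of_mem hσ) with hA
  set B := amod (isMinQ_of_mem hτ) with hB
  have hAA : A * A = ⊥ := le_bot_iff.1 (Submodule.mul_le.2 fun x hx y hy => by
    simp [mul_eq_zero_of_amod hx hy])
  have hBB : B * B = ⊥ := le_bot_iff.1 (Submodule.mul_le.2 fun x hx y hy => by
    simp [mul_eq_zero_of_amod hx hy])
  have triple : ∀ P Q : Submodule k (End k M), (∀ x ∈ P, ∀ x' ∈ P, ∀ y ∈ Q, x * y * x' = 0) →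
      P * Q * P = ⊥ := fun P Q h => le_bot_iff.1 (Submodule.mul_le.2 fun p hp x hx => by
    rw [Submodule.mem_bot]
    induction hp using Submodule.mul_induction_on' with
    | mem_mul_mem m hm n hn => exact h m hm x hx n hn
    | add u _ v _ hu hv => rw [add_mul, hu, hv, add_zero])
  have hABA : A * B * A = ⊥ := triple A B fun x hx x' hx' y hy => by
    by_cases h0 : x' = 0
    · simp [h0]
    have e := (hU.amod hk hx' hy).aba
    refine LinearMap.ext fun m => ?_
    rw [Module.End.mul_apply, Module.End.mul_apply, LinearMap.zero_apply]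
    refine hx.2.2 ?_
    rw [← ker_eq_of_amod hx' h0, LinearMap.mem_ker]
    have := LinearMap.congr_fun e m
    simpa [Module.End.mul_apply] using this
  have hBAB : B * A * B = ⊥ := triple B A fun x hx x' hx' y hy => by
    by_cases h0 : x' = 0
    · simp [h0]
    have e := (hU.amod hk hy hx').bab
    refine LinearMap.ext fun m => ?_
    rw [Module.End.mul_apply, Module.End.mul_apply, LinearMap.zero_apply]
    refine hx.2.2 ?_
    rw [← ker_eq_of_amod hx' h0, LinearMap.mem_ker]
    have := LinearMap.congr_fun e m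
    simpa [Module.End.mul_apply] using this
  have hAA' : ∀ P : Submodule k (End k M), P * A * A = ⊥ := fun P => by
    rw [mul_assoc, hAA, Submodule.mul_bot]
  have hBB' : ∀ P : Submodule k (End k M), P * B * B = ⊥ := fun P => by
    rw [mul_assoc, hBB, Submodule.mul_bot]
  have hABA' : ∀ P : Submodule k (End k M), P * A * B * A = ⊥ := fun P => by
    rw [mul_assoc P A B, mul_assoc P (A * B) A, hABA, Submodule.mul_bot]
  have hBAB' : ∀ P : Submodule k (End k M), P * B * A * B = ⊥ := fun P => by
    rw [mul_assoc P B A, mul_assoc P (B * A) B, hBAB, Submodule.mul_bot]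
  set S1 := A ⊔ B ⊔ A * B ⊔ B * A with hS1
  set S2 := A * B ⊔ B * A with hS2
  have hmul : S1 * S1 ≤ S2 := by
    simp only [hS1, hS2, Submodule.mul_sup, Submodule.sup_mul, ← mul_assoc, hAA, hAA', hBB, hBB', hABA,
      hABA', hBAB, hBAB', Submodule.bot_mul, sup_le_iff, bot_le, le_sup_left, le_sup_right, and_self]
  have h12 : S2 ≤ S1 := sup_le (le_sup_right.trans le_sup_left) le_sup_right
  have h3 : S2 * S1 = ⊥ := by
    simp only [hS1, hS2, Submodule.mul_sup, Submodule.sup_mul, ← mul_assoc, hAA', hBB', hABA, hABA', hBAB,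
      hBAB', Submodule.bot_mul, bot_sup_eq]
  have hle := RootLib.sup_augSpan_le (hmul.trans h12)
    ((augSpan_sameAction_le hσ).trans (le_sup_left.trans (le_sup_left.trans le_sup_left)))
    ((augSpan_sameAction_le hτ).trans (le_sup_right.trans (le_sup_left.trans le_sup_left)))
  refine RootLib.isUnipotentOn_iff.2 ⟨3, by norm_num, le_bot_iff.1 ((pow_le_pow_left' hle 3).trans ?_)⟩
  rw [pow_succ, pow_two]
  exact (RootLib.mulRightLe hmul S1).trans h3.le

/-- The commutator case. -/
theorem commutator_case (hk2 : ringChar k ≠ 2) (hk3 : Nat.card k ≠ 3) (hirr : NoUnip G)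
    (hσ : σ ∈ minimalQuadraticElements G) (hτ : τ ∈ minimalQuadraticElements G)
    (hU : UPair ((σ : End k M) - 1) ((τ : End k M) - 1))
    (hne : ((σ : End k M) - 1) * ((τ : End k M) - 1) ≠ ((τ : End k M) - 1) * ((σ : End k M) - 1)) :
    ⁅sameActionSubgroup G σ, sameActionSubgroup G τ⁆ ∈ quadraticRootSubgroups G ∧
      (∀ e ∈ sameActionSubgroup G σ, e ≠ 1 →
        Subgroup.closure ((fun f : LinearMap.GeneralLinearGroup k M => e * f * e⁻¹ * f⁻¹) ''
          (sameActionSubgroup G τ : Set (LinearMap.GeneralLinearGroup k M))) =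
          ⁅sameActionSubgroup G σ, sameActionSubgroup G τ⁆) ∧
      (∀ f ∈ sameActionSubgroup G τ, f ≠ 1 →
        Subgroup.closure ((fun e : LinearMap.GeneralLinearGroup k M => e * f * e⁻¹ * f⁻¹) ''
          (sameActionSubgroup G σ : Set (LinearMap.GeneralLinearGroup k M))) =
          ⁅sameActionSubgroup G σ, sameActionSubgroup G τ⁆) ∧
      (∀ c ∈ ⁅sameActionSubgroup G σ, sameActionSubgroup G τ⁆,
        ∀ g ∈ sameActionSubgroup G σ ⊔ sameActionSubgroup G τ, c * g = g * c) ∧
      ⁅sameActionSubgroup G σ ⊔ sameActionSubgroup G τ, sameActionSubgroup G σ ⊔ sameActionSubgroup G τ⁆ ≠ ⊥ ∧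
      ⁅⁅sameActionSubgroup G σ ⊔ sameActionSubgroup G τ, sameActionSubgroup G σ ⊔ sameActionSubgroup G τ⁆,
        sameActionSubgroup G σ ⊔ sameActionSubgroup G τ⁆ = ⊥ ∧
      ((sameActionSubgroup G σ ⊔ sameActionSubgroup G τ : Subgroup (LinearMap.GeneralLinearGroup k M)) :
          Set (LinearMap.GeneralLinearGroup k M)) ⊆
        quadraticUnipotentCore G ⁅sameActionSubgroup G σ, sameActionSubgroup G τ⁆ := by
  have hk := Ring.two_ne_zero hk2
  set a := (σ : End k M) - 1 with hadef
  set b := (τ : End k M) - 1 with hbdef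
  have ha : IsMinQ G a := isMinQ_of_mem hσ
  have hb : IsMinQ G b := isMinQ_of_mem hτ
  have hz := hU.isMinQ ha hb hne
  obtain ⟨ζ, hζv⟩ : ∃ ζ : LinearMap.GeneralLinearGroup k M, (ζ : End k M) - 1 = a * b - b * a :=
    ⟨oneAdd _ hz.sq, by rw [oneAdd_val, add_sub_cancel_left]⟩
  have hζ : ζ ∈ minimalQuadraticElements G := mem_minimal_of_isMinQ (by rw [hζv]; exact hz)
  set E := sameActionSubgroup G σ with hEdef
  set F := sameActionSubgroup G τ with hFdef
  set L := sameActionSubgroup G ζ with hLdef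
  have hL : ∀ {g}, g ∈ L ↔ (g : End k M) - 1 ∈ amod hz := fun {g} => by
    rw [hLdef, mem_sameAction_iff hζ, amod_congr hζv (isMinQ_of_mem hζ) hz]
  have hEF : ⁅E, F⁆ ≤ L := Subgroup.commutator_le.2 fun e he f hf => by
    rw [commutatorElement_def, hL, commutator_pair_val hk hσ hτ hU he hf]
    exact hU.comm_mem hk hne ((mem_sameAction_iff hσ).1 he) ((mem_sameAction_iff hτ).1 hf)
  have himgE : ∀ e ∈ E, e ≠ 1 → ∀ l ∈ L, ∃ f ∈ F, e * f * e⁻¹ * f⁻¹ = l := by
    intro e he he1 l hl
    have hx := (mem_sameAction_iff hσ).1 he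
    have hx0 : (e : End k M) - 1 ≠ 0 := fun h => he1 (Units.ext (sub_eq_zero.1 h))
    have hX := isMinQ_of_amod hx hx0
    have hU' := hU.amod hk hx (self_mem_amod hb)
    have hn' : ((e : End k M) - 1) * b ≠ b * ((e : End k M) - 1) := fun h =>
      hne (comm_amod_amod hk hX hb h (by rw [amod_eq hx hx0]; exact self_mem_amod ha) (self_mem_amod hb))
    have hamod : amod (hU'.isMinQ hX hb hn') = amod hz :=
      amod_eq (hU.comm_mem hk hne hx (self_mem_amod hb)) (sub_ne_zero.2 hn') _
    obtain ⟨y, hy, hyl⟩ := exists_bracket hk2 hk3 hirr hU' hX hb hn' (hamod ▸ hL.1 hl)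
    have hf : oneAdd y hy.1.1 ∈ F := (mem_sameAction_iff hτ).2 (by rw [oneAdd_val, add_sub_cancel_left]; exact hy)
    refine ⟨_, hf, Units.ext (sub_left_injective (b := (1 : End k M)) ?_)⟩
    show _ - 1 = (l : End k M) - 1
    rw [commutator_pair_val hk hσ hτ hU he hf, oneAdd_val, add_sub_cancel_left, hyl]
  have himgF : ∀ f ∈ F, f ≠ 1 → ∀ l ∈ L, ∃ e ∈ E, e * f * e⁻¹ * f⁻¹ = l := by
    intro f hf hf1 l hl
    have hy := (mem_sameAction_iff hτ).1 hf
    have hy0 : (f : End k M) - 1 ≠ 0 := fun h => hf1 (Units.ext (sub_eq_zero.1 h))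
    have hY := isMinQ_of_amod hy hy0
    have hU' := (hU.amod hk (self_mem_amod ha) hy).symm
    have hn' : ((f : End k M) - 1) * a ≠ a * ((f : End k M) - 1) := fun h =>
      hne (comm_amod_amod hk hY ha h (by rw [amod_eq hy hy0]; exact self_mem_amod hb) (self_mem_amod ha)).symm
    have hmem : ((f : End k M) - 1) * a - a * ((f : End k M) - 1) ∈ amod hz := by
      have h' := neg_mem (hU.comm_mem hk hne (self_mem_amod ha) hy)
      rwa [neg_sub] at h'
    have hamod : amod (hU'.isMinQ hY ha hn') = amod hz := amod_eq hmem (sub_ne_zero.2 hn') _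
    have hl' : -((l : End k M) - 1) ∈ amod (hU'.isMinQ hY ha hn') := hamod ▸ neg_mem (hL.1 hl)
    obtain ⟨x, hx, hxl⟩ := exists_bracket hk2 hk3 hirr hU' hY ha hn' hl'
    have he : oneAdd x hx.1.1 ∈ E := (mem_sameAction_iff hσ).2 (by rw [oneAdd_val, add_sub_cancel_left]; exact hx)
    refine ⟨_, he, Units.ext (sub_left_injective (b := (1 : End k M)) ?_)⟩
    show _ - 1 = (l : End k M) - 1
    rw [commutator_pair_val hk hσ hτ hU he hf, oneAdd_val, add_sub_cancel_left, ← neg_sub, hxl, neg_neg]
  have hσ1 : σ ≠ 1 := fun h => ha.ne_zero (by rw [hadef, h, Units.val_one, sub_self])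
  have hEFL : ⁅E, F⁆ = L := le_antisymm hEF fun l hl => by
    obtain ⟨f, hf, rfl⟩ := himgE σ (self_mem_sameAction hσ) hσ1 l hl
    exact Subgroup.commutator_mem_commutator (self_mem_sameAction hσ) hf
  obtain ⟨z1, z2, z3, z4, -⟩ := hU.mul_zero_zero ha.sq hb.sq
  -- the three conditions defining `U(L)`
  have hP : ∀ g ∈ E ⊔ F, (a * b - b * a) * ((g : End k M) - 1) = 0 ∧
      ((g : End k M) - 1) * (a * b - b * a) = 0 ∧
      ∀ m, (a * b - b * a) m = 0 → ((g : End k M) - 1) m ∈ LinearMap.range (a * b - b * a) := by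
    have hker := hU.ker_eq ha hb hne
    have hran := hU.range_eq ha hb hne
    intro g hg
    rw [Subgroup.sup_eq_closure] at hg
    induction hg using Subgroup.closure_induction with
    | mem g hg =>
      rcases hg with hg | hg
      · have hx := (mem_sameAction_iff hσ).1 hg
        refine ⟨LinearMap.ext fun m => ?_, LinearMap.ext fun m => ?_, fun m hm => ?_⟩
        · obtain ⟨n, hn⟩ := hx.2.1 (LinearMap.mem_range_self _ m)
          rw [Module.End.mul_apply, ← hn, ← Module.End.mul_apply, z2]; simp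
        · exact hx.2.2 (LinearMap.congr_fun z1 m)
        · have hm' : m ∈ LinearMap.ker a ⊔ LinearMap.range b := by
            have : m ∈ LinearMap.ker (a * b - b * a) := hm
            rw [hker] at this
            exact this.1
          obtain ⟨p, hp, _, ⟨n, rfl⟩, rfl⟩ := Submodule.mem_sup.1 hm'
          rw [map_add, hx.2.2 hp, zero_add, hran]
          refine Submodule.mem_sup_left ⟨hx.2.1 (LinearMap.mem_range_self _ _), ?_⟩
          exact LinearMap.congr_fun (hU.amod hk hx (self_mem_amod hb)).bab n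
      · have hy := (mem_sameAction_iff hτ).1 hg
        refine ⟨LinearMap.ext fun m => ?_, LinearMap.ext fun m => ?_, fun m hm => ?_⟩
        · obtain ⟨n, hn⟩ := hy.2.1 (LinearMap.mem_range_self _ m)
          rw [Module.End.mul_apply, ← hn, ← Module.End.mul_apply, z4]; simp
        · exact hy.2.2 (LinearMap.congr_fun z3 m)
        · have hm' : m ∈ LinearMap.ker b ⊔ LinearMap.range a := by
            have : m ∈ LinearMap.ker (a * b - b * a) := hm
            rw [hker] at this
            exact this.2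
          obtain ⟨p, hp, _, ⟨n, rfl⟩, rfl⟩ := Submodule.mem_sup.1 hm'
          rw [map_add, hy.2.2 hp, zero_add, hran]
          refine Submodule.mem_sup_right ⟨hy.2.1 (LinearMap.mem_range_self _ _), ?_⟩
          exact LinearMap.congr_fun (hU.amod hk (self_mem_amod ha) hy).aba n
    | one => simp
    | mul u v _ _ hu hv =>
      have e : ((u * v : LinearMap.GeneralLinearGroup k M) : End k M) - 1 =
          ((u : End k M) - 1) + ((v : End k M) - 1) + ((u : End k M) - 1) * ((v : End k M) - 1) := by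
        rw [Units.val_mul]; noncomm_ring
      refine ⟨?_, ?_, fun m hm => ?_⟩
      · rw [e, mul_add, mul_add, hu.1, hv.1, ← mul_assoc, hu.1, zero_mul, add_zero, add_zero]
      · rw [e, add_mul, add_mul, hu.2.1, hv.2.1, mul_assoc, hv.2.1, mul_zero, add_zero, add_zero]
      · rw [e, LinearMap.add_apply, LinearMap.add_apply, Module.End.mul_apply]
        refine add_mem (add_mem (hu.2.2 m hm) (hv.2.2 m hm)) (hu.2.2 _ ?_)
        rw [← Module.End.mul_apply, hv.1, LinearMap.zero_apply]
    | inv u _ hu =>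
      set ui := ((u⁻¹ : LinearMap.GeneralLinearGroup k M) : End k M) with hui
      have e1 : ui - 1 = -(((u : End k M) - 1) * ui) := by
        rw [sub_mul, Units.mul_inv, one_mul, neg_sub]
      have e2 : ui - 1 = -(ui * ((u : End k M) - 1)) := by
        rw [mul_sub, Units.inv_mul, mul_one, neg_sub]
      refine ⟨?_, ?_, fun m hm => ?_⟩
      · rw [e1, mul_neg, ← mul_assoc, hu.1, zero_mul, neg_zero]
      · rw [e2, neg_mul, mul_assoc, hu.2.1, mul_zero, neg_zero]
      · have h0 : (a * b - b * a) (ui m) = 0 := by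
          have : (a * b - b * a) * ui = a * b - b * a := by
            rw [← sub_eq_zero, ← mul_sub_one, e1, mul_neg, ← mul_assoc, hu.1, zero_mul, neg_zero]
          rw [← Module.End.mul_apply, this, hm]
        rw [e1, LinearMap.neg_apply, Module.End.mul_apply]
        exact neg_mem (hu.2.2 _ h0)
  have hcen : ∀ c ∈ L, ∀ g ∈ E ⊔ F, c * g = g * c := by
    intro c hc g hg
    have hw := hL.1 hc
    obtain ⟨h1, h2, -⟩ := hP g hg
    have e1 : ((c : End k M) - 1) * ((g : End k M) - 1) = 0 :=
      LinearMap.ext fun m => hw.2.2 (LinearMap.congr_fun h1 m)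
    have e2 : ((g : End k M) - 1) * ((c : End k M) - 1) = 0 := by
      refine LinearMap.ext fun m => ?_
      obtain ⟨n, hn⟩ := hw.2.1 (LinearMap.mem_range_self _ m)
      rw [Module.End.mul_apply, ← hn, ← Module.End.mul_apply, h2]; simp
    refine Units.ext ?_
    rw [Units.val_mul, Units.val_mul]
    linear_combination (norm := noncomm_ring) e1 - e2
  have hder : ⁅E ⊔ F, E ⊔ F⁆ ≤ L :=
    commutator_sup_le (by rw [sameAction_comm hσ]; exact bot_le) (by rw [sameAction_comm hτ]; exact bot_le)
      hEF hcen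
  rw [hEFL]
  refine ⟨⟨ζ, hζ, rfl⟩, fun e he he1 => ?_, fun f hf hf1 => ?_, hcen, fun h0 => ?_, ?_, ?_⟩
  · refine le_antisymm ((Subgroup.closure_le L).2 ?_) fun l hl => ?_
    · rintro _ ⟨f, hf, rfl⟩
      exact hEF (Subgroup.commutator_mem_commutator he hf)
    · obtain ⟨f, hf, rfl⟩ := himgE e he he1 l hl
      exact Subgroup.subset_closure ⟨f, hf, rfl⟩
  · refine le_antisymm ((Subgroup.closure_le L).2 ?_) fun l hl => ?_
    · rintro _ ⟨e, he, rfl⟩
      exact hEF (Subgroup.commutator_mem_commutator he hf)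
    · obtain ⟨e, he, rfl⟩ := himgF f hf hf1 l hl
      exact Subgroup.subset_closure ⟨e, he, rfl⟩
  · have h : ζ ∈ ⁅E ⊔ F, E ⊔ F⁆ := by
      have : ⁅E, F⁆ ≤ ⁅E ⊔ F, E ⊔ F⁆ := Subgroup.commutator_mono le_sup_left le_sup_right
      exact this (hEFL ▸ self_mem_sameAction hζ)
    rw [h0, Subgroup.mem_bot] at h
    exact hz.ne_zero (by rw [← hζv, h, Units.val_one, sub_self])
  · refine le_bot_iff.1 (Subgroup.commutator_le.2 fun c hc g hg => ?_)
    rw [Subgroup.mem_bot, commutatorElement_eq_one_iff_mul_comm]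
    exact hcen c (hder hc) g hg
  · intro g hg
    obtain ⟨h1, h2, h3⟩ := hP g hg
    have hfix : ∀ {m}, m ∈ fixedSubmodule L ↔ (a * b - b * a) m = 0 := fun {m} => by
      simp only [fixedSubmodule, Submodule.mem_iInf, LinearMap.mem_ker]
      exact ⟨fun h => by rw [← hζv]; exact h ζ (self_mem_sameAction hζ), fun h l hl => (hL.1 hl).2.2 h⟩
    have hcom : commutatorSubmodule L = LinearMap.range (a * b - b * a) := by
      refine le_antisymm (iSup₂_le fun l hl => (hL.1 hl).2.1) ?_
      rw [← hζv]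
      exact le_iSup₂ (f := fun l (_ : l ∈ L) => LinearMap.range ((l : End k M) - 1)) ζ (self_mem_sameAction hζ)
    have hG' : g ∈ G := sup_le (sameAction_le hσ) (sameAction_le hτ) hg
    refine ⟨hG', ?_, fun m => ?_, fun m hm => ?_, fun m hm => ?_⟩
    · rw [Subgroup.mem_normalizer_iff]
      refine fun x => ⟨fun hx => ?_, fun hx => ?_⟩
      · rw [← hcen x hx g hg, mul_inv_cancel_right]; exact hx
      · have e : g * x * g⁻¹ = x := by
          have := hcen _ hx g hg
          rw [inv_mul_cancel_right, mul_assoc g x g⁻¹, ← mul_assoc g g] at this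
          have h' := congrArg (fun t => g⁻¹ * t) this
          simp only [← mul_assoc, inv_mul_cancel, one_mul] at h'
          exact h'.symm
        rwa [e] at hx
    · rw [hfix]
      exact LinearMap.congr_fun h1 m
    · rw [hcom]
      exact h3 m (hfix.1 hm)
    · rw [hcom] at hm
      obtain ⟨n, rfl⟩ := hm
      exact sub_eq_zero.1 (LinearMap.congr_fun h2 n)

omit [FiniteDimensional k M] in
/-- The consequence of class two used to see that the product is nilpotent. -/
theorem nilpotent_of_class_two (hk : (2 : k) ≠ 0) {a b : End k M} (ha : a * a = 0)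
    (h : ∀ s : k, (s = 1 ∨ s = -1) →
      ((s • a) * (s • b) - (s • b) * (s • a) + (s • b) * (s • a) * (s • b) - (s • a) * (s • b) * (s • a) +
        (s • a) * (s • b) * (s • a) * (s • b)) * a =
      a * ((s • a) * (s • b) - (s • b) * (s • a) + (s • b) * (s • a) * (s • b) - (s • a) * (s • b) * (s • a) +
        (s • a) * (s • b) * (s • a) * (s • b))) :
    IsNilpotent (a * b) := by
  have hp := h 1 (Or.inl rfl)
  have hm := h (-1) (Or.inr rfl)
  simp only [one_smul, neg_smul] at hp hm
  have e1 : a * b * a * b - b * a * b * a = 0 := by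
    have : (2 : k) • (a * b * a * b - b * a * b * a) = 0 := by
      rw [two_smul]
      linear_combination (norm := noncomm_ring) hm - hp + 2 • (ha * b * a) - 2 • (a * b * ha)
    exact (smul_eq_zero.1 this).resolve_left hk
  have e2 : a * b * a * b * a = 0 := by
    linear_combination (norm := noncomm_ring) ha * b * a * b - a * e1
  have e3 : a * b * a = 0 := by
    have : (2 : k) • ((2 : k) • (a * b * a)) = 0 := by
      simp only [two_smul]
      linear_combination (norm := noncomm_ring) hp + hm - 2 • e2 - b * ha - b * ha + ha * b + ha * b + 2 • (ha * b * a * b) + 4 • (b * ha)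
    exact (smul_eq_zero.1 ((smul_eq_zero.1 this).resolve_left hk)).resolve_left hk
  exact nilpotent_of_triple e3

theorem upair_of_classTwo (hk : (2 : k) ≠ 0) (hσ : σ ∈ minimalQuadraticElements G)
    (hτ : τ ∈ minimalQuadraticElements G)
    (h2 : ⁅⁅sameActionSubgroup G σ ⊔ sameActionSubgroup G τ, sameActionSubgroup G σ ⊔ sameActionSubgroup G τ⁆,
      sameActionSubgroup G σ ⊔ sameActionSubgroup G τ⁆ = ⊥) :
    UPair ((σ : End k M) - 1) ((τ : End k M) - 1) := by
  set a := (σ : End k M) - 1 with hadef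
  set b := (τ : End k M) - 1 with hbdef
  have ha : IsMinQ G a := isMinQ_of_mem hσ
  have hb : IsMinQ G b := isMinQ_of_mem hτ
  obtain ⟨p, q⟩ := triple_eq_zero hk ha hb (nilpotent_of_class_two hk ha.sq (b := b) fun s hs => by
    set e := oneAdd (s • a) (smul_mul_smul_zero ha.sq s s) with hedef
    set f := oneAdd (s • b) (smul_mul_smul_zero hb.sq s s) with hfdef
    have he : e ∈ sameActionSubgroup G σ := (mem_sameAction_iff hσ).2 (by
      rw [hedef, oneAdd_val, add_sub_cancel_left]
      exact Submodule.smul_mem _ s (self_mem_amod ha))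
    have hf : f ∈ sameActionSubgroup G τ := (mem_sameAction_iff hτ).2 (by
      rw [hfdef, oneAdd_val, add_sub_cancel_left]
      exact Submodule.smul_mem _ s (self_mem_amod hb))
    set H := sameActionSubgroup G σ ⊔ sameActionSubgroup G τ with hH
    have heH : e ∈ H := Subgroup.mem_sup_left he
    have hfH : f ∈ H := Subgroup.mem_sup_right hf
    have hσH : σ ∈ H := Subgroup.mem_sup_left (self_mem_sameAction hσ)
    have hc := Subgroup.commutator_mem_commutator (Subgroup.commutator_mem_commutator heH hfH) hσH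
    rw [h2, Subgroup.mem_bot, commutatorElement_eq_one_iff_mul_comm, commutatorElement_def] at hc
    have hv := congrArg (Units.val) hc
    rw [Units.val_mul, Units.val_mul _ (e * f * e⁻¹ * f⁻¹),
      commutator_val_of (smul_mul_smul_zero ha.sq s s) (smul_mul_smul_zero hb.sq s s) (oneAdd_val _ _) (oneAdd_val _ _),
      show (σ : End k M) = 1 + a by rw [hadef]; abel] at hv
    generalize (s • a) * (s • b) - (s • b) * (s • a) + (s • b) * (s • a) * (s • b) -
      (s • a) * (s • b) * (s • a) + (s • a) * (s • b) * (s • a) * (s • b) = Z at hv ⊢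
    linear_combination (norm := noncomm_ring) hv)
  exact ⟨p, q⟩

end Cfsg.Agent.Quad
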