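import Cfsg.Agent.Lib.Quad.RootPair
import Cfsg.Agent.Lib.Quad.Gen

/-!
The homomorphism from `SL₂` attached to a non-nilpotent pair.
-/

set_option autoImplicit false

namespace Cfsg.Agent.Quad

open Cfsg Module Polynomial

variable {k : Type*} [Field k] {M : Type*} [AddCommGroup M] [Module k M]

/-- Data making `a`, `b` the off diagonal matrix units over `R`. -/
structure Units2 (R : Type*) [CommRing R] (a b : End k M) where
  φ : R → End k M
  map_add : ∀ x y, φ (x + y) = φ x + φ y
  map_mul : ∀ x y, φ x * φ y = φ (x * y)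
  one_left : φ 1 * a = a
  one_right : φ 1 * b = b
  comm_left : ∀ x, a * φ x = φ x * a
  comm_right : ∀ x, b * φ x = φ x * b
  aa : a * a = 0
  bb : b * b = 0
  aba : a * b * a = a
  bab : b * a * b = b

namespace Units2

variable {R : Type*} [CommRing R] {a b : End k M} (d : Units2 R a b)

/-- The value on a matrix. -/
def val (g : Matrix.SpecialLinearGroup (Fin 2) R) : End k M :=
  1 - a * b - b * a + (d.φ (g.1 0 0) * (a * b) + d.φ (g.1 0 1) * a + d.φ (g.1 1 0) * b + d.φ (g.1 1 1) * (b * a))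

theorem map_zero : d.φ 0 = 0 := by
  have := d.map_add 0 0
  rwa [add_zero, left_eq_add] at this

theorem rules :
    (∀ q x, a * (d.φ q * x) = d.φ q * (a * x)) ∧ (∀ q x, b * (d.φ q * x) = d.φ q * (b * x)) ∧
      (∀ q q' x, d.φ q * (d.φ q' * x) = d.φ (q * q') * x) ∧ a * (b * a) = a ∧ b * (a * b) = b ∧
      a * (a * b) = 0 ∧ b * (b * a) = 0 := by
  refine ⟨fun q x => ?_, fun q x => ?_, fun q q' x => ?_, ?_, ?_, ?_, ?_⟩
  · rw [← mul_assoc, d.comm_left, mul_assoc]
  · rw [← mul_assoc, d.comm_right, mul_assoc]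
  · rw [← mul_assoc, d.map_mul]
  · rw [← mul_assoc, d.aba]
  · rw [← mul_assoc, d.bab]
  · rw [← mul_assoc, d.aa, zero_mul]
  · rw [← mul_assoc, d.bb, zero_mul]

theorem val_one : d.val 1 = 1 := by
  have h1 : d.φ 1 * (a * b) = a * b := by rw [← mul_assoc, d.one_left]
  have h2 : d.φ 1 * (b * a) = b * a := by rw [← mul_assoc, d.one_right]
  simp only [val, Matrix.SpecialLinearGroup.coe_one, Matrix.one_apply_eq, ne_eq, zero_ne_one, one_ne_zero,
    not_false_eq_true, Matrix.one_apply_ne, d.map_zero, zero_mul, h1, h2]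
  abel

theorem val_mul (g h : Matrix.SpecialLinearGroup (Fin 2) R) : d.val (g * h) = d.val g * d.val h := by
  obtain ⟨e1, e2, e3, f1, f2, f3, f4⟩ := d.rules
  have g1 : a * (b * (a * b)) = a * b := by rw [f2]
  have g2 : b * (a * (b * a)) = b * a := by rw [f1]
  have g3 : a * (b * (b * a)) = 0 := by rw [f4, mul_zero]
  have g4 : b * (a * (a * b)) = 0 := by rw [f3, mul_zero]
  simp only [val, sl_mul_apply, mul_add, add_mul, mul_sub, sub_mul, one_mul, mul_one, mul_assoc, e1, e2,
    e3, f1, f2, f3, f4, g1, g2, g3, g4, d.aa, d.bb, mul_zero, d.map_add, sub_zero, zero_sub, add_zero,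
    zero_add]
  abel

/-- As a homomorphism into the general linear group. -/
def hom : Matrix.SpecialLinearGroup (Fin 2) R →* LinearMap.GeneralLinearGroup k M :=
  MonoidHom.toHomUnits { toFun := d.val, map_one' := d.val_one, map_mul' := d.val_mul }

@[simp] theorem hom_val (g : Matrix.SpecialLinearGroup (Fin 2) R) : (d.hom g : End k M) = d.val g := rfl

theorem val_uG (t : R) : d.val (uG t) = 1 + d.φ t * a := by
  have h1 : d.φ 1 * (a * b) = a * b := by rw [← mul_assoc, d.one_left]
  have h2 : d.φ 1 * (b * a) = b * a := by rw [← mul_assoc, d.one_right]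
  simp only [val, uG_00, uG_01, uG_10, uG_11, d.map_zero, zero_mul, h1, h2]
  abel

theorem val_lG (t : R) : d.val (lG t) = 1 + d.φ t * b := by
  have h1 : d.φ 1 * (a * b) = a * b := by rw [← mul_assoc, d.one_left]
  have h2 : d.φ 1 * (b * a) = b * a := by rw [← mul_assoc, d.one_right]
  simp only [val, lG_00, lG_01, lG_10, lG_11, d.map_zero, zero_mul, h1, h2]
  abel

theorem injective (hinj : ∀ x, d.φ x * a = 0 → x = 0) : Function.Injective d.hom := by
  rw [injective_iff_map_eq_one]
  intro g hg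
  have hv : d.val g = 1 := by rw [← d.hom_val, hg, Units.val_one]
  obtain ⟨e1, e2, e3, f1, f2, f3, f4⟩ := d.rules
  have g1 : a * (b * (a * b)) = a * b := by rw [f2]
  have g2 : b * (a * (b * a)) = b * a := by rw [f1]
  have g3 : a * (b * (b * a)) = 0 := by rw [f4, mul_zero]
  have g4 : b * (a * (a * b)) = 0 := by rw [f3, mul_zero]
  have key : ∀ p q : End k M, p * d.val g * q = p * q := fun p q => by rw [hv, mul_one]
  have hinjb : ∀ x, d.φ x * b = 0 → x = 0 := fun x h => hinj x (by
    have h' : a * (d.φ x * b) * a = 0 := by rw [h, mul_zero, zero_mul]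
    simpa only [mul_assoc, e1, f1] using h')
  have k00 := key (a * b) a
  have k01 := key (a * b) (b * a)
  have k10 := key (b * a) (a * b)
  have k11 := key (b * a) b
  simp only [val, mul_add, add_mul, mul_sub, sub_mul, one_mul, mul_one, mul_assoc, e1, e2, e3, f1, f2,
    f3, f4, g1, g2, g3, g4, d.aa, d.bb, mul_zero, sub_zero, zero_sub, add_zero, zero_add, sub_self]
    at k00 k01 k10 k11
  refine sl_ext ?_ ?_ ?_ ?_
  · refine sub_eq_zero.1 (hinj _ ?_)
    have h := d.map_add (g.1 0 0 - 1) 1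
    rw [sub_add_cancel] at h
    rw [h, add_mul, d.one_left, add_eq_right] at k00
    simpa using k00
  · simpa using hinj _ k01
  · simpa using hinjb _ k10
  · refine sub_eq_zero.1 (hinjb _ ?_)
    have h := d.map_add (g.1 1 1 - 1) 1
    rw [sub_add_cancel] at h
    rw [h, add_mul, d.one_right, add_eq_right] at k11
    simpa using k11

end Units2

variable [FiniteDimensional k M] {G : Subgroup (LinearMap.GeneralLinearGroup k M)} {a b : End k M}

/-- The field of a non-nilpotent pair, its partner and the matrix units. -/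
theorem exists_units2 (hk2 : ringChar k ≠ 2) (hk3 : Nat.card k ≠ 3) (ha : IsMinQ G a) (hb : IsMinQ G b)
    (hn : ¬ IsNilpotent (a * b)) :
    ∃ (f : k[X]) (_ : Fact (Irreducible f)) (b' : End k M) (d : Units2 (AdjoinRoot f) a b'),
      AdjoinRoot.root f ≠ 0 ∧ b' ∈ amod hb ∧ (∀ x, d.φ x * a = 0 → x = 0) ∧
      (∀ x, d.φ x * a ∈ amod ha) ∧ (∀ x, d.φ x * b' ∈ amod hb) ∧
      (∀ s : k, d.φ (algebraMap k _ s) * a = s • a) ∧
      (∀ s : k, d.φ (algebraMap k _ s * AdjoinRoot.root f) * b' = s • b) := by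
  obtain ⟨f, P⟩ := exists_pairField hk2 hk3 ha hb hn
  obtain ⟨b', hb', N⟩ := exists_nrm hk2 hk3 ha hb hn
  have hb'0 : b' ≠ 0 := fun e => ha.ne_zero (by rw [← N.aba, e, mul_zero, zero_mul])
  have hbq := isMinQ_of_amod hb' hb'0
  have hba : b ∈ amod hbq := by rw [amod_eq hb' hb'0]; exact self_mem_amod hb
  obtain ⟨c, hc⟩ : ∃ c, c = a * b + b * a := ⟨_, rfl⟩
  obtain ⟨P', hP'⟩ : ∃ P', P' = a * b' + b' * a := ⟨_, rfl⟩
  obtain ⟨hca, hcb⟩ := commute_anticomm ha.sq hb.sq
  rw [← hc] at hca hcb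
  have hcb' : c * b' = b := by
    rw [hc, add_mul, mul_assoc a, mul_eq_zero_of_amod (self_mem_amod hb) hb', mul_zero, zero_add, mul_assoc]
    exact (Nrm.symm N).right_id hba
  have hb'c : b' * c = b := by
    rw [hc, mul_add, ← mul_assoc b' b a, mul_eq_zero_of_amod hb' (self_mem_amod hb), zero_mul, add_zero,
      ← mul_assoc]
    exact (Nrm.symm N).left_id hba
  have hcb'' : Commute b' c := hb'c.trans hcb'.symm
  have hPc : Commute c P' := by
    rw [hP']
    exact (hca.symm.mul_right hcb''.symm).add_right (hcb''.symm.mul_right hca.symm)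
  have hPa : P' * a = a ∧ a * P' = a := by
    rw [hP']
    constructor
    · rw [add_mul, N.aba, mul_assoc b', ha.sq, mul_zero, add_zero]
    · rw [mul_add, ← mul_assoc, ← mul_assoc, ha.sq, zero_mul, zero_add, N.aba]
  have hPb : P' * b' = b' ∧ b' * P' = b' := by
    rw [hP']
    constructor
    · rw [add_mul, mul_assoc a, hbq.sq, mul_zero, zero_add, N.bab]
    · rw [mul_add, ← mul_assoc, ← mul_assoc, hbq.sq, zero_mul, add_zero, N.bab]
  have hfa : aeval c f * a = 0 := hc ▸ P.killed_left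
  have hfb : aeval c f * b = 0 := hc ▸ P.killed_right
  have hfb' : aeval c f * b' = 0 := LinearMap.ext fun m => by
    obtain ⟨n, hn⟩ := hb'.2.1 (LinearMap.mem_range_self b' m)
    rw [Module.End.mul_apply, ← hn, ← Module.End.mul_apply, hfb]
    simp
  have hfP : aeval c f * P' = 0 := by
    rw [hP', mul_add, ← mul_assoc, ← mul_assoc, hfa, hfb', zero_mul, zero_mul, add_zero]
  set K := AdjoinRoot f
  obtain ⟨r, hr⟩ : ∃ r : K → k[X], ∀ x, AdjoinRoot.mk f (r x) = x :=
    ⟨fun x => (AdjoinRoot.mk_surjective x).choose, fun x => (AdjoinRoot.mk_surjective x).choose_spec⟩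
  have hwd : ∀ x q, AdjoinRoot.mk f q = x → aeval c (r x) * P' = aeval c q * P' := by
    intro x q hq
    obtain ⟨t, ht⟩ : f ∣ r x - q := AdjoinRoot.mk_eq_zero.1 (by rw [map_sub, hr, hq, sub_self])
    rw [← sub_eq_zero, ← sub_mul, ← map_sub, ht, mul_comm, map_mul, mul_assoc, hfP, mul_zero]
  have hPP : P' * P' = P' := by
    nth_rewrite 2 [hP']
    rw [mul_add, ← mul_assoc, ← mul_assoc, hPa.1, hPb.1, hP']
  have hX : f ≠ 0 ∧ Irreducible f := ⟨P.monic.ne_zero, P.irreducible⟩
  have : Fact (Irreducible f) := ⟨P.irreducible⟩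
  let d : Units2 K a b' :=
    { φ := fun x => aeval c (r x) * P'
      map_add := fun x y => by
        rw [hwd (x + y) (r x + r y) (by rw [map_add, hr, hr]), map_add, add_mul]
      map_mul := fun x y => by
        rw [hwd (x * y) (r x * r y) (by rw [map_mul, hr, hr]), map_mul, mul_assoc, ← mul_assoc P',
          (commute_ev hPc.symm (r y)).eq, mul_assoc (aeval c (r y)), hPP, mul_assoc]
      one_left := by rw [hwd 1 1 (map_one _), map_one, one_mul, hPa.1]
      one_right := by rw [hwd 1 1 (map_one _), map_one, one_mul, hPb.1]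
      comm_left := fun x => by
        rw [← mul_assoc, (commute_ev hca (r x)).eq, mul_assoc, mul_assoc, hPa.1, hPa.2]
      comm_right := fun x => by
        rw [← mul_assoc, (commute_ev hcb'' (r x)).eq, mul_assoc, mul_assoc, hPb.1, hPb.2]
      aa := ha.sq
      bb := hbq.sq
      aba := N.aba
      bab := N.bab }
  have hda : ∀ x, d.φ x * a = aeval c (r x) * a := fun x => by
    show aeval c (r x) * P' * a = _
    rw [mul_assoc, hPa.1]
  have hdb : ∀ x, d.φ x * b' = aeval c (r x) * b' := fun x => by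
    show aeval c (r x) * P' * b' = _
    rw [mul_assoc, hPb.1]
  have hroot : AdjoinRoot.root f ≠ 0 := by
    rw [← AdjoinRoot.mk_X, Ne, AdjoinRoot.mk_eq_zero]
    exact fun h => P.not_dvd (P.irreducible.associated_of_dvd irreducible_X h).symm.dvd
  have halg : ∀ s : k, aeval c (r (algebraMap k K s)) * P' = s • P' := fun s => by
    rw [hwd _ (Polynomial.C s) (by rw [AdjoinRoot.mk_C, AdjoinRoot.algebraMap_eq]), aeval_C,
      Algebra.algebraMap_eq_smul_one, smul_mul_assoc, one_mul]
  refine ⟨f, this, b', d, hroot, hb', fun x hx => ?_, fun x => ?_, fun x => ?_, fun s => ?_, fun s => ?_⟩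
  · by_contra hx0
    have h1 : d.φ (x⁻¹ * x) * a = 0 := by rw [← d.map_mul, mul_assoc, hx, mul_zero]
    rw [inv_mul_cancel₀ hx0, d.one_left] at h1
    exact ha.ne_zero h1
  · rw [hda]
    refine ⟨hc ▸ P.qe_left (r x), ?_, fun m hm => ?_⟩
    · rw [← (commute_ev hca (r x)).eq]; exact LinearMap.range_comp_le_range _ _
    · rw [LinearMap.mem_ker, Module.End.mul_apply, LinearMap.mem_ker.1 hm, map_zero]
  · obtain ⟨y, hy⟩ : ∃ y, x = y * AdjoinRoot.root f := ⟨x * (AdjoinRoot.root f)⁻¹, by
      rw [mul_assoc, inv_mul_cancel₀ hroot, mul_one]⟩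
    have e : d.φ x * b' = aeval c (r y) * b := by
      show aeval c (r x) * P' * b' = _
      rw [hwd x (r y * Polynomial.X) (by rw [map_mul, hr, AdjoinRoot.mk_X, hy]), map_mul, aeval_X,
        mul_assoc, hPb.1, mul_assoc, hcb']
    rw [e]
    refine ⟨hc ▸ P.qe_right (r y), ?_, fun m hm => ?_⟩
    · rw [← (commute_ev hcb (r y)).eq]; exact LinearMap.range_comp_le_range _ _
    · rw [LinearMap.mem_ker, Module.End.mul_apply, LinearMap.mem_ker.1 hm, map_zero]
  · show aeval c (r _) * P' * a = _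
    rw [halg, smul_mul_assoc, hPa.1]
  · show aeval c (r _) * P' * b' = _
    rw [hwd _ (Polynomial.C s * Polynomial.X) (by rw [map_mul, AdjoinRoot.mk_C, AdjoinRoot.mk_X,
      AdjoinRoot.algebraMap_eq]), map_mul, aeval_X, aeval_C, Algebra.algebraMap_eq_smul_one,
      smul_mul_assoc, one_mul, mul_assoc, hPb.1, smul_mul_assoc, hcb']

omit [FiniteDimensional k M] in
theorem closure_scalarFamilies (σ τ : LinearMap.GeneralLinearGroup k M) :
    Subgroup.closure (scalarFamily σ ∪ scalarFamily τ) =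
      oneParam ((σ : End k M) - 1) ⊔ oneParam ((τ : End k M) - 1) :=
  Subgroup.closure_union _ _

theorem not_nilpotent_of_not_unipotent (hk : (2 : k) ≠ 0) {σ τ : LinearMap.GeneralLinearGroup k M}
    (hσ : σ ∈ minimalQuadraticElements G) (hτ : τ ∈ minimalQuadraticElements G)
    (hH : ¬ IsUnipotentOn (Subgroup.closure (scalarFamily σ ∪ scalarFamily τ))) :
    ¬ IsNilpotent (((σ : End k M) - 1) * ((τ : End k M) - 1)) := by
  intro h
  refine hH ?_
  rw [closure_scalarFamilies]
  obtain ⟨p, q⟩ := triple_eq_zero hk (isMinQ_of_mem hσ) (isMinQ_of_mem hτ) h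
  exact isUnipotentOn_upair (isMinQ_of_mem hσ).sq (isMinQ_of_mem hτ).sq ⟨p, q⟩

/-- The image of `SL₂` is the group of the two one-parameter groups. -/
theorem Units2.range_eq (hk2 : ringChar k ≠ 2) (hk3 : Nat.card k ≠ 3) {f : k[X]} [Fact (Irreducible f)]
    {b' : End k M} (d : Units2 (AdjoinRoot f) a b') (hroot : AdjoinRoot.root f ≠ 0)
    (h1 : ∀ s : k, d.φ (algebraMap k _ s) * a = s • a)
    (h2 : ∀ s : k, d.φ (algebraMap k _ s * AdjoinRoot.root f) * b' = s • b) :
    d.hom.range = oneParam a ⊔ oneParam b := by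
  have hint : IsIntegral k (AdjoinRoot.root f) :=
    AdjoinRoot.isIntegral_root (Fact.out : Irreducible f).ne_zero
  have hgen : Algebra.adjoin k ({AdjoinRoot.root f} : Set (AdjoinRoot f)) = ⊤ := AdjoinRoot.adjoinRoot_eq_top
  rw [MonoidHom.range_eq_map, ← gam_top hk2 hk3 hroot hint hgen, gam, MonoidHom.map_closure, oneParam,
    oneParam, ← Subgroup.closure_union, Set.image_union]
  congr 2
  · ext g
    constructor
    · rintro ⟨_, ⟨s, rfl⟩, rfl⟩
      exact ⟨s, by rw [d.hom_val, d.val_uG, h1]⟩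
    · rintro ⟨s, hs⟩
      exact ⟨uG (algebraMap k _ s), ⟨s, rfl⟩, Units.ext (by rw [d.hom_val, d.val_uG, h1, hs])⟩
  · ext g
    constructor
    · rintro ⟨_, ⟨s, rfl⟩, rfl⟩
      exact ⟨s, by rw [d.hom_val, d.val_lG, h2]⟩
    · rintro ⟨s, hs⟩
      exact ⟨lG (algebraMap k _ s * AdjoinRoot.root f), ⟨s, rfl⟩,
        Units.ext (by rw [d.hom_val, d.val_lG, h2, hs])⟩

end Cfsg.Agent.Quad
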