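import Cfsg.Agent.Lib.Quad.RankOne
import Cfsg.Agent.Lib.Quad.SLHom
import Cfsg.Agent.Lib.Root.SetsMore

/-!
`Σ(G)` as a set of abstract root subgroups of the group it generates.
-/

set_option autoImplicit false

namespace Cfsg.Agent.Quad

open Cfsg Module
open scoped commutatorElement

section Transfer

variable {X : Type*} [Group X] {H A B : Subgroup X}

theorem rankOneCondition_subgroupOf (hA : A ≤ H) (hB : B ≤ H) (h : RankOneCondition A B) :
    RankOneCondition (A.subgroupOf H) (B.subgroupOf H) := by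
  intro a ha ha1
  obtain ⟨b, hb, hb1, he⟩ := h a (Subgroup.mem_subgroupOf.1 ha) (fun e => ha1 (Subtype.ext e))
  refine ⟨⟨b, hB hb⟩, Subgroup.mem_subgroupOf.2 hb, fun e => hb1 (congrArg Subtype.val e), ?_⟩
  refine Subgroup.map_injective H.subtype_injective ?_
  rw [RootLib.map_conjBy, RootLib.map_conjBy, Subgroup.map_subgroupOf_eq_of_le hA,
    Subgroup.map_subgroupOf_eq_of_le hB, map_inv, map_inv]
  exact he

theorem isRankOnePair_subgroupOf (hA : A ≤ H) (hB : B ≤ H) (h : IsRankOnePair A B) :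
    IsRankOnePair (A.subgroupOf H) (B.subgroupOf H) := by
  refine ⟨fun e => h.ne ?_, ?_, ?_, rankOneCondition_subgroupOf hA hB h.cond_left,
    rankOneCondition_subgroupOf hB hA h.cond_right⟩
  · rw [← Subgroup.map_subgroupOf_eq_of_le hA, e, Subgroup.map_subgroupOf_eq_of_le hB]
  · have := h.nilpotent_left
    exact Group.nilpotent_of_mulEquiv (Subgroup.subgroupOfEquivOfLe hA).symm
  · have := h.nilpotent_right
    exact Group.nilpotent_of_mulEquiv (Subgroup.subgroupOfEquivOfLe hB).symm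

theorem commutatorCase_subgroupOf {S : Set (Subgroup X)} (hS : ∀ C ∈ S, C ≤ H) (hA : A ∈ S) (hB : B ∈ S)
    (h : RootCommutatorCase S A B) :
    RootCommutatorCase ((fun C : Subgroup X => C.subgroupOf H) '' S) (A.subgroupOf H) (B.subgroupOf H) := by
  obtain ⟨h1, h2, h3, h4⟩ := h
  have e : ⁅A.subgroupOf H, B.subgroupOf H⁆ = (⁅A, B⁆).subgroupOf H := by
    refine Subgroup.map_injective H.subtype_injective ?_
    rw [Subgroup.map_commutator, Subgroup.map_subgroupOf_eq_of_le (hS A hA),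
      Subgroup.map_subgroupOf_eq_of_le (hS B hB), Subgroup.map_subgroupOf_eq_of_le (hS _ h1)]
  rw [RootCommutatorCase, e]
  refine ⟨⟨_, h1, rfl⟩, fun c hc x hx => Subtype.ext (h2 _ hc _ ?_), fun a ha ha1 => ?_, fun b hb hb1 => ?_⟩
  · have : x.1 ∈ (A.subgroupOf H ⊔ B.subgroupOf H).map H.subtype := ⟨x, hx, rfl⟩
    rwa [Subgroup.map_sup, Subgroup.map_subgroupOf_eq_of_le (hS A hA),
      Subgroup.map_subgroupOf_eq_of_le (hS B hB)] at this
  · refine Subgroup.map_injective H.subtype_injective ?_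
    rw [MonoidHom.map_closure, Subgroup.map_subgroupOf_eq_of_le (hS _ h1),
      ← h3 a ha (fun e => ha1 (Subtype.ext e)), Set.image_image]
    congr 1
    ext g
    exact ⟨fun ⟨b, hb, hg⟩ => ⟨b.1, hb, hg⟩, fun ⟨b, hb, hg⟩ => ⟨⟨b, hS B hB hb⟩, hb, hg⟩⟩
  · refine Subgroup.map_injective H.subtype_injective ?_
    rw [MonoidHom.map_closure, Subgroup.map_subgroupOf_eq_of_le (hS _ h1),
      ← h4 b hb (fun e => hb1 (Subtype.ext e)), Set.image_image]
    congr 1
    ext g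
    exact ⟨fun ⟨a, ha, hg⟩ => ⟨a.1, ha, hg⟩, fun ⟨a, ha, hg⟩ => ⟨⟨a, hS A hA ha⟩, ha, hg⟩⟩

/-- A set of root subgroups of the subgroup generated by a conjugation invariant family. -/
theorem isRootSubgroupSet_subgroupOf {S : Set (Subgroup X)} (hS : ∀ C ∈ S, C ≤ H) (hH : (⨆ C ∈ S, C) = H)
    (hcomm : ∀ C ∈ S, IsMulCommutative C) (hne : ∀ C ∈ S, C ≠ ⊥) (hconj : ∀ C ∈ S, ∀ g ∈ H, conjBy C g ∈ S)
    (hpair : ∀ C ∈ S, ∀ D ∈ S, ⁅C, D⁆ = ⊥ ∨ IsRankOnePair C D ∨ RootCommutatorCase S C D) :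
    IsRootSubgroupSet ((fun C : Subgroup X => C.subgroupOf H) '' S) := by
  refine ⟨?_, ?_, ?_, ?_, ?_⟩
  · rintro _ ⟨C, hC, rfl⟩
    have := hcomm C hC
    refine ⟨⟨fun x y => Subtype.ext (Subtype.ext ?_)⟩⟩
    exact congrArg (Subtype.val : C → X) (this.is_comm.comm ⟨x.1.1, Subgroup.mem_subgroupOf.1 x.2⟩
      ⟨y.1.1, Subgroup.mem_subgroupOf.1 y.2⟩)
  · rintro _ ⟨C, hC, rfl⟩ h
    refine hne C hC ?_
    rw [← Subgroup.map_subgroupOf_eq_of_le (hS C hC)]
    rw [show C.subgroupOf H = ⊥ from h, Subgroup.map_bot]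
  · refine Subgroup.map_injective H.subtype_injective ?_
    rw [iSup_image, Subgroup.map_iSup, ← MonoidHom.range_eq_map, Subgroup.range_subtype]
    refine le_antisymm (iSup_le fun C => ?_) (hH.ge.trans (iSup₂_le fun C hC => ?_))
    · rw [Subgroup.map_iSup]
      exact iSup_le fun hC => Subgroup.map_subtype_le _
    · refine le_iSup_of_le C ?_
      rw [Subgroup.map_iSup]
      exact le_iSup_of_le hC (Subgroup.map_subgroupOf_eq_of_le (hS C hC)).ge
  · rintro _ ⟨C, hC, rfl⟩ g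
    refine ⟨conjBy C g, hconj C hC g g.2, Subgroup.map_injective H.subtype_injective ?_⟩
    rw [RootLib.map_conjBy, Subgroup.map_subgroupOf_eq_of_le (hS C hC),
      Subgroup.map_subgroupOf_eq_of_le (hS _ (hconj C hC g g.2))]
    rfl
  · rintro _ ⟨C, hC, rfl⟩ _ ⟨D, hD, rfl⟩
    rcases hpair C hC D hD with h | h | h
    · refine Or.inl (Subgroup.map_injective H.subtype_injective ?_)
      rw [Subgroup.map_commutator, Subgroup.map_subgroupOf_eq_of_le (hS C hC),
        Subgroup.map_subgroupOf_eq_of_le (hS D hD), h, Subgroup.map_bot]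
    · exact Or.inr (Or.inl (isRankOnePair_subgroupOf (hS C hC) (hS D hD) h))
    · exact Or.inr (Or.inr (commutatorCase_subgroupOf hS hC hD h))

end Transfer

variable {k : Type*} [Field k] {M : Type*} [AddCommGroup M] [Module k M] [FiniteDimensional k M]
variable {G : Subgroup (LinearMap.GeneralLinearGroup k M)} {σ τ : LinearMap.GeneralLinearGroup k M}

theorem conj_mem_amod {a x : End k M} {ha : IsMinQ G a} (hx : x ∈ amod ha)
    {g : LinearMap.GeneralLinearGroup k M} (hg : g ∈ G) :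
    (g : End k M) * x * ((g⁻¹ : LinearMap.GeneralLinearGroup k M) : End k M) ∈ amod (ha.conj hg) := by
  set gi : End k M := ((g⁻¹ : LinearMap.GeneralLinearGroup k M) : End k M) with hgi
  refine ⟨hx.1.conj hg, ?_, fun m hm => ?_⟩
  · rintro _ ⟨m, rfl⟩
    obtain ⟨n, hn⟩ := hx.2.1 (LinearMap.mem_range_self x (gi m))
    refine ⟨(g : End k M) n, ?_⟩
    have e : gi ((g : End k M) n) = n := by
      rw [← Module.End.mul_apply, hgi, Units.inv_mul]; rfl
    rw [Module.End.mul_apply, Module.End.mul_apply, e, hn]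
    rfl
  · rw [LinearMap.mem_ker, Module.End.mul_apply, Module.End.mul_apply] at hm
    have h1 : a (gi m) = 0 := by
      have := congrArg gi hm
      rwa [map_zero, ← Module.End.mul_apply, hgi, Units.inv_mul, Module.End.one_apply] at this
    rw [LinearMap.mem_ker, Module.End.mul_apply, Module.End.mul_apply, LinearMap.mem_ker.1 (hx.2.2 h1), map_zero]

omit [FiniteDimensional k M] in
theorem conj_sub_one (σ g : LinearMap.GeneralLinearGroup k M) :
    ((g * σ * g⁻¹ : LinearMap.GeneralLinearGroup k M) : End k M) - 1 =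
      (g : End k M) * ((σ : End k M) - 1) * ((g⁻¹ : LinearMap.GeneralLinearGroup k M) : End k M) := by
  rw [mul_sub, mul_one, sub_mul, Units.mul_inv, Units.val_mul, Units.val_mul]

theorem conj_mem_minimal (hσ : σ ∈ minimalQuadraticElements G) {g : LinearMap.GeneralLinearGroup k M}
    (hg : g ∈ G) : g * σ * g⁻¹ ∈ minimalQuadraticElements G :=
  mem_minimal_of_isMinQ (by rw [conj_sub_one]; exact (isMinQ_of_mem hσ).conj hg)

theorem conjBy_sameAction_le (hσ : σ ∈ minimalQuadraticElements G) {g : LinearMap.GeneralLinearGroup k M}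
    (hg : g ∈ G) : conjBy (sameActionSubgroup G σ) g ≤ sameActionSubgroup G (g * σ * g⁻¹) := by
  rintro _ ⟨u, hu, rfl⟩
  refine (mem_sameAction_iff (conj_mem_minimal hσ hg)).2 ?_
  rw [amod_congr (conj_sub_one σ g) (isMinQ_of_mem (conj_mem_minimal hσ hg)) ((isMinQ_of_mem hσ).conj hg)]
  show ((g * u * g⁻¹ : LinearMap.GeneralLinearGroup k M) : End k M) - 1 ∈ _
  rw [conj_sub_one]
  exact conj_mem_amod ((mem_sameAction_iff hσ).1 hu) hg

theorem conjBy_sameAction (hσ : σ ∈ minimalQuadraticElements G) {g : LinearMap.GeneralLinearGroup k M}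
    (hg : g ∈ G) : conjBy (sameActionSubgroup G σ) g = sameActionSubgroup G (g * σ * g⁻¹) := by
  refine le_antisymm (conjBy_sameAction_le hσ hg) fun u hu => ?_
  have := conjBy_sameAction_le (conj_mem_minimal hσ hg) (G.inv_mem hg) (RootLib.conjBy_mem_conjBy (g := g⁻¹) hu)
  rw [show g⁻¹ * (g * σ * g⁻¹) * g⁻¹⁻¹ = σ by group, inv_inv] at this
  exact RootLib.mem_conjBy.2 this

theorem quadraticRoot_le {A : Subgroup (LinearMap.GeneralLinearGroup k M)}
    (hA : A ∈ quadraticRootSubgroups G) : A ≤ G := by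
  obtain ⟨σ, hσ, rfl⟩ := hA
  exact sameAction_le hσ

theorem rootGroup_le : (⨆ A ∈ quadraticRootSubgroups G, A) ≤ G := iSup₂_le fun _ h => quadraticRoot_le h

theorem quadraticRoot_conj {A : Subgroup (LinearMap.GeneralLinearGroup k M)}
    (hA : A ∈ quadraticRootSubgroups G) {g : LinearMap.GeneralLinearGroup k M} (hg : g ∈ G) :
    conjBy A g ∈ quadraticRootSubgroups G := by
  obtain ⟨σ, hσ, rfl⟩ := hA
  exact ⟨_, conj_mem_minimal hσ hg, conjBy_sameAction hσ hg⟩

theorem quadraticRoot_ne_bot {A : Subgroup (LinearMap.GeneralLinearGroup k M)}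
    (hA : A ∈ quadraticRootSubgroups G) : A ≠ ⊥ := by
  obtain ⟨σ, hσ, rfl⟩ := hA
  intro h
  have := self_mem_sameAction hσ
  rw [h, Subgroup.mem_bot] at this
  exact (isMinQ_of_mem hσ).ne_zero (by rw [this, Units.val_one, sub_self])

variable (hk2 : ringChar k ≠ 2) (hk3 : Nat.card k ≠ 3) (hirr : NoUnip G)
include hk2 hk3 hirr

theorem trichotomy (hσ : σ ∈ minimalQuadraticElements G) (hτ : τ ∈ minimalQuadraticElements G) :
    ⁅sameActionSubgroup G σ, sameActionSubgroup G τ⁆ = ⊥ ∨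
      (¬ IsNilpotent (((σ : End k M) - 1) * ((τ : End k M) - 1)) ∧
        IsRankOnePair (sameActionSubgroup G σ) (sameActionSubgroup G τ)) ∨
      RootCommutatorCase (quadraticRootSubgroups G) (sameActionSubgroup G σ) (sameActionSubgroup G τ) := by
  have hk := Ring.two_ne_zero hk2
  by_cases hn : IsNilpotent (((σ : End k M) - 1) * ((τ : End k M) - 1))
  · obtain ⟨p, q⟩ := triple_eq_zero hk (isMinQ_of_mem hσ) (isMinQ_of_mem hτ) hn
    by_cases hne : ((σ : End k M) - 1) * ((τ : End k M) - 1) = ((τ : End k M) - 1) * ((σ : End k M) - 1)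
    · exact Or.inl (commutator_eq_bot_of_comm hk hσ hτ hne)
    · obtain ⟨h1, h2, h3, h4, -⟩ := commutator_case hk2 hk3 hirr hσ hτ ⟨p, q⟩ hne
      exact Or.inr (Or.inr ⟨h1, h4, h2, h3⟩)
  · exact Or.inr (Or.inl ⟨hn, (isSpecialRankOnePair hk2 hk3 hσ hτ hn).1⟩)

theorem isRootSubgroupSet :
    IsRootSubgroupSet ((fun A : Subgroup (LinearMap.GeneralLinearGroup k M) =>
      A.subgroupOf (⨆ B ∈ quadraticRootSubgroups G, B)) '' quadraticRootSubgroups G) := by
  refine isRootSubgroupSet_subgroupOf (fun C hC => le_iSup₂_of_le C hC le_rfl) rfl ?_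
    (fun _ h => quadraticRoot_ne_bot h) (fun C hC g hg => quadraticRoot_conj hC (rootGroup_le hg)) ?_
  · rintro _ ⟨σ, hσ, rfl⟩
    exact sameAction_isMulCommutative hσ
  · rintro _ ⟨σ, hσ, rfl⟩ _ ⟨τ, hτ, rfl⟩
    exact (trichotomy hk2 hk3 hirr hσ hτ).imp_right (Or.imp_left And.right)

theorem not_isolated {A : Subgroup (LinearMap.GeneralLinearGroup k M)} (hA : A ∈ quadraticRootSubgroups G) :
    ¬ IsIsolatedIn (FAdj (quadraticRootSubgroups G)) (quadraticRootSubgroups G) A := by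
  obtain ⟨σ, hσ, rfl⟩ := hA
  rintro ⟨-, hiso⟩
  obtain ⟨c, hc, hn, -⟩ := exists_partner (Ring.two_ne_zero hk2) hirr (isMinQ_of_mem hσ)
  have hτ : oneAdd c hc.sq ∈ minimalQuadraticElements G :=
    mem_minimal_of_isMinQ (by rw [oneAdd_val, add_sub_cancel_left]; exact hc)
  refine (hiso (sameActionSubgroup G (oneAdd c hc.sq))).1 ⟨⟨σ, hσ, rfl⟩, ⟨_, hτ, rfl⟩,
    (isSpecialRankOnePair hk2 hk3 hσ hτ ?_).1⟩
  rw [oneAdd_val, add_sub_cancel_left]
  exact hn

theorem not_nilpotent_of_rankOne (hσ : σ ∈ minimalQuadraticElements G) (hτ : τ ∈ minimalQuadraticElements G)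
    (h : IsRankOnePair (sameActionSubgroup G σ) (sameActionSubgroup G τ)) :
    ¬ IsNilpotent (((σ : End k M) - 1) * ((τ : End k M) - 1)) := by
  set E := sameActionSubgroup G σ
  set F := sameActionSubgroup G τ
  have hsE : σ ∈ E := self_mem_sameAction hσ
  have hσ1 : σ ≠ 1 := fun e => (isMinQ_of_mem hσ).ne_zero (by rw [e, Units.val_one, sub_self])
  obtain ⟨f, hf, -, he⟩ := h.cond_left σ hsE hσ1
  rcases trichotomy hk2 hk3 hirr hσ hτ with h1 | ⟨h1, -⟩ | ⟨-, h2, h3, -⟩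
  · exfalso
    refine h.ne ?_
    have hc := RootLib.bracket_eq_bot_iff.1 h1
    rwa [RootLib.conjBy_eq_of_commute (fun a ha => (hc a ha f⁻¹ (inv_mem hf)).symm),
      RootLib.conjBy_eq_of_commute (fun b hb => hc σ⁻¹ (inv_mem hsE) b hb)] at he
  · exact h1
  · exfalso
    have hm : f⁻¹ * σ * f⁻¹⁻¹ ∈ conjBy F σ⁻¹ := he ▸ RootLib.conjBy_mem_conjBy hsE
    rw [RootLib.mem_conjBy, inv_inv] at hm
    obtain ⟨β, hβ⟩ : ∃ β, β = σ * (f⁻¹ * σ * f⁻¹⁻¹) * σ⁻¹ := ⟨_, rfl⟩
    rw [← hβ] at hm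
    have l1 : σ⁻¹ * (f⁻¹ * σ * f⁻¹⁻¹) ∈ ⁅E, F⁆ := by
      have h := Subgroup.commutator_mem_commutator (inv_mem hsE) (inv_mem hf)
      rwa [commutatorElement_def, inv_inv, mul_assoc, mul_assoc] at h
    have l2 : β⁻¹ * σ⁻¹ * β * σ ∈ ⁅E, F⁆ := by
      rw [Subgroup.commutator_comm]
      have h := Subgroup.commutator_mem_commutator (inv_mem hm) (inv_mem hsE)
      rwa [commutatorElement_def, inv_inv, inv_inv] at h
    obtain ⟨w, hw⟩ : ∃ w, w = (β⁻¹ * σ⁻¹ * β * σ) * (σ⁻¹ * (f⁻¹ * σ * f⁻¹⁻¹))⁻¹ := ⟨_, rfl⟩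
    have hwc : ∀ x ∈ E ⊔ F, w * x = x * w := h2 w (hw ▸ mul_mem l2 (inv_mem l1))
    have hσe : σ = β * w := by rw [hw, hβ]; group
    have hτF : τ ∈ F := self_mem_sameAction hτ
    have hcomm : ∀ x ∈ F, σ * x = x * σ := fun x hx => by
      calc σ * x = β * (w * x) := by rw [← mul_assoc, ← hσe]
        _ = β * x * w := by rw [hwc x (Subgroup.mem_sup_right hx), mul_assoc]
        _ = x * β * w := by rw [RootLib.bracket_eq_bot_iff.1 (sameAction_comm hτ) β hm x hx]
        _ = x * σ := by rw [mul_assoc, ← hσe]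
    have hbot : ⁅E, F⁆ = ⊥ := by
      rw [← h3 σ hsE hσ1, Subgroup.closure_eq_bot_iff]
      rintro _ ⟨x, hx, rfl⟩
      simp [hcomm x hx]
    refine h.ne ?_
    have hc := RootLib.bracket_eq_bot_iff.1 hbot
    rwa [RootLib.conjBy_eq_of_commute (fun a ha => (hc a ha f⁻¹ (inv_mem hf)).symm),
      RootLib.conjBy_eq_of_commute (fun b hb => hc σ⁻¹ (inv_mem hsE) b hb)] at he

omit hk2 hk3 hirr in
theorem upper_le (K : Type*) [Field K] {H : Subgroup (Matrix.SpecialLinearGroup (Fin 2) K)}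
    (h : ∀ t : K, uG t ∈ H) : upperUnipotentSL2 K ≤ H :=
  (Subgroup.closure_le H).2 fun g ⟨g10, g00, g11⟩ => by
    rw [show g = uG (g.1 0 1) from sl_ext g00 rfl g10 g11]
    exact h _

omit hk2 hk3 hirr in
theorem lower_le (K : Type*) [Field K] {H : Subgroup (Matrix.SpecialLinearGroup (Fin 2) K)}
    (h : ∀ t : K, lG t ∈ H) : lowerUnipotentSL2 K ≤ H :=
  (Subgroup.closure_le H).2 fun g ⟨g01, g00, g11⟩ => by
    rw [show g = lG (g.1 1 0) from sl_ext g00 g01 rfl g11]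
    exact h _

end Cfsg.Agent.Quad

namespace Cfsg.Agent.Quad

open Cfsg Module

universe u

/-- A rank one pair contains the image of `SL₂` of a field. -/
theorem exists_psl_subpair {k : Type u} [Field k] {M : Type u} [AddCommGroup M] [Module k M] [FiniteDimensional k M]
    {G : Subgroup (LinearMap.GeneralLinearGroup k M)} (hk2 : ringChar k ≠ 2) (hk3 : Nat.card k ≠ 3)
    (hirr : NoUnip G) {A B : Subgroup (LinearMap.GeneralLinearGroup k M)}
    (hA : A ∈ quadraticRootSubgroups G) (hB : B ∈ quadraticRootSubgroups G) (h : IsRankOnePair A B) :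
    ∃ A₀ B₀ : Subgroup (LinearMap.GeneralLinearGroup k M), A₀ ≤ A ∧ B₀ ≤ B ∧
      ∃ (k₁ : Type u) (_ : Field k₁), 3 < ENat.card k₁ ∧ IsPSL2PairOver k₁ A₀ B₀ := by
  obtain ⟨σ, hσ, rfl⟩ := hA
  obtain ⟨τ, hτ, rfl⟩ := hB
  obtain ⟨f, hf, b', d, hroot, -, hinj, hda, hdb, -, -⟩ := exists_units2 hk2 hk3 (isMinQ_of_mem hσ)
    (isMinQ_of_mem hτ) (not_nilpotent_of_rankOne hk2 hk3 hirr hσ hτ h)
  have hup : ⊤ ≤ upperUnipotentSL2 (AdjoinRoot f) ⊔ lowerUnipotentSL2 (AdjoinRoot f) := by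
    rw [← gam_top hk2 hk3 hroot (AdjoinRoot.isIntegral_root hf.out.ne_zero) AdjoinRoot.adjoinRoot_eq_top]
    refine (Subgroup.closure_le _).2 ?_
    rintro _ (⟨s, rfl⟩ | ⟨s, rfl⟩)
    · exact Subgroup.mem_sup_left (Subgroup.subset_closure ⟨rfl, rfl, rfl⟩)
    · exact Subgroup.mem_sup_right (Subgroup.subset_closure ⟨rfl, rfl, rfl⟩)
  refine ⟨(upperUnipotentSL2 (AdjoinRoot f)).map d.hom, (lowerUnipotentSL2 (AdjoinRoot f)).map d.hom,
    Subgroup.map_le_iff_le_comap.2 (upper_le _ fun t => ?_), Subgroup.map_le_iff_le_comap.2 (lower_le _ fun t => ?_),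
    AdjoinRoot f, inferInstance, ?_, d.hom, ?_, ?_, rfl, rfl⟩
  · rw [Subgroup.mem_comap, mem_sameAction_iff hσ, d.hom_val, d.val_uG, add_sub_cancel_left]
    exact hda t
  · rw [Subgroup.mem_comap, mem_sameAction_iff hτ, d.hom_val, d.val_lG, add_sub_cancel_left]
    exact hdb t
  · have hle : ENat.card k ≤ ENat.card (AdjoinRoot f) :=
      Cardinal.toENat.monotone' (Cardinal.mk_le_of_injective (algebraMap k (AdjoinRoot f)).injective)
    refine lt_of_lt_of_le ?_ hle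
    rcases finite_or_infinite k with hfin | hinf
    · have := five_le_card hk2 hk3
      rw [ENat.card_eq_coe_natCard]
      exact_mod_cast (show 3 < Nat.card k by omega)
    · rw [ENat.card_eq_top_of_infinite]; exact ENat.natCast_lt_top 3
  · rw [MonoidHom.range_eq_map, ← Subgroup.map_sup, top_le_iff.1 hup]
  · rw [MonoidHom.ker_eq_bot_iff _ |>.2 (d.injective hinj)]
    exact bot_le

end Cfsg.Agent.Quad
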