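import Cfsg.Agent.Lib.Quad.Unip
import Cfsg.Agent.Lib.Quad.GenBasic

/-!
The elements of `⟨1 + k a, 1 + k b⟩` as polynomial matrices in `c = a b + b a`.
-/

set_option autoImplicit false

namespace Cfsg.Agent.Quad

open Module Polynomial

variable {k : Type*} [Field k] {M : Type*} [AddCommGroup M] [Module k M]

/-- The combination `1 + A a b + B a + C b + D b a` with coefficients polynomials in `a b + b a`. -/
noncomputable def theta (a b : End k M) (A B C D : k[X]) : End k M :=
  1 + (aeval (a * b + b * a) A * (a * b) + aeval (a * b + b * a) B * a + aeval (a * b + b * a) C * b +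
    aeval (a * b + b * a) D * (b * a))

theorem commute_ev {x c : End k M} (h : Commute x c) (q : k[X]) : Commute x (aeval c q) := by
  induction q using Polynomial.induction_on' with
  | add p q hp hq => rw [map_add]; exact hp.add_right hq
  | monomial n r =>
    rw [aeval_monomial]
    exact (Algebra.commutes r x).symm |> fun e => (Commute.mul_right e (h.pow_right n))

variable {a b : End k M}

theorem commute_anticomm (ha : a * a = 0) (hb : b * b = 0) :
    Commute a (a * b + b * a) ∧ Commute b (a * b + b * a) :=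
  ⟨show a * (a * b + b * a) = (a * b + b * a) * a by
      linear_combination (norm := noncomm_ring) ha * b - b * ha,
    show b * (a * b + b * a) = (a * b + b * a) * b by
      linear_combination (norm := noncomm_ring) hb * a - a * hb⟩

theorem theta_mul (ha : a * a = 0) (hb : b * b = 0) (A B C D A' B' C' D' : k[X]) :
    theta a b A B C D * theta a b A' B' C' D' =
      theta a b (A + A' + X * A * A' + B * C') ((1 + X * A) * B' + B * (1 + X * D'))
        (C * (1 + X * A') + (1 + X * D) * C') (D + D' + X * D * D' + C * B') := by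
  obtain ⟨φ, hφ⟩ : ∃ φ : k[X] →+* End k M, φ = (aeval (a * b + b * a)).toRingHom := ⟨_, rfl⟩
  have hev : ∀ q, aeval (a * b + b * a) q = φ q := fun q => by rw [hφ]; rfl
  obtain ⟨hca, hcb⟩ := commute_anticomm ha hb
  have e1 : ∀ q x, a * (φ q * x) = φ q * (a * x) := fun q x => by
    rw [← mul_assoc, ← mul_assoc, ← hev, (commute_ev hca q).eq]
  have e2 : ∀ q x, b * (φ q * x) = φ q * (b * x) := fun q x => by
    rw [← mul_assoc, ← mul_assoc, ← hev, (commute_ev hcb q).eq]
  have e3 : ∀ q q' x, φ q * (φ q' * x) = φ (q * q') * x := fun q q' x => by rw [map_mul, mul_assoc]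
  have eX : φ X = a * b + b * a := by rw [← hev, aeval_X]
  have f1 : a * (b * a) = φ X * a := by
    rw [eX]; linear_combination (norm := noncomm_ring) -b * ha
  have f2 : b * (a * b) = φ X * b := by
    rw [eX]; linear_combination (norm := noncomm_ring) -a * hb
  have f3 : a * (a * b) = 0 := by rw [← mul_assoc, ha, zero_mul]
  have f4 : b * (b * a) = 0 := by rw [← mul_assoc, hb, zero_mul]
  have f5 : a * (b * (a * b)) = φ X * (a * b) := by
    rw [← mul_assoc b a b, ← mul_assoc a (b * a) b, f1, mul_assoc]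
  have f6 : b * (a * (b * a)) = φ X * (b * a) := by
    rw [← mul_assoc a b a, ← mul_assoc b (a * b) a, f2, mul_assoc]
  have f7 : a * (b * (b * a)) = 0 := by rw [f4, mul_zero]
  have f8 : b * (a * (a * b)) = 0 := by rw [f3, mul_zero]
  simp only [theta, hev, mul_add, add_mul, one_mul, mul_one, mul_assoc, e1, e2, e3, ha, hb,
    f1, f2, f3, f4, f5, f6, mul_zero, add_zero, zero_add, map_add,
    mul_comm (G := k[X]), mul_left_comm (G := k[X])]
  abel

theorem theta_zero (a b : End k M) : theta a b 0 0 0 0 = 1 := by simp [theta]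

/-- `γ` is the matrix of some element of `G` in the group of `a`, `b`. -/
def Rep (G : Subgroup (LinearMap.GeneralLinearGroup k M)) (a b : End k M)
    (γ : Matrix.SpecialLinearGroup (Fin 2) k[X]) : Prop :=
  ∃ A C D : k[X], γ.1 0 0 = 1 + X * A ∧ γ.1 1 0 = X * C ∧ γ.1 1 1 = 1 + X * D ∧
    ∃ h ∈ G, (h : End k M) = theta a b A (γ.1 0 1) C D

variable {G : Subgroup (LinearMap.GeneralLinearGroup k M)}

/-- Every element of `gam k X` represents an element of `G`. -/
theorem rep_of_mem (ha : Qe G a) (hb : Qe G b) {γ : Matrix.SpecialLinearGroup (Fin 2) k[X]}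
    (hγ : γ ∈ gam k (X : k[X])) : Rep G a b γ := by
  induction hγ using Subgroup.closure_induction with
  | mem x hx =>
    rcases hx with ⟨s, rfl⟩ | ⟨s, rfl⟩
    · obtain ⟨g, hg, hg'⟩ := ha.2 s
      refine ⟨0, 0, 0, by simp, by simp, by simp, g, hg, ?_⟩
      simp only [theta, hg', uG_01, map_zero, zero_mul, zero_add, add_zero, aeval_algebraMap_apply, aeval_C,
        Polynomial.algebraMap_eq, Algebra.smul_def]
    · obtain ⟨g, hg, hg'⟩ := hb.2 s
      refine ⟨0, Polynomial.C s, 0, by simp, by rw [lG_10, Polynomial.algebraMap_eq, mul_comm], by simp, g, hg, ?_⟩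
      simp only [theta, hg', lG_01, map_zero, zero_mul, zero_add, add_zero, aeval_C, Algebra.smul_def]
  | one => exact ⟨0, 0, 0, by simp, by simp, by simp, 1, G.one_mem, by simp [theta_zero]⟩
  | mul x y _ _ hx hy =>
    obtain ⟨A, C, D, h1, h2, h3, g, hg, hg'⟩ := hx
    obtain ⟨A', C', D', h1', h2', h3', g', hg2, hg2'⟩ := hy
    refine ⟨A + A' + X * A * A' + x.1 0 1 * C', C * (1 + X * A') + (1 + X * D) * C',
      D + D' + X * D * D' + C * y.1 0 1, ?_, ?_, ?_, g * g', G.mul_mem hg hg2, ?_⟩
    · rw [sl_mul_apply, h1, h1', h2']; ring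
    · rw [sl_mul_apply, h2, h1', h3, h2']; ring
    · rw [sl_mul_apply, h2, h3, h3']; ring
    · rw [Units.val_mul, hg', hg2', theta_mul ha.1 hb.1, sl_mul_apply, h1, h3']
  | inv x _ hx =>
    obtain ⟨A, C, D, h1, h2, h3, g, hg, hg'⟩ := hx
    have hi : (x⁻¹).1 0 0 = x.1 1 1 ∧ (x⁻¹).1 0 1 = -x.1 0 1 ∧ (x⁻¹).1 1 0 = -x.1 1 0 ∧
        (x⁻¹).1 1 1 = x.1 0 0 := by
      rw [Matrix.SpecialLinearGroup.coe_inv, Matrix.adjugate_fin_two]
      simp
    refine ⟨D, -C, A, hi.1.trans h3, by rw [hi.2.2.1, h2, mul_neg], hi.2.2.2.trans h1, g⁻¹, G.inv_mem hg, ?_⟩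
    have hd := det_eq x
    rw [h1, h2, h3] at hd
    have e : theta a b D ((x⁻¹).1 0 1) (-C) A * theta a b A (x.1 0 1) C D = 1 := by
      rw [theta_mul ha.1 hb.1, hi.2.1]
      have z1 : D + A + X * D * A + -x.1 0 1 * C = 0 :=
        mul_left_cancel₀ (X_ne_zero (R := k)) (by linear_combination hd)
      have z2 : (1 + X * D) * x.1 0 1 + -x.1 0 1 * (1 + X * D) = 0 := by ring
      have z3 : -C * (1 + X * A) + (1 + X * A) * C = 0 := by ring
      have z4 : A + D + X * A * D + -C * x.1 0 1 = 0 :=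
        mul_left_cancel₀ (X_ne_zero (R := k)) (by linear_combination hd)
      rw [z1, z2, z3, z4, theta_zero]
    calc ((g⁻¹ : LinearMap.GeneralLinearGroup k M) : End k M)
        = theta a b D ((x⁻¹).1 0 1) (-C) A * theta a b A (x.1 0 1) C D *
            ((g⁻¹ : LinearMap.GeneralLinearGroup k M) : End k M) := by rw [e, one_mul]
      _ = _ := by rw [← hg', mul_assoc, Units.mul_inv, mul_one]

/-- Data of a conjugate of `a` by an element of the group of `a`, `b`. -/
theorem conj_data (ha : IsMinQ G a) (hb : Qe G b) {γ : Matrix.SpecialLinearGroup (Fin 2) k[X]}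
    (hγ : γ ∈ gam k (X : k[X])) :
    ∃ (a' : End k M) (C : k[X]), IsMinQ G a' ∧ γ.1 1 0 = X * C ∧
      a * a' = -aeval (a * b + b * a) (C * C * X) * (a * b) +
        aeval (a * b + b * a) (γ.1 0 0 * γ.1 1 0) * a ∧
      a' * a = -(aeval (a * b + b * a) (γ.1 0 0 * γ.1 1 0)) * a -
        aeval (a * b + b * a) (C * C * X) * (b * a) ∧
      a' * b + b * a' = aeval (a * b + b * a) (γ.1 0 0 * γ.1 0 0 * X) ∧
      a' * b = aeval (a * b + b * a) (γ.1 0 0 * γ.1 0 0) * (a * b) +
        aeval (a * b + b * a) (γ.1 0 0 * γ.1 1 0) * b ∧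
      (∀ q : k[X], Commute (aeval (a * b + b * a) q) a') ∧
      ∃ g ∈ G, (∀ q : k[X], Commute (aeval (a * b + b * a) q) (g : End k M)) ∧
        a' = (g : End k M) * a * ((g⁻¹ : LinearMap.GeneralLinearGroup k M) : End k M) := by
  obtain ⟨A, C, D, h1, h2, h3, g, hg, hg'⟩ := rep_of_mem ha.qe hb hγ
  have hi : (γ⁻¹).1 0 0 = γ.1 1 1 ∧ (γ⁻¹).1 0 1 = -γ.1 0 1 ∧ (γ⁻¹).1 1 0 = -γ.1 1 0 ∧
      (γ⁻¹).1 1 1 = γ.1 0 0 := by
    rw [Matrix.SpecialLinearGroup.coe_inv, Matrix.adjugate_fin_two]
    simp
  obtain ⟨hca, hcb⟩ := commute_anticomm ha.sq hb.1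
  set c := a * b + b * a with hc
  have hth : ∀ A B C D q : k[X], Commute (aeval c q) (theta a b A B C D) := by
    intro A B C D q
    have k1 : Commute (aeval c q) a := (commute_ev hca q).symm
    have k2 : Commute (aeval c q) b := (commute_ev hcb q).symm
    have kq : ∀ p, Commute (aeval c q) (aeval c p) := fun p => by
      rw [commute_iff_eq, ← map_mul, ← map_mul, mul_comm]
    simp only [theta, ← hc]
    exact (Commute.one_right _).add_right ((((kq A).mul_right (k1.mul_right k2)).add_right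
      ((kq B).mul_right k1)).add_right ((kq C).mul_right k2) |>.add_right ((kq D).mul_right (k2.mul_right k1)))
  have einv : ((g⁻¹ : LinearMap.GeneralLinearGroup k M) : End k M) = theta a b D (-γ.1 0 1) (-C) A := by
    have hd := det_eq γ
    rw [h1, h2, h3] at hd
    have e : theta a b D (-γ.1 0 1) (-C) A * theta a b A (γ.1 0 1) C D = 1 := by
      rw [theta_mul ha.sq hb.1]
      have z1 : D + A + X * D * A + -γ.1 0 1 * C = 0 :=
        mul_left_cancel₀ (X_ne_zero (R := k)) (by linear_combination hd)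
      have z2 : (1 + X * D) * γ.1 0 1 + -γ.1 0 1 * (1 + X * D) = 0 := by ring
      have z3 : -C * (1 + X * A) + (1 + X * A) * C = 0 := by ring
      have z4 : A + D + X * A * D + -C * γ.1 0 1 = 0 :=
        mul_left_cancel₀ (X_ne_zero (R := k)) (by linear_combination hd)
      rw [z1, z2, z3, z4, theta_zero]
    calc ((g⁻¹ : LinearMap.GeneralLinearGroup k M) : End k M)
        = theta a b D (-γ.1 0 1) (-C) A * theta a b A (γ.1 0 1) C D *
            ((g⁻¹ : LinearMap.GeneralLinearGroup k M) : End k M) := by rw [e, one_mul]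
      _ = _ := by rw [← hg', mul_assoc, Units.mul_inv, mul_one]
  obtain ⟨a', ha'⟩ : ∃ a', a' = (g : End k M) * a * ((g⁻¹ : LinearMap.GeneralLinearGroup k M) : End k M) :=
    ⟨_, rfl⟩
  have key : a' = aeval c ((1 + X * A) * (1 + X * A)) * a - aeval c ((1 + X * A) * C) * (a * b) -
      aeval c (C * C * X) * b + aeval c ((1 + X * A) * C) * (b * a) := by
    rw [ha', hg', einv]
    obtain ⟨φ, hφ⟩ : ∃ φ : k[X] →+* End k M, φ = (aeval c).toRingHom := ⟨_, rfl⟩
    have hev : ∀ q, aeval c q = φ q := fun q => by rw [hφ]; rfl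
    have e1 : ∀ q x, a * (φ q * x) = φ q * (a * x) := fun q x => by
      rw [← mul_assoc, ← mul_assoc, ← hev, (commute_ev hca q).eq]
    have e2 : ∀ q x, b * (φ q * x) = φ q * (b * x) := fun q x => by
      rw [← mul_assoc, ← mul_assoc, ← hev, (commute_ev hcb q).eq]
    have e3 : ∀ q q' x, φ q * (φ q' * x) = φ (q * q') * x := fun q q' x => by rw [map_mul, mul_assoc]
    have eX : φ X = a * b + b * a := by rw [← hev, aeval_X, hc]
    have f1 : a * (b * a) = φ X * a := by
      rw [eX]; linear_combination (norm := noncomm_ring) -b * ha.sq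
    have f2 : b * (a * b) = φ X * b := by
      rw [eX]; linear_combination (norm := noncomm_ring) -a * hb.1
    have f3 : a * (a * b) = 0 := by rw [← mul_assoc, ha.sq, zero_mul]
    have f4 : b * (b * a) = 0 := by rw [← mul_assoc, hb.1, zero_mul]
    have f5 : a * (b * (a * b)) = φ X * (a * b) := by
      rw [← mul_assoc b a b, ← mul_assoc a (b * a) b, f1, mul_assoc]
    have f6 : b * (a * (b * a)) = φ X * (b * a) := by
      rw [← mul_assoc a b a, ← mul_assoc b (a * b) a, f2, mul_assoc]
    simp only [theta, ← hc, hev, mul_add, add_mul, mul_sub, sub_mul, one_mul, mul_one, mul_assoc,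
      neg_mul, mul_neg, map_neg, e1, e2, e3, ha.sq, hb.1, f1, f2, f3, f4, f5, f6, mul_zero, neg_zero,
      add_zero, zero_add, map_add, map_one, mul_comm (G := k[X]), mul_left_comm (G := k[X])]
    abel
  obtain ⟨φ, hφ⟩ : ∃ φ : k[X] →+* End k M, φ = (aeval c).toRingHom := ⟨_, rfl⟩
  have hev : ∀ q, aeval c q = φ q := fun q => by rw [hφ]; rfl
  have e1 : ∀ q x, a * (φ q * x) = φ q * (a * x) := fun q x => by
    rw [← mul_assoc, ← mul_assoc, ← hev, (commute_ev hca q).eq]
  have e2 : ∀ q x, b * (φ q * x) = φ q * (b * x) := fun q x => by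
    rw [← mul_assoc, ← mul_assoc, ← hev, (commute_ev hcb q).eq]
  have e3 : ∀ q q' x, φ q * (φ q' * x) = φ (q * q') * x := fun q q' x => by rw [map_mul, mul_assoc]
  have eX : φ X = a * b + b * a := by rw [← hev, aeval_X, hc]
  have f1 : a * (b * a) = φ X * a := by
    rw [eX]; linear_combination (norm := noncomm_ring) -b * ha.sq
  have f2 : b * (a * b) = φ X * b := by
    rw [eX]; linear_combination (norm := noncomm_ring) -a * hb.1
  refine ⟨a', C, ha' ▸ ha.conj hg, h2, ?_, ?_, ?_, ?_, fun q => ?_, g, hg, fun q => hg' ▸ hth _ _ _ _ q, ha'⟩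
  · rw [key, h1, h2]
    simp only [hev, mul_add, mul_sub, e1, ha.sq, ← mul_assoc a a b, zero_mul, f1, e3, mul_zero,
      sub_zero, add_zero, zero_add, zero_sub, neg_mul, mul_one, one_mul, mul_comm (G := k[X]), mul_left_comm (G := k[X])]
  · rw [key, h1, h2]
    simp only [hev, add_mul, sub_mul, mul_assoc, ha.sq, mul_zero, f1, e3, neg_mul,
      sub_zero, add_zero, zero_add, zero_sub, mul_comm (G := k[X]), mul_left_comm (G := k[X])]
  · have eR : ∀ q : k[X], aeval c (q * X) = φ q * (a * b) + φ q * (b * a) := fun q => by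
      rw [hev, map_mul, eX, mul_add]
    have f4 : b * (b * a) = 0 := by rw [← mul_assoc, hb.1, zero_mul]
    rw [key, h1, eR ((1 + X * A) * (1 + X * A))]
    simp only [hev, add_mul, sub_mul, mul_add, mul_sub, mul_assoc, hb.1, mul_zero, e2, e3, f2, f4,
      sub_zero, add_zero, zero_add, one_mul, mul_one, map_add, map_one, mul_comm (G := k[X]),
      mul_left_comm (G := k[X])]
    abel
  · have f4 : b * (b * a) = 0 := by rw [← mul_assoc, hb.1, zero_mul]
    rw [key, h1, h2]
    simp only [hev, add_mul, sub_mul, mul_assoc, hb.1, f2, f4, e3, mul_zero, sub_zero, add_zero, zero_add,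
      mul_one, one_mul, mul_comm (G := k[X]), mul_left_comm (G := k[X])]
  · rw [ha', hg', einv]
    exact ((hth _ _ _ _ q).mul_right ((commute_ev hca q).symm)).mul_right (hth _ _ _ _ q)

end Cfsg.Agent.Quad
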