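import Cfsg.Agent.Lib.Quad.Basic

/-!
Two minimal quadratic maps generating a unipotent group: `a b a = 0 = b a b`, and the map
`a b - b a` is again minimal quadratic, with image and kernel not depending on the members chosen.
-/

set_option autoImplicit false

namespace Cfsg.Agent.Quad

open Cfsg Module

variable {k : Type*} [Field k] {M : Type*} [AddCommGroup M] [Module k M]
variable {G : Subgroup (LinearMap.GeneralLinearGroup k M)}

/-- The commutator of `1 + a` and `1 + y`. -/
theorem exists_commutator {a y : End k M} (ha : Qe G a) (hy : Qe G y) :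
    ∃ g ∈ G, (g : End k M) = 1 + (a * y - y * a + y * a * y - a * y * a + a * y * a * y) := by
  obtain ⟨u, hu, hu'⟩ := ha.2 1
  obtain ⟨w, hw, hw'⟩ := hy.2 1
  rw [one_smul] at hu' hw'
  refine ⟨u * w * u⁻¹ * w⁻¹, G.mul_mem (G.mul_mem (G.mul_mem hu hw) (G.inv_mem hu)) (G.inv_mem hw), ?_⟩
  simp only [Units.val_mul, hu', hw', inv_val_of_val ha.1 hu', inv_val_of_val hy.1 hw']
  linear_combination (norm := noncomm_ring) -ha.1 + ha.1 * y - hy.1 - a * hy.1

/-- Base computation: if all words of length five vanish then `1 + k (a b a) ⊆ G`. -/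
theorem qe_triple_of_five (hk : (2 : k) ≠ 0) {a b : End k M} (ha : Qe G a) (hb : Qe G b)
    (h5 : a * b * a * b * a = 0) (g5 : b * a * b * a * b = 0) : Qe G (a * b * a) := by
  have key : ∀ b : End k M, Qe G b → a * b * a * b * a = 0 → b * a * b * a * b = 0 →
      ∃ g ∈ G, (g : End k M) = 1 + (2 • (a * b * a) + (b * a * b * a - a * b * a * b)) := by
    intro b hb h5 g5
    have haa : a * a = 0 := ha.1
    have haa' : ∀ x, x * a * a = 0 := fun x => by rw [mul_assoc, haa, mul_zero]
    have hbb : b * b = 0 := hb.1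
    have hbb' : ∀ x, x * b * b = 0 := fun x => by rw [mul_assoc, hbb, mul_zero]
    have h5' : ∀ x, x * a * b * a * b * a = 0 := fun x => by
      rw [show x * a * b * a * b * a = x * (a * b * a * b * a) by simp only [mul_assoc], h5, mul_zero]
    have g5' : ∀ x, x * b * a * b * a * b = 0 := fun x => by
      rw [show x * b * a * b * a * b = x * (b * a * b * a * b) by simp only [mul_assoc], g5, mul_zero]
    have hy := ha.conjOne hb 1
    rw [one_smul] at hy
    obtain ⟨g, hg, hg'⟩ := exists_commutator ha hy
    refine ⟨g, hg, ?_⟩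
    rw [hg']
    simp only [mul_add, add_mul, mul_sub, sub_mul, neg_mul, mul_neg, neg_neg, neg_zero, mul_one, one_mul,
      ← mul_assoc, haa, haa', hbb, hbb', h5, h5', g5, g5', mul_zero, zero_mul, sub_zero, add_zero, zero_add, zero_sub]
    abel
  have haa : a * a = 0 := ha.1
  have haa' : ∀ x, x * a * a = 0 := fun x => by rw [mul_assoc, haa, mul_zero]
  refine ⟨by simp only [← mul_assoc, haa', zero_mul], fun s => ?_⟩
  have hs : ∀ c : k, a * (c • b) * a * (c • b) * a = 0 ∧ (c • b) * a * (c • b) * a * (c • b) = 0 :=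
    fun c => ⟨by simp only [smul_mul_assoc, mul_smul_comm, h5, smul_zero],
      by simp only [smul_mul_assoc, mul_smul_comm, g5, smul_zero]⟩
  set c : k := s / 4 with hc
  obtain ⟨g, hg, hg'⟩ := key (c • b) (hb.smul c) (hs c).1 (hs c).2
  obtain ⟨h, hh, hh'⟩ := key ((-c) • b) (hb.smul (-c)) (hs (-c)).1 (hs (-c)).2
  set T : End k M := a * b * a with hT
  set R : End k M := b * a * b * a - a * b * a * b with hR
  have eg : (g : End k M) = 1 + ((2 * c) • T + (c * c) • R) := by
    rw [hg', hR, hT, two_nsmul, two_mul]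
    simp only [smul_mul_assoc, mul_smul_comm, smul_smul, smul_sub, add_smul]
  have eh : (h : End k M) = 1 + ((-(2 * c)) • T + (c * c) • R) := by
    rw [hh', hR, hT, two_nsmul, two_mul, neg_add]
    simp only [smul_mul_assoc, mul_smul_comm, smul_smul, smul_sub, add_smul, neg_mul_neg]
  have hTT : T * T = 0 ∧ T * R = 0 ∧ R * T = 0 ∧ R * R = 0 := by
    have hbb : b * b = 0 := hb.1
    have hbb' : ∀ x, x * b * b = 0 := fun x => by rw [mul_assoc, hbb, mul_zero]
    have h5' : ∀ x, x * a * b * a * b * a = 0 := fun x => by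
      rw [show x * a * b * a * b * a = x * (a * b * a * b * a) by simp only [mul_assoc], h5, mul_zero]
    have g5' : ∀ x, x * b * a * b * a * b = 0 := fun x => by
      rw [show x * b * a * b * a * b = x * (b * a * b * a * b) by simp only [mul_assoc], g5, mul_zero]
    refine ⟨?_, ?_, ?_, ?_⟩ <;>
      simp only [hT, hR, mul_sub, sub_mul, ← mul_assoc, haa, haa', hbb, hbb', h5, h5', g5, g5',
        mul_zero, zero_mul, sub_zero]
  obtain ⟨h1, h2, h3, h4⟩ := hTT
  have ehi : ((h⁻¹ : LinearMap.GeneralLinearGroup k M) : End k M) =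
      1 - ((-(2 * c)) • T + (c * c) • R) := by
    refine inv_val_of_val ?_ eh
    simp only [add_mul, mul_add, smul_mul_assoc, mul_smul_comm, h1, h2, h3, h4, smul_zero, add_zero]
  refine ⟨g * h⁻¹, G.mul_mem hg (G.inv_mem hh), ?_⟩
  rw [Units.val_mul, eg, ehi]
  simp only [add_mul, mul_sub, mul_add, one_mul, mul_one, smul_mul_assoc, mul_smul_comm, h1, h2, h3,
    h4, smul_zero, add_zero, sub_zero]
  have h4c : 2 * c + 2 * c = s := by
    have h4' : (4 : k) ≠ 0 := by
      have := mul_ne_zero hk hk
      norm_num at this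
      exact this
    rw [hc]; field_simp; ring
  rw [← h4c, add_smul, neg_smul]
  abel

variable [FiniteDimensional k M]

theorem triple_aux (hk : (2 : k) ≠ 0) (n : ℕ) : ∀ a b : End k M, IsMinQ G a → IsMinQ G b →
    (a * b) ^ n = 0 → (b * a) ^ n = 0 → a * b * a = 0 := by
  induction n using Nat.strong_induction_on with
  | _ n ih =>
    intro a b ha hb hu hv
    have five : ∀ a b : End k M, IsMinQ G a → IsMinQ G b → (a * b) ^ n = 0 → (b * a) ^ n = 0 →
        a * b * a * b * a = 0 := by
      intro a b ha hb hu hv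
      by_cases hn : n ≤ 2
      · have h : (a * b) ^ 2 = 0 := by rw [← Nat.sub_add_cancel hn, pow_add, hu, mul_zero]
        rw [pow_two] at h
        rw [show a * b * a * b * a = a * b * (a * b) * a by simp only [mul_assoc], h, zero_mul]
      obtain ⟨j, rfl⟩ : ∃ j, n = j + 3 := ⟨n - 3, by omega⟩
      have hy := ha.conjOne hb.qe 1
      rw [one_smul] at hy
      set y := (1 + b) * a * (1 - b) with hydef
      set u := a * b with hudef
      set v := b * a with hvdef
      have hau : a * u = 0 := by rw [hudef, ← mul_assoc, ha.sq, zero_mul]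
      have hva : v * a = 0 := by rw [hvdef, mul_assoc, ha.sq, mul_zero]
      have e1 : a * y = u * a - u * u := by
        rw [hydef, hudef]
        linear_combination (norm := noncomm_ring) ha.sq - ha.sq * b
      have e2 : y * a = -(a * v + v * v) := by
        rw [hydef, hvdef]
        linear_combination (norm := noncomm_ring) ha.sq + b * ha.sq
      have r1 : ∀ i : ℕ, (a * y) ^ (i + 1) = (-(u * u)) ^ i * (u * a - u * u) := by
        intro i
        induction i with
        | zero => simp [e1]
        | succ i ih =>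
          rw [pow_succ, ih, pow_succ _ i, mul_assoc ((-(u * u)) ^ i), mul_assoc ((-(u * u)) ^ i), e1]
          congr 1
          linear_combination (norm := noncomm_ring) u * hau * a - u * hau * u
      have r2 : ∀ i : ℕ, (y * a) ^ (i + 1) = -(a * v + v * v) * (-(v * v)) ^ i := by
        intro i
        induction i with
        | zero => simp [e2]
        | succ i ih =>
          rw [pow_succ', ih, e2, pow_succ' _ i, ← mul_assoc, ← mul_assoc (-(a * v + v * v)) (-(v * v))]
          congr 1
          linear_combination (norm := noncomm_ring) a * hva * v + v * hva * v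
      have z1 : ∀ i, j + 3 ≤ i → u ^ i = 0 := fun i hi => by
        rw [← Nat.sub_add_cancel hi, pow_add, hu, mul_zero]
      have z2 : ∀ i, j + 3 ≤ i → v ^ i = 0 := fun i hi => by
        rw [← Nat.sub_add_cancel hi, pow_add, hv, mul_zero]
      have w1 : (a * y) ^ (j + 2) = 0 := by
        have h0 : (u * u) ^ (j + 1) * u = 0 := by
          rw [← pow_two, ← pow_mul, ← pow_succ]; exact z1 _ (by omega)
        rw [r1 (j + 1), neg_pow, mul_assoc, mul_sub, ← mul_assoc _ u a, ← mul_assoc _ u u, h0,
          zero_mul, zero_mul, sub_zero, mul_zero]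
      have w2 : (y * a) ^ (j + 2) = 0 := by
        have h0 : v * (v * v) ^ (j + 1) = 0 := by
          rw [← pow_two, ← pow_mul, ← pow_succ']; exact z2 _ (by omega)
        rw [r2 (j + 1), neg_pow, ((Commute.neg_one_left ((v * v) ^ (j + 1))).pow_left (j + 1)).eq,
          ← mul_assoc, neg_mul, add_mul, mul_assoc a v, mul_assoc v v, h0, mul_zero, mul_zero,
          add_zero, neg_zero, zero_mul]
      have := ih (j + 2) (by omega) a y ha hy w1 w2
      rw [hydef] at this
      simp only [hudef] at this ⊢
      linear_combination (norm := noncomm_ring) -this + ha.sq * a + a * b * ha.sq - ha.sq * (b * a)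
    have h5 := five a b ha hb hu hv
    have g5 := five b a hb ha hv hu
    by_contra hne
    have hq := qe_triple_of_five hk ha.qe hb.qe h5 g5
    have heq : LinearMap.range (a * b * a) = LinearMap.range a := by
      refine Submodule.eq_of_le_of_finrank_le ?_ (ha.le _ hq hne)
      rw [mul_assoc]
      exact LinearMap.range_comp_le_range _ _
    refine ha.ne_zero (LinearMap.ext fun m => ?_)
    obtain ⟨m1, h1⟩ : a m ∈ LinearMap.range (a * b * a) := heq ▸ LinearMap.mem_range_self a m
    obtain ⟨m2, h2⟩ : a m1 ∈ LinearMap.range (a * b * a) := heq ▸ LinearMap.mem_range_self a m1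
    rw [Module.End.mul_apply, Module.End.mul_apply] at h1
    rw [← h1, ← h2]
    simp only [← Module.End.mul_apply, ← mul_assoc]
    rw [h5, LinearMap.zero_apply, LinearMap.zero_apply]

/-- A pair with nilpotent product satisfies `a b a = 0 = b a b`. -/
theorem triple_eq_zero (hk : (2 : k) ≠ 0) {a b : End k M} (ha : IsMinQ G a) (hb : IsMinQ G b)
    (hn : IsNilpotent (a * b)) : a * b * a = 0 ∧ b * a * b = 0 := by
  obtain ⟨n, hn⟩ := hn
  have h1 : (a * b) ^ (n + 1) = 0 := by rw [pow_succ, hn, zero_mul]
  have h2 : ∀ i, (b * a) ^ (i + 1) = b * (a * b) ^ i * a := by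
    intro i
    induction i with
    | zero => simp
    | succ i ih => rw [pow_succ, ih, pow_succ]; simp only [mul_assoc]
  have h3 : (b * a) ^ (n + 1) = 0 := by rw [h2, hn, mul_zero, zero_mul]
  exact ⟨triple_aux hk (n + 1) a b ha hb h1 h3, triple_aux hk (n + 1) b a hb ha h3 h1⟩

/-- `a`, `b` generate a unipotent group. -/
structure UPair (a b : End k M) : Prop where
  aba : a * b * a = 0
  bab : b * a * b = 0

omit [FiniteDimensional k M] in
theorem UPair.symm {a b : End k M} (h : UPair a b) : UPair b a := ⟨h.bab, h.aba⟩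

omit [FiniteDimensional k M] in
theorem mul_mul_eq_zero_iff {x y : End k M} :
    x * y * x = 0 ↔ ∀ v ∈ LinearMap.range x, y v ∈ LinearMap.ker x := by
  constructor
  · rintro h _ ⟨m, rfl⟩
    exact LinearMap.congr_fun h m
  · exact fun h => LinearMap.ext fun m => h _ (LinearMap.mem_range_self x m)

theorem UPair.of_eq_zero (hk : (2 : k) ≠ 0) {a b : End k M} (ha : IsMinQ G a) (hb : IsMinQ G b)
    (h : b * a * b = 0) : UPair a b := by
  obtain ⟨h1, h2⟩ := triple_eq_zero hk ha hb
    ⟨2, by rw [pow_two, mul_assoc, ← mul_assoc b a b, h, mul_zero]⟩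
  exact ⟨h1, h2⟩

/-- Being a unipotent pair depends only on images and kernels. -/
theorem UPair.amod (hk : (2 : k) ≠ 0) {a b : End k M} {ha : IsMinQ G a} {hb : IsMinQ G b}
    (h : UPair a b) {x y : End k M} (hx : x ∈ amod ha) (hy : y ∈ amod hb) : UPair x y := by
  by_cases hx0 : x = 0
  · exact ⟨by simp [hx0], by simp [hx0]⟩
  by_cases hy0 : y = 0
  · exact ⟨by simp [hy0], by simp [hy0]⟩
  have h1 : y * a * y = 0 := by
    rw [mul_mul_eq_zero_iff, range_eq_of_amod hy hy0, ker_eq_of_amod hy hy0, ← mul_mul_eq_zero_iff]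
    exact h.bab
  have h2 := (UPair.of_eq_zero hk ha (isMinQ_of_amod hy hy0) h1).aba
  refine (UPair.of_eq_zero hk (isMinQ_of_amod hy hy0) (isMinQ_of_amod hx hx0) ?_).symm
  rw [mul_mul_eq_zero_iff, range_eq_of_amod hx hx0, ker_eq_of_amod hx hx0, ← mul_mul_eq_zero_iff]
  exact h2

omit [FiniteDimensional k M] in
theorem UPair.mul_zero_zero {a b : End k M} (h : UPair a b) (haa : a * a = 0) (hbb : b * b = 0) :
    a * (a * b - b * a) = 0 ∧ (a * b - b * a) * a = 0 ∧ b * (a * b - b * a) = 0 ∧
      (a * b - b * a) * b = 0 ∧ (a * b - b * a) * (a * b - b * a) = 0 := by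
  refine ⟨?_, ?_, ?_, ?_, ?_⟩
  · linear_combination (norm := noncomm_ring) haa * b - h.aba
  · linear_combination (norm := noncomm_ring) h.aba - b * haa
  · linear_combination (norm := noncomm_ring) h.bab - hbb * a
  · linear_combination (norm := noncomm_ring) a * hbb - h.bab
  · linear_combination (norm := noncomm_ring) h.aba * b - a * hbb * a - b * haa * b + h.bab * a

omit [FiniteDimensional k M] in
theorem UPair.commutator_val {a b : End k M} (h : UPair a b) :
    (a * b - b * a + b * a * b - a * b * a + a * b * a * b) = a * b - b * a := by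
  rw [h.aba, h.bab, zero_mul]; abel

omit [FiniteDimensional k M] in
theorem UPair.qe {a b : End k M} (h : UPair a b) (ha : Qe G a) (hb : Qe G b) :
    Qe G (a * b - b * a) := by
  refine ⟨(h.mul_zero_zero ha.1 hb.1).2.2.2.2, fun s => ?_⟩
  obtain ⟨g, hg, hg'⟩ := exists_commutator (ha.smul s) hb
  refine ⟨g, hg, ?_⟩
  rw [hg', UPair.commutator_val ⟨by simp [h.aba], by simp [h.bab]⟩, smul_mul_assoc, mul_smul_comm,
    smul_sub]

omit [FiniteDimensional k M] in
theorem range_sub_le (f g : End k M) :
    LinearMap.range (f - g) ≤ LinearMap.range f ⊔ LinearMap.range g := by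
  rintro _ ⟨m, rfl⟩
  exact sub_mem (Submodule.mem_sup_left (LinearMap.mem_range_self f m))
    (Submodule.mem_sup_right (LinearMap.mem_range_self g m))

theorem finrank_range_mul_add (f g : End k M) :
    finrank k (LinearMap.range (f * g)) + finrank k ↥(LinearMap.range g ⊓ LinearMap.ker f) =
      finrank k (LinearMap.range g) := by
  have h := LinearMap.finrank_range_add_finrank_ker (f.domRestrict (LinearMap.range g))
  rw [← h]
  congr 1
  · rw [LinearMap.range_domRestrict, Module.End.mul_eq_comp, LinearMap.range_comp]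
  · have e : Submodule.comap (LinearMap.range g).subtype (LinearMap.range g ⊓ LinearMap.ker f) =
        LinearMap.ker (f.domRestrict (LinearMap.range g)) := by ext x; simp
    rw [← (Submodule.comapSubtypeEquivOfLe (p := LinearMap.range g ⊓ LinearMap.ker f)
      (q := LinearMap.range g) inf_le_left).finrank_eq, e]

theorem finrank_mul_le {a b : End k M} (h : UPair a b) :
    finrank k (LinearMap.range (a * b)) + finrank k (LinearMap.range (b * a)) ≤
      finrank k (LinearMap.range b) := by
  rw [← finrank_range_mul_add a b]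
  refine Nat.add_le_add_left (Submodule.finrank_mono (le_inf (LinearMap.range_comp_le_range _ _) ?_)) _
  rintro _ ⟨m, rfl⟩
  exact LinearMap.congr_fun h.aba m

theorem UPair.rank_le {a b : End k M} (h : UPair a b) :
    finrank k (LinearMap.range (a * b - b * a)) ≤ finrank k (LinearMap.range b) :=
  (Submodule.finrank_mono (range_sub_le _ _)).trans
    ((Submodule.finrank_add_le_finrank_add_finrank _ _).trans (finrank_mul_le h))

theorem UPair.isMinQ {a b : End k M} (h : UPair a b) (ha : IsMinQ G a) (hb : IsMinQ G b)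
    (hne : a * b ≠ b * a) : IsMinQ G (a * b - b * a) :=
  hb.of_le (h.qe ha.qe hb.qe) (sub_ne_zero.2 hne) h.rank_le

theorem UPair.range_eq {a b : End k M} (h : UPair a b) (ha : IsMinQ G a) (hb : IsMinQ G b)
    (hne : a * b ≠ b * a) : LinearMap.range (a * b - b * a) =
      LinearMap.range a ⊓ LinearMap.ker b ⊔ LinearMap.range b ⊓ LinearMap.ker a := by
  have h1 : LinearMap.range (a * b) ≤ LinearMap.range a ⊓ LinearMap.ker b := by
    refine le_inf (LinearMap.range_comp_le_range _ _) ?_
    rintro _ ⟨m, rfl⟩
    exact LinearMap.congr_fun h.bab m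
  have h2 : LinearMap.range (b * a) ≤ LinearMap.range b ⊓ LinearMap.ker a := by
    refine le_inf (LinearMap.range_comp_le_range _ _) ?_
    rintro _ ⟨m, rfl⟩
    exact LinearMap.congr_fun h.aba m
  refine Submodule.eq_of_le_of_finrank_le ((range_sub_le _ _).trans (sup_le_sup h1 h2)) ?_
  refine (Submodule.finrank_add_le_finrank_add_finrank _ _).trans ?_
  have e1 := finrank_range_mul_add a b
  have e2 := finrank_range_mul_add b a
  have e3 := (h.isMinQ ha hb hne).rank_eq ha
  have e4 := ha.rank_eq hb
  have e5 := (Submodule.finrank_mono (range_sub_le (a * b) (b * a))).trans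
    (Submodule.finrank_add_le_finrank_add_finrank _ _)
  omega

theorem UPair.ker_eq {a b : End k M} (h : UPair a b) (ha : IsMinQ G a) (hb : IsMinQ G b)
    (hne : a * b ≠ b * a) : LinearMap.ker (a * b - b * a) =
      (LinearMap.ker a ⊔ LinearMap.range b) ⊓ (LinearMap.ker b ⊔ LinearMap.range a) := by
  have key : ∀ a b : End k M, IsMinQ G a → IsMinQ G b → UPair a b → a * b ≠ b * a →
      LinearMap.ker a ⊔ LinearMap.range b = LinearMap.ker (b * a) := by
    intro a b ha hb h hne
    refine Submodule.eq_of_le_of_finrank_le (sup_le ?_ ?_) ?_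
    · intro m hm
      rw [LinearMap.mem_ker, Module.End.mul_apply, LinearMap.mem_ker.1 hm, map_zero]
    · rintro _ ⟨m, rfl⟩
      exact LinearMap.congr_fun h.bab m
    · have e1 := Submodule.finrank_sup_add_finrank_inf_eq (LinearMap.ker a) (LinearMap.range b)
      have e2 := LinearMap.finrank_range_add_finrank_ker (b * a)
      have e3 := LinearMap.finrank_range_add_finrank_ker a
      have e4 := finrank_range_mul_add a b
      rw [inf_comm] at e1
      have e5 := (h.isMinQ ha hb hne).rank_eq hb
      have e6 := (Submodule.finrank_mono (range_sub_le (a * b) (b * a))).trans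
        (Submodule.finrank_add_le_finrank_add_finrank _ _)
      have e7 := finrank_mul_le h
      have e8 := ha.rank_eq hb
      omega
  rw [key a b ha hb h hne, key b a hb ha h.symm (Ne.symm hne)]
  refine (Submodule.eq_of_le_of_finrank_le ?_ ?_).symm
  · intro m hm
    rw [LinearMap.mem_ker, LinearMap.sub_apply, LinearMap.mem_ker.1 (Submodule.mem_inf.1 hm).1,
      LinearMap.mem_ker.1 (Submodule.mem_inf.1 hm).2, sub_zero]
  · have e1 := Submodule.finrank_sup_add_finrank_inf_eq (LinearMap.ker (b * a)) (LinearMap.ker (a * b))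
    have e2 := Submodule.finrank_le (LinearMap.ker (b * a) ⊔ LinearMap.ker (a * b))
    have e3 := LinearMap.finrank_range_add_finrank_ker (a * b - b * a)
    have e4 := LinearMap.finrank_range_add_finrank_ker (b * a)
    have e5 := LinearMap.finrank_range_add_finrank_ker (a * b)
    have e6 := (h.isMinQ ha hb hne).rank_eq hb
    have e7 := finrank_mul_le h
    omega

/-- All commutators of members of two spaces act alike. -/
theorem UPair.comm_mem (hk : (2 : k) ≠ 0) {a b : End k M} {ha : IsMinQ G a} {hb : IsMinQ G b}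
    (h : UPair a b) (hne : a * b ≠ b * a) {x y : End k M} (hx : x ∈ Quad.amod ha) (hy : y ∈ Quad.amod hb) :
    x * y - y * x ∈ Quad.amod (h.isMinQ ha hb hne) := by
  by_cases hx0 : x = 0
  · simp [hx0]
  by_cases hy0 : y = 0
  · simp [hy0]
  have hX := isMinQ_of_amod hx hx0
  have hY := isMinQ_of_amod hy hy0
  have hU := h.amod hk hx hy
  have hn : x * y ≠ y * x := fun e => hne (comm_amod_amod hk hX hY e
    (by rw [amod_eq hx hx0]; exact self_mem_amod ha) (by rw [amod_eq hy hy0]; exact self_mem_amod hb))
  refine ⟨hU.qe hX.qe hY.qe, le_of_eq ?_, ge_of_eq ?_⟩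
  · rw [hU.range_eq hX hY hn, h.range_eq ha hb hne, range_eq_of_amod hx hx0, range_eq_of_amod hy hy0,
      ker_eq_of_amod hx hx0, ker_eq_of_amod hy hy0]
  · rw [hU.ker_eq hX hY hn, h.ker_eq ha hb hne, range_eq_of_amod hx hx0, range_eq_of_amod hy hy0,
      ker_eq_of_amod hx hx0, ker_eq_of_amod hy hy0]

end Cfsg.Agent.Quad
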