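import Cfsg.Agent.Lib.Quad.Theta

/-!
The weight filtration on the algebra of `a`, `b`: words of length `l`.
-/

set_option autoImplicit false

namespace Cfsg.Agent.Quad

open Module Polynomial

variable {k : Type*} [Field k] {M : Type*} [AddCommGroup M] [Module k M] {a b : End k M}

/-- Combinations of weight at least `l`. -/
def Wgt (a b : End k M) (l : ℕ) (x : End k M) : Prop :=
  ∃ A B C D : k[X], X ^ ((l - 1) / 2) ∣ A ∧ X ^ (l / 2) ∣ B ∧ X ^ (l / 2) ∣ C ∧ X ^ ((l - 1) / 2) ∣ D ∧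
    x = theta a b A B C D - 1

theorem theta_add (a b : End k M) (A B C D A' B' C' D' : k[X]) :
    (theta a b A B C D - 1) + (theta a b A' B' C' D' - 1) =
      theta a b (A + A') (B + B') (C + C') (D + D') - 1 := by
  simp only [theta, map_add, add_mul]
  abel

theorem theta_neg (a b : End k M) (A B C D : k[X]) :
    -(theta a b A B C D - 1) = theta a b (-A) (-B) (-C) (-D) - 1 := by
  simp only [theta, map_neg, neg_mul]
  abel

theorem Wgt.add {l : ℕ} {x y : End k M} (hx : Wgt a b l x) (hy : Wgt a b l y) : Wgt a b l (x + y) := by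
  obtain ⟨A, B, C, D, hA, hB, hC, hD, rfl⟩ := hx
  obtain ⟨A', B', C', D', hA', hB', hC', hD', rfl⟩ := hy
  exact ⟨_, _, _, _, dvd_add hA hA', dvd_add hB hB', dvd_add hC hC', dvd_add hD hD', theta_add a b ..⟩

theorem Wgt.neg {l : ℕ} {x : End k M} (hx : Wgt a b l x) : Wgt a b l (-x) := by
  obtain ⟨A, B, C, D, hA, hB, hC, hD, rfl⟩ := hx
  exact ⟨_, _, _, _, (dvd_neg).2 hA, (dvd_neg).2 hB, (dvd_neg).2 hC, (dvd_neg).2 hD, theta_neg a b ..⟩

theorem Wgt.sub {l : ℕ} {x y : End k M} (hx : Wgt a b l x) (hy : Wgt a b l y) : Wgt a b l (x - y) := by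
  rw [sub_eq_add_neg]; exact hx.add hy.neg

theorem Wgt.mono {l m : ℕ} (h : l ≤ m) {x : End k M} (hx : Wgt a b m x) : Wgt a b l x := by
  obtain ⟨A, B, C, D, hA, hB, hC, hD, rfl⟩ := hx
  exact ⟨A, B, C, D, dvd_trans (pow_dvd_pow _ (by omega)) hA, dvd_trans (pow_dvd_pow _ (by omega)) hB,
    dvd_trans (pow_dvd_pow _ (by omega)) hC, dvd_trans (pow_dvd_pow _ (by omega)) hD, rfl⟩

theorem wgt_one (A B C D : k[X]) : Wgt a b 1 (theta a b A B C D - 1) :=
  ⟨A, B, C, D, by simp, by simp, by simp, by simp, rfl⟩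

theorem Wgt.mul (ha : a * a = 0) (hb : b * b = 0) {l m : ℕ} (hl : 1 ≤ l) (hm : 1 ≤ m) {x y : End k M}
    (hx : Wgt a b l x) (hy : Wgt a b m y) : Wgt a b (l + m) (x * y) := by
  obtain ⟨A, B, C, D, hA, hB, hC, hD, rfl⟩ := hx
  obtain ⟨A', B', C', D', hA', hB', hC', hD', rfl⟩ := hy
  refine ⟨X * A * A' + B * C', X * A * B' + X * B * D', X * C * A' + X * D * C', X * D * D' + C * B',
    ?_, ?_, ?_, ?_, ?_⟩
  case refine_5 =>
    have e : (theta a b A B C D - 1) * (theta a b A' B' C' D' - 1) =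
        (theta a b A B C D * theta a b A' B' C' D' - 1) +
          (-(theta a b A B C D - 1) + -(theta a b A' B' C' D' - 1)) := by noncomm_ring
    rw [e, theta_mul ha hb, theta_neg, theta_neg, theta_add, theta_add]
    congr 2 <;> ring
  all_goals
    first
    | refine dvd_add ?_ ?_
  all_goals
    first
    | exact dvd_trans (pow_dvd_pow X (show (l + m - 1) / 2 ≤ 1 + (l - 1) / 2 + (m - 1) / 2 by omega))
        (by rw [pow_add, pow_add, pow_one]; exact mul_dvd_mul (mul_dvd_mul_left X hA) hA')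
    | exact dvd_trans (pow_dvd_pow X (show (l + m - 1) / 2 ≤ l / 2 + m / 2 by omega))
        (by rw [pow_add]; exact mul_dvd_mul hB hC')
    | exact dvd_trans (pow_dvd_pow X (show (l + m) / 2 ≤ 1 + (l - 1) / 2 + m / 2 by omega))
        (by rw [pow_add, pow_add, pow_one]; exact mul_dvd_mul (mul_dvd_mul_left X hA) hB')
    | exact dvd_trans (pow_dvd_pow X (show (l + m) / 2 ≤ 1 + l / 2 + (m - 1) / 2 by omega))
        (by rw [pow_add, pow_add, pow_one]; exact mul_dvd_mul (mul_dvd_mul_left X hB) hD')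
    | exact dvd_trans (pow_dvd_pow X (show (l + m) / 2 ≤ 1 + l / 2 + (m - 1) / 2 by omega))
        (by rw [pow_add, pow_add, pow_one]; exact mul_dvd_mul (mul_dvd_mul_left X hC) hA')
    | exact dvd_trans (pow_dvd_pow X (show (l + m) / 2 ≤ 1 + (l - 1) / 2 + m / 2 by omega))
        (by rw [pow_add, pow_add, pow_one]; exact mul_dvd_mul (mul_dvd_mul_left X hD) hC')
    | exact dvd_trans (pow_dvd_pow X (show (l + m - 1) / 2 ≤ 1 + (l - 1) / 2 + (m - 1) / 2 by omega))
        (by rw [pow_add, pow_add, pow_one]; exact mul_dvd_mul (mul_dvd_mul_left X hD) hD')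
    | exact dvd_trans (pow_dvd_pow X (show (l + m - 1) / 2 ≤ l / 2 + m / 2 by omega))
        (by rw [pow_add]; exact mul_dvd_mul hC hB')

/-- The commutator raises the weight. -/
theorem Wgt.commutator (ha : a * a = 0) (hb : b * b = 0) {l : ℕ} (hl : 1 ≤ l)
    {g h : LinearMap.GeneralLinearGroup k M} (hg : Wgt a b 1 ((g : End k M) - 1))
    (hg' : Wgt a b 1 (((g⁻¹ : LinearMap.GeneralLinearGroup k M) : End k M) - 1))
    (hh : Wgt a b l ((h : End k M) - 1))
    (hh' : Wgt a b 1 (((h⁻¹ : LinearMap.GeneralLinearGroup k M) : End k M) - 1)) :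
    Wgt a b (l + 1) (((g * h * g⁻¹ * h⁻¹ : LinearMap.GeneralLinearGroup k M) : End k M) - 1) := by
  set G := (g : End k M) - 1 with hG
  set H := (h : End k M) - 1 with hH
  set G' := ((g⁻¹ : LinearMap.GeneralLinearGroup k M) : End k M) - 1 with hG'
  set H' := ((h⁻¹ : LinearMap.GeneralLinearGroup k M) : End k M) - 1 with hH'
  have e : ((g * h * g⁻¹ * h⁻¹ : LinearMap.GeneralLinearGroup k M) : End k M) - 1 =
      (G * H - H * G) + (G * H - H * G) * G' + ((G * H - H * G) + (G * H - H * G) * G') * H' := by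
    have h1 : (g : End k M) * (h : End k M) - (h : End k M) * g = G * H - H * G := by
      rw [hG, hH]; noncomm_ring
    have h2 : ((g * h * g⁻¹ * h⁻¹ : LinearMap.GeneralLinearGroup k M) : End k M) - 1 =
        ((g : End k M) * (h : End k M) - (h : End k M) * g) * (1 + G') * (1 + H') := by
      have e1 : (h : End k M) * g * ((g⁻¹ : LinearMap.GeneralLinearGroup k M) : End k M) *
          ((h⁻¹ : LinearMap.GeneralLinearGroup k M) : End k M) = 1 := by
        rw [mul_assoc (h : End k M), Units.mul_inv, mul_one, Units.mul_inv]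
      rw [hG', hH', add_sub_cancel, add_sub_cancel, sub_mul, sub_mul, e1]
      simp only [Units.val_mul]
    rw [h2, h1]
    noncomm_ring
  rw [e]
  have hC : Wgt a b (l + 1) (G * H - H * G) :=
    ((hg.mul ha hb le_rfl hl hh).mono (by omega)).sub (hh.mul ha hb hl le_rfl hg)
  have hC' : Wgt a b (l + 1) ((G * H - H * G) + (G * H - H * G) * G') :=
    hC.add ((hC.mul ha hb (by omega) le_rfl hg').mono (by omega))
  exact hC'.add ((hC'.mul ha hb (by omega) le_rfl hh').mono (by omega))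

theorem Wgt.mul_eq_zero {j l : ℕ} (hl : 2 * j + 2 ≤ l) {ε : End k M}
    (hε : aeval (a * b + b * a) (X ^ j : k[X]) * ε = 0) (hca : Commute a ε) (hcb : Commute b ε)
    {x : End k M} (hx : Wgt a b l x) : x * ε = 0 := by
  obtain ⟨A, B, C, D, hA, hB, hC, hD, rfl⟩ := hx
  have key : ∀ P : k[X], X ^ j ∣ P → aeval (a * b + b * a) P * ε = 0 := by
    rintro _ ⟨Q, rfl⟩
    rw [mul_comm, map_mul, mul_assoc, hε, mul_zero]
  have k1 := key A (dvd_trans (pow_dvd_pow _ (by omega)) hA)
  have k2 := key B (dvd_trans (pow_dvd_pow _ (by omega)) hB)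
  have k3 := key C (dvd_trans (pow_dvd_pow _ (by omega)) hC)
  have k4 := key D (dvd_trans (pow_dvd_pow _ (by omega)) hD)
  simp only [theta, add_sub_cancel_left, add_mul, mul_assoc, hcb.eq, hca.eq]
  simp only [← mul_assoc, k1, k2, k3, k4]
  simp only [mul_assoc, hcb.eq, hca.eq]
  simp only [← mul_assoc, k1, k2, k3, k4, zero_mul, add_zero]

end Cfsg.Agent.Quad
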