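import Cfsg.Agent.Lib.Quad.Nrm
import Cfsg.Agent.Lib.Root.Unipotent

/-!
The Weyl element of a partner pair, equality of dimensions, and existence of partners.
-/

set_option autoImplicit false

namespace Cfsg.Agent.Quad

open Cfsg Module

variable {k : Type*} [Field k] {M : Type*} [AddCommGroup M] [Module k M]
variable {G : Subgroup (LinearMap.GeneralLinearGroup k M)} {a b : End k M}

theorem Nrm.symm (h : Nrm a b) : Nrm b a := ⟨h.bab, h.aba⟩

theorem Nrm.not_nilpotent (h : Nrm a b) (ha : a ≠ 0) : ¬ IsNilpotent (a * b) := by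
  rintro ⟨n, hn⟩
  have key : ∀ i, (a * b) ^ i * a = a := by
    intro i
    induction i with
    | zero => rw [pow_zero, one_mul]
    | succ i ih => rw [pow_succ, mul_assoc _ (a * b) a, h.aba, ih]
  exact ha (by rw [← key n, hn, zero_mul])

theorem Nrm.left_id (h : Nrm a b) {ha : IsMinQ G a} {x : End k M} (hx : x ∈ amod ha) :
    a * b * x = x := by
  refine LinearMap.ext fun m => ?_
  obtain ⟨n, hn⟩ := hx.2.1 (LinearMap.mem_range_self x m)
  rw [Module.End.mul_apply, ← hn, ← Module.End.mul_apply, h.aba]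

theorem Nrm.right_id (h : Nrm a b) {ha : IsMinQ G a} {x : End k M} (hx : x ∈ amod ha) :
    x * (b * a) = x := by
  refine LinearMap.ext fun m => ?_
  have hk : m - (b * a) m ∈ LinearMap.ker a := by
    rw [LinearMap.mem_ker, map_sub, ← Module.End.mul_apply, ← mul_assoc, h.aba, sub_self]
  have := LinearMap.mem_ker.1 (hx.2.2 hk)
  rw [map_sub, sub_eq_zero] at this
  exact this.symm

variable {ha : IsMinQ G a} {hb : IsMinQ G b}

theorem mul_zero_of_mem {x y : End k M} (hx : x ∈ amod ha) (hy : y ∈ amod ha) : x * y = 0 :=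
  mul_eq_zero_of_amod hx hy

/-- Conjugation by the Weyl element sends `x` to `-a x a`. -/
theorem Nrm.qe_sandwich (h : Nrm a b) {x : End k M} (hx : x ∈ amod hb) : a * x * a ∈ amod ha := by
  refine ⟨?_, ?_, fun m hm => ?_⟩
  · obtain ⟨g, hg, hg'⟩ := ha.qe.2 1
    obtain ⟨g', hgm, hgm'⟩ := hb.qe.2 (-1)
    rw [one_smul] at hg'
    rw [neg_one_smul] at hgm'
    have hq := hx.1.conj (G.mul_mem (G.mul_mem hg hgm) hg)
    have hnb : (-b) * (-b) = 0 := by rw [neg_mul_neg, hb.sq]
    simp only [mul_inv_rev, Units.val_mul, hg', hgm', inv_val_of_val ha.sq hg', inv_val_of_val hnb hgm'] at hq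
    have e1 : b * a * x = x := h.symm.left_id hx
    have e2 : x * (a * b) = x := h.symm.right_id hx
    have e3 : b * x = 0 := mul_zero_of_mem (self_mem_amod hb) hx
    have e4 : x * b = 0 := mul_zero_of_mem hx (self_mem_amod hb)
    have k1 : (1 + a) * (1 + -b) * (1 + a) * x = a * x := by
      linear_combination (norm := noncomm_ring) -a * e1 - e1 - e3 - a * e3 + ha.sq * x
    have k2 : x * ((1 - a) * ((1 - -b) * (1 - a))) = -(x * a) := by
      linear_combination (norm := noncomm_ring) -e2 + e4 - e4 * a + e2 * a + x * ha.sq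
    rw [k1, mul_assoc, k2, mul_neg, ← mul_assoc] at hq
    simpa using hq.neg
  · rw [mul_assoc]; exact LinearMap.range_comp_le_range _ _
  · rw [LinearMap.mem_ker, Module.End.mul_apply, LinearMap.mem_ker.1 hm, map_zero]

variable [FiniteDimensional k M]

/-- Partners have spaces of the same dimension. -/
theorem Nrm.finrank_eq (h : Nrm a b) (ha : IsMinQ G a) (hb : IsMinQ G b) :
    finrank k (amod ha) = finrank k (amod hb) := by
  refine LinearEquiv.finrank_eq
    { toFun := fun x => ⟨b * x.1 * b, h.symm.qe_sandwich x.2⟩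
      map_add' := fun x y => Subtype.ext (by simp [mul_add, add_mul])
      map_smul' := fun s x => Subtype.ext (by simp)
      invFun := fun x => ⟨a * x.1 * a, h.qe_sandwich x.2⟩
      left_inv := fun x => Subtype.ext ?_
      right_inv := fun x => Subtype.ext ?_ }
  · calc a * (b * x.1 * b) * a = a * b * x.1 * (b * a) := by simp only [mul_assoc]
      _ = x.1 := by rw [h.left_id x.2, h.right_id x.2]
  · calc b * (a * x.1 * a) * b = b * a * x.1 * (a * b) := by simp only [mul_assoc]
      _ = x.1 := by rw [h.symm.left_id x.2, h.symm.right_id x.2]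

theorem finrank_amod_le_conj (ha : IsMinQ G a) {g : LinearMap.GeneralLinearGroup k M} (hg : g ∈ G)
    (hc : IsMinQ G ((g : End k M) * a * ((g⁻¹ : LinearMap.GeneralLinearGroup k M) : End k M))) :
    finrank k (amod ha) ≤ finrank k (amod hc) := by
  set gi : End k M := ((g⁻¹ : LinearMap.GeneralLinearGroup k M) : End k M) with hgi
  have hsurj : ∀ m, ∃ m', gi m' = m := fun m => ⟨(g : End k M) m, by
    rw [← Module.End.mul_apply, hgi, Units.inv_mul]; rfl⟩
  refine LinearMap.finrank_le_finrank_of_injective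
    (f := ({ toFun := fun x => ⟨(g : End k M) * x.1 * gi, x.2.1.conj hg, ?_, ?_⟩
             map_add' := fun x y => Subtype.ext (by simp [mul_add, add_mul])
             map_smul' := fun s x => Subtype.ext (by simp) } : amod ha →ₗ[k] amod hc)) fun x y e => ?_
  · rintro _ ⟨m, rfl⟩
    obtain ⟨n, hn⟩ := x.2.2.1 (LinearMap.mem_range_self x.1 (gi m))
    obtain ⟨n', hn'⟩ := hsurj n
    exact ⟨n', by rw [Module.End.mul_apply, Module.End.mul_apply, hn', hn]; rfl⟩
  · intro m hm
    rw [LinearMap.mem_ker, Module.End.mul_apply, Module.End.mul_apply] at hm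
    have h1 : a (gi m) = 0 := by
      have := congrArg gi hm
      rwa [map_zero, ← Module.End.mul_apply, hgi, Units.inv_mul, Module.End.one_apply] at this
    rw [LinearMap.mem_ker, Module.End.mul_apply, Module.End.mul_apply, LinearMap.mem_ker.1 (x.2.2.2 h1), map_zero]
  · have h1 : (g : End k M) * x.1 * gi = (g : End k M) * y.1 * gi := congrArg Subtype.val e
    have h2 := congrArg (fun z => gi * z * (g : End k M)) h1
    simp only [← mul_assoc, hgi, Units.inv_mul, one_mul] at h2
    simp only [mul_assoc, Units.inv_mul, mul_one] at h2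
    exact Subtype.ext h2

theorem finrank_amod_congr {a b : End k M} (h : a = b) (ha : IsMinQ G a) (hb : IsMinQ G b) :
    finrank k (amod ha) = finrank k (amod hb) := by subst h; rfl

theorem finrank_amod_conj (ha : IsMinQ G a) {g : LinearMap.GeneralLinearGroup k M} (hg : g ∈ G) :
    finrank k (amod (ha.conj hg)) = finrank k (amod ha) := by
  refine le_antisymm ?_ (finrank_amod_le_conj ha hg _)
  have h := finrank_amod_le_conj (ha.conj hg) (G.inv_mem hg) ((ha.conj hg).conj (G.inv_mem hg))
  refine h.trans (le_of_eq (finrank_amod_congr ?_ _ _))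
  rw [inv_inv]
  simp only [← mul_assoc, Units.inv_mul, one_mul]
  simp only [mul_assoc, Units.inv_mul, mul_one]

/-- The one-parameter group of `a`. -/
def oneParam (a : End k M) : Subgroup (LinearMap.GeneralLinearGroup k M) :=
  Subgroup.closure {g | ∃ s : k, (g : End k M) = 1 + s • a}

omit [FiniteDimensional k M] in
theorem conjBy_oneParam (a : End k M) (g : LinearMap.GeneralLinearGroup k M) :
    conjBy (oneParam a) g = oneParam ((g : End k M) * a * ((g⁻¹ : LinearMap.GeneralLinearGroup k M) : End k M)) := by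
  rw [conjBy, oneParam, oneParam, MonoidHom.map_closure]
  congr 1
  ext u
  constructor
  · rintro ⟨v, ⟨s, hs⟩, rfl⟩
    refine ⟨s, ?_⟩
    simp only [MulEquiv.coe_toMonoidHom, MulAut.conj_apply, Units.val_mul, hs, mul_add, add_mul, mul_one,
      Units.mul_inv, mul_smul_comm, smul_mul_assoc]
  · rintro ⟨s, hs⟩
    refine ⟨g⁻¹ * u * g, ⟨s, ?_⟩, by simp [mul_assoc]⟩
    simp only [Units.val_mul, hs, mul_add, add_mul, mul_one, Units.inv_mul, mul_smul_comm, smul_mul_assoc]
    congr 2
    simp only [← mul_assoc, Units.inv_mul, one_mul]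
    simp only [mul_assoc, Units.inv_mul, mul_one]

omit [FiniteDimensional k M] in
theorem isUnipotentOn_upair (haa : a * a = 0) (hbb : b * b = 0) (h : UPair a b) :
    IsUnipotentOn (oneParam a ⊔ oneParam b) := by
  have haa' : ∀ x, x * a * a = 0 := fun x => by rw [mul_assoc, haa, mul_zero]
  have hbb' : ∀ x, x * b * b = 0 := fun x => by rw [mul_assoc, hbb, mul_zero]
  have h1' : ∀ x, x * a * b * a = 0 := fun x => by
    rw [mul_assoc, mul_assoc, ← mul_assoc a, h.aba, mul_zero]
  have h2' : ∀ x, x * b * a * b = 0 := fun x => by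
    rw [mul_assoc, mul_assoc, ← mul_assoc b, h.bab, mul_zero]
  set S1 : Submodule k (End k M) := Submodule.span k {a, b, a * b, b * a} with hS1
  set S2 : Submodule k (End k M) := Submodule.span k {a * b, b * a} with hS2
  have hmul : S1 * S1 ≤ S2 := by
    rw [hS1, hS2, Submodule.span_mul_span, Submodule.span_le]
    rintro _ ⟨x, hx, y, hy, rfl⟩
    simp only [Set.mem_insert_iff, Set.mem_singleton_iff] at hx hy
    rcases hx with rfl | rfl | rfl | rfl <;> rcases hy with rfl | rfl | rfl | rfl <;>
      simp only [← mul_assoc, haa, haa', hbb, hbb', h.aba, h.bab, h1', h2', zero_mul, SetLike.mem_coe,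
        Submodule.zero_mem] <;>
      first
        | exact Submodule.subset_span (Or.inl rfl)
        | exact Submodule.subset_span (Or.inr rfl)
  have h12 : S2 ≤ S1 := Submodule.span_mono fun x hx => by
    rcases hx with rfl | rfl <;> simp
  have h3 : S2 * S1 ≤ ⊥ := by
    rw [hS2, hS1, Submodule.span_mul_span, Submodule.span_le]
    rintro _ ⟨x, hx, y, hy, rfl⟩
    simp only [Set.mem_insert_iff, Set.mem_singleton_iff] at hx hy
    rcases hx with rfl | rfl <;> rcases hy with rfl | rfl | rfl | rfl <;>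
      simp only [← mul_assoc, haa, haa', hbb, hbb', h.aba, h.bab, h1', h2', zero_mul, SetLike.mem_coe,
        Submodule.zero_mem]
  have hone : ∀ x : End k M, x * x = 0 → x ∈ S1 → RootLib.augSpan (oneParam x) ≤ S1 := by
    intro x hxx hx
    refine RootLib.augSpan_le (hmul.trans h12) ?_ ?_ <;> rintro g ⟨s, hs⟩
    · rw [hs, add_sub_cancel_left]
      exact S1.smul_mem s hx
    · rw [inv_val_of_val (smul_mul_smul_zero hxx s s) hs]
      simpa using S1.smul_mem s hx
  have hle := RootLib.sup_augSpan_le (hmul.trans h12) (hone a haa (Submodule.subset_span (by simp)))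
    (hone b hbb (Submodule.subset_span (by simp)))
  refine RootLib.isUnipotentOn_iff.2 ⟨3, by norm_num, le_bot_iff.1 ((pow_le_pow_left' hle 3).trans ?_)⟩
  rw [pow_succ, pow_two]
  exact (RootLib.mulRightLe hmul S1).trans h3

/-- `G` has no non-trivial normal subgroup acting unipotently. -/
def NoUnip (G : Subgroup (LinearMap.GeneralLinearGroup k M)) : Prop :=
  ∀ U : Subgroup (LinearMap.GeneralLinearGroup k M), U ≤ G → (∀ g ∈ G, conjBy U g = U) →
    IsUnipotentOn U → U = ⊥

omit [FiniteDimensional k M] in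
theorem noUnip_of_irreducible (hirr : IsIrreducibleFor G) : NoUnip G := by
  intro U _ hnorm hU
  obtain ⟨n, -, hn⟩ := RootLib.isUnipotentOn_iff.1 hU
  -- the vectors fixed by the normal unipotent group
  let W0 : Submodule k M := ⨅ u ∈ U, LinearMap.ker ((u : End k M) - 1)
  have hW0 : ∀ {m : M}, m ∈ W0 ↔ ∀ u ∈ U, ((u : End k M) - 1) m = 0 := fun {m} => by
    simp only [W0, Submodule.mem_iInf, LinearMap.mem_ker]
  have hinv : ∀ g ∈ G, ∀ w ∈ W0, (g : End k M) w ∈ W0 := by
    intro g hg w hw
    refine hW0.2 fun u hu => ?_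
    have hm : g⁻¹ * u * g ∈ U := by
      have h := hnorm g⁻¹ (G.inv_mem hg)
      rw [← h]
      exact ⟨u, hu, by simp⟩
    have h := hW0.1 hw _ hm
    rw [LinearMap.sub_apply, Module.End.one_apply, sub_eq_zero, Units.val_mul, Units.val_mul,
      Module.End.mul_apply, Module.End.mul_apply] at h
    have h2 := congrArg (g : End k M) h
    rw [← Module.End.mul_apply, Units.mul_inv, Module.End.one_apply] at h2
    rw [LinearMap.sub_apply, Module.End.one_apply]
    exact sub_eq_zero.2 h2
  rcases hirr.2 W0 hinv with h | h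
  · have hex : ∀ i, i ≤ n → ∀ m : M, ∀ x ∈ RootLib.augSpan U ^ (n - i), x m = 0 := by
      intro i
      induction i with
      | zero =>
        intro _ m x hx
        rw [Nat.sub_zero, hn, Submodule.mem_bot] at hx
        rw [hx, LinearMap.zero_apply]
      | succ i ih =>
        intro hi m x hx
        have : x m ∈ W0 := hW0.2 fun u hu => by
          refine ih (by omega) m (((u : End k M) - 1) * x) ?_
          rw [show n - i = n - (i + 1) + 1 by omega, pow_succ']
          exact Submodule.mul_mem_mul (RootLib.sub_one_mem_augSpan hu) hx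
        rwa [h, Submodule.mem_bot] at this
    obtain ⟨m, hm⟩ := hirr.1
    have := hex n le_rfl m 1 (by rw [Nat.sub_self, pow_zero]; exact Submodule.one_le.1 le_rfl)
    exact absurd (by simpa using this) hm
  · refine (Subgroup.eq_bot_iff_forall U).2 fun u hu => Units.ext (LinearMap.ext fun m => ?_)
    have := hW0.1 (h ▸ Submodule.mem_top : m ∈ W0) u hu
    rw [LinearMap.sub_apply, sub_eq_zero] at this
    exact this

/-- Every minimal quadratic map has a partner in its conjugacy class. -/
theorem exists_partner (hk : (2 : k) ≠ 0) (hirr : NoUnip G) (ha : IsMinQ G a) :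
    ∃ (c : End k M) (hc : IsMinQ G c), ¬ IsNilpotent (a * c) ∧ finrank k (amod hc) = finrank k (amod ha) := by
  by_contra hcon
  push Not at hcon
  set W := {A | ∃ g ∈ G, A = conjBy (oneParam a) g} with hW
  have hWG : ∀ A ∈ W, A ≤ G := by
    rintro _ ⟨g, hg, rfl⟩
    rw [conjBy_oneParam]
    refine (Subgroup.closure_le G).2 ?_
    rintro u ⟨s, hs⟩
    obtain ⟨v, hv, hv'⟩ := (ha.conj hg).qe.2 s
    rw [show u = v from Units.ext (hs.trans hv'.symm)]
    exact hv
  have hWW : ∀ A ∈ W, ∀ B ∈ W, IsUnipotentOn (A ⊔ B) := by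
    rintro _ ⟨g, hg, rfl⟩ _ ⟨g', hg', rfl⟩
    rw [conjBy_oneParam, conjBy_oneParam]
    refine isUnipotentOn_upair (ha.conj hg).sq (ha.conj hg').sq ?_
    set x := (g : End k M) * a * ((g⁻¹ : LinearMap.GeneralLinearGroup k M) : End k M)
    set y := (g' : End k M) * a * ((g'⁻¹ : LinearMap.GeneralLinearGroup k M) : End k M)
    suffices h : IsNilpotent (x * y) from
      ⟨(triple_eq_zero hk (ha.conj hg) (ha.conj hg') h).1, (triple_eq_zero hk (ha.conj hg) (ha.conj hg') h).2⟩
    by_contra hxy
    have hm : g⁻¹ * g' ∈ G := G.mul_mem (G.inv_mem hg) hg'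
    refine hcon _ (ha.conj hm) (fun ⟨n, hn⟩ => hxy ⟨n, ?_⟩) (finrank_amod_conj ha hm)
    have e : x * y = (g : End k M) * (a * (((g⁻¹ * g' : LinearMap.GeneralLinearGroup k M) : End k M) * a *
        (((g⁻¹ * g')⁻¹ : LinearMap.GeneralLinearGroup k M) : End k M))) *
          ((g⁻¹ : LinearMap.GeneralLinearGroup k M) : End k M) := by
      simp only [x, y, mul_inv_rev, inv_inv, Units.val_mul, mul_assoc, Units.mul_inv, mul_one]
    have key : ∀ (z : End k M) (i : ℕ),
        ((g : End k M) * z * ((g⁻¹ : LinearMap.GeneralLinearGroup k M) : End k M)) ^ i =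
          (g : End k M) * z ^ i * ((g⁻¹ : LinearMap.GeneralLinearGroup k M) : End k M) := by
      intro z i
      induction i with
      | zero => simp
      | succ i ih =>
        rw [pow_succ, ih, pow_succ]
        simp only [mul_assoc]
        rw [← mul_assoc ((g⁻¹ : LinearMap.GeneralLinearGroup k M) : End k M), Units.inv_mul, one_mul]
    rw [e, key, hn, mul_zero, zero_mul]
  have hWconj : ∀ A ∈ W, ∀ g ∈ G, conjBy A g ∈ W := by
    rintro _ ⟨h, hh, rfl⟩ g hg
    refine ⟨g * h, G.mul_mem hg hh, ?_⟩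
    rw [conjBy_oneParam, conjBy_oneParam, conjBy_oneParam]
    simp only [mul_inv_rev, Units.val_mul, mul_assoc]
  have hU := RootLib.isUnipotentOn_iSup hWG hWW hWconj
  set U := ⨆ A ∈ W, A with hUdef
  obtain ⟨n, -, hn⟩ := RootLib.isUnipotentOn_iff.1 hU
  obtain ⟨g1, hg1, hg1'⟩ : ∃ g ∈ U, (g : End k M) = 1 + a := by
    refine ⟨oneAdd a ha.sq, ?_, rfl⟩
    have h : oneParam a ∈ W := ⟨1, G.one_mem, by ext; simp⟩
    exact (le_biSup id h : oneParam a ≤ U) (Subgroup.subset_closure ⟨1, by rw [one_smul]; rfl⟩)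
  have hUG : U ≤ G := iSup₂_le hWG
  have hle : ∀ g ∈ G, conjBy U g ≤ U := fun g hg => by
    simp only [hUdef, conjBy, Subgroup.map_iSup]
    exact iSup₂_le fun A hA => le_iSup₂_of_le (conjBy A g) (hWconj A hA g hg) le_rfl
  have hnorm : ∀ g ∈ G, conjBy U g = U := fun g hg => le_antisymm (hle g hg) fun x hx =>
    ⟨g⁻¹ * x * g⁻¹⁻¹, hle g⁻¹ (G.inv_mem hg) ⟨x, hx, rfl⟩, by simp [mul_assoc]⟩
  have hbot := hirr U hUG hnorm hU
  refine ha.ne_zero ?_
  rw [hbot, Subgroup.mem_bot] at hg1
  rw [hg1, Units.val_one] at hg1'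
  simpa using hg1'.symm

end Cfsg.Agent.Quad
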